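import Groth.Agent.TateLoc.K809.UnitGrp
import Groth.Agent.GrpSch.K267.DeligneSch
import Mathlib.AlgebraicGeometry.Morphisms.Smooth

/-!
# Finite locally free commutative group schemes over an affine base embed in smooth affine commutative group schemes
-/

set_option autoImplicit false
universe u

open WithConv TensorProduct Coalgebra
open CategoryTheory CategoryTheory.Limits MonoidalCategory CartesianMonoidalCategory MonObj GrpObj AlgebraicGeometry Opposite

namespace K809.UnitSch

open K809.UnitAlg K809.UnitGrp

attribute [local instance] Functor.grpObjObj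

theorem exists_emb_spec (R : CommRingCat.{u}) (H : Type u) [CommRing H] [HopfAlgebra R H] [IsCocomm R H]
    [Module.Finite R H] [Module.Projective R H] :
    ∃ (A : Over (Spec R)) (_ : GrpObj A) (_ : IsCommMonObj A)
      (v : (algSpec R).obj (op (CommAlgCat.of R H)) ⟶ A) (_ : IsMonHom v),
      Mono v ∧ Smooth A.hom ∧ IsAffine A.left := by
  let A : Over (Spec R) := (algSpec R).obj (Ao R H)
  let g : GrpObj A := Functor.grpObjObj
  have hc : IsCommMonObj A := inferInstance
  let v : (algSpec R).obj (op (CommAlgCat.of R H)) ⟶ A := (algSpec R).map (emb R H)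
  have hv : IsMonHom v := inferInstance
  have hm : Mono v := inferInstance
  refine ⟨A, g, hc, v, hv, hm, ?_, ?_⟩
  · change Smooth (Spec.map (CommRingCat.ofHom (algebraMap R (B R H))))
    rw [HasRingHomProperty.Spec_iff (P := @Smooth)]
    exact RingHom.smooth_algebraMap.2 (smooth_B (R := R) (H := H))
  · change IsAffine (Spec (CommRingCat.of (B R H)))
    infer_instance

theorem data_of_iso {R : CommRingCat.{u}} {C : Type u} [CommRing C] [Algebra R C] {X : Scheme.{u}}
    (f : X ⟶ Spec R) [IsFinite f] [Flat f] [LocallyOfFinitePresentation f]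
    (j : Spec (CommRingCat.of C) ⟶ X) [IsIso j]
    (hw : j ≫ f = Spec.map (CommRingCat.ofHom (algebraMap R C))) : Module.Finite R C ∧ Module.Projective R C := by
  have hfin : Module.Finite R C := by
    have : IsFinite (j ≫ f) := inferInstance
    rw [hw, IsFinite.SpecMap_iff] at this
    exact RingHom.finite_algebraMap.mp this
  have hfl : Module.Flat R C := by
    have : Flat (j ≫ f) := inferInstance
    rw [hw, Flat.SpecMap_iff] at this
    exact (RingHom.flat_algebraMap_iff (R := R) (S := C)).mp this
  have hfp : Algebra.FinitePresentation R C := by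
    have : LocallyOfFinitePresentation (j ≫ f) := inferInstance
    rw [hw, HasRingHomProperty.Spec_iff (P := @LocallyOfFinitePresentation)] at this
    exact (RingHom.finitePresentation_algebraMap (A := R) (B := C)).mp this
  have hfp' : Module.FinitePresentation R C :=
    Module.FinitePresentation.of_finite_of_finitePresentation R C
  exact ⟨hfin, Module.Flat.projective_of_finitePresentation⟩

/-- A finite locally free commutative group scheme over an affine scheme is a subgroup of a smooth affine commutative
group scheme. -/
theorem exists_emb (R : CommRingCat.{u}) (I : Over (Spec R)) [GrpObj I] [IsCommMonObj I] [IsFinite I.hom] [Flat I.hom]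
    [LocallyOfFinitePresentation I.hom] :
    ∃ (A : Over (Spec R)) (_ : GrpObj A) (_ : IsCommMonObj A) (v : I ⟶ A) (_ : IsMonHom v),
      Mono v ∧ Smooth A.hom ∧ IsAffine A.left := by
  have : IsAffine I.left := isAffine_of_isAffineHom I.hom
  have h2 : (hopfSpec R).essImage (Grp.mk I) := essImage_hopfSpec.2 this
  obtain ⟨C, ⟨e⟩⟩ := h2
  let C' : Type u := C.unop
  let I' : Over (Spec R) := (Spec (CommRingCat.of C')).asOver (Spec R)
  let i : I' ≅ I := (Grp.forget _).mapIso e
  have hi : IsMonHom i.hom := inferInstanceAs (IsMonHom (e.hom.hom.hom))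
  have hi' : IsMonHom i.inv := inferInstanceAs (IsMonHom (e.inv.hom.hom))
  have hil : IsIso i.hom.left := inferInstanceAs (IsIso ((Over.forget _).map i.hom))
  have hc : IsCommMonObj I' := K267.DeligneSch.isCommMonObj_of_iso i.hom
  have hil' : IsIso (X := Spec (CommRingCat.of C')) i.hom.left := hil
  have hcc : Coalgebra.IsCocomm R C' := K267.DeligneSch.isCocomm_of_isCommMonObj hc
  obtain ⟨hfin, hproj⟩ := data_of_iso (R := R) (C := C') I.hom i.hom.left (Over.w i.hom)
  obtain ⟨A, g, hA, v, hv, hm, hs, ha⟩ := exists_emb_spec R C'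
  let v' : I' ⟶ A := v
  have hv' : IsMonHom v' := hv
  have hm' : Mono v' := hm
  let w : I ⟶ A := i.inv ≫ v'
  have hw1 : IsMonHom w := inferInstanceAs (IsMonHom (i.inv ≫ v'))
  have hw2 : Mono w := mono_comp i.inv v'
  exact ⟨A, g, hA, w, hw1, hw2, hs, ha⟩

end K809.UnitSch
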