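import Groth.Agent.TateLoc.K809.CechDict
import Groth.Agent.Sga3B.MT.EtSec
import Groth.Agent.Sga3B.Hens.PtScheme

/-!
# Cocycles of a smooth group scheme are étale-locally coboundaries (local statement)
-/

set_option autoImplicit false

universe w v u

open CategoryTheory CategoryTheory.Limits AlgebraicGeometry Opposite TensorProduct MonObj
open Groth.Agent.Etrest.FppfCoch Groth.Agent.Books.AffBridge K809.CechAlg K809.CechGeo K809.KerGrp K809.SmoothFun
open K809.CechDict Groth.Agent.Sga3B.Hens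

namespace K809.CaLocal

variable {A : Type u} [CommRing A]

/-- A point whose image lies in a chart factors through the chart. -/
lemma exists_fac {𝒢 : Over (Spec (CommRingCat.of A))} {E : Type u} [CommRing E] [Algebra A E]
    (j : SpecOver A E ⟶ 𝒢) [IsOpenImmersion j.left] {S : Type u} [CommRing S] [Algebra A S]
    (x : SpecOver A S ⟶ 𝒢) (h : Set.range x.left ⊆ Set.range j.left) :
    ∃ e : E →ₐ[A] S, specMap A e ≫ j = x := by
  let x' : SpecOver A S ⟶ SpecOver A E := Over.homMk (IsOpenImmersion.lift j.left x.left h) (by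
    rw [← Over.w j, ← Category.assoc, IsOpenImmersion.lift_fac]
    exact Over.w x)
  refine ⟨specPreimage A x', ?_⟩
  rw [specMap_specPreimage]
  ext1
  exact IsOpenImmersion.lift_fac _ _ _

/-- The chart given by an affine open. -/
lemma exists_chart_of_isAffineOpen (𝒢 : Over (Spec (CommRingCat.of A))) [Smooth 𝒢.hom] (O : 𝒢.left.Opens)
    (hO : IsAffineOpen O) :
    ∃ (E : Type u) (_ : CommRing E) (_ : Algebra A E) (_ : Algebra.Smooth A E) (j : SpecOver A E ⟶ 𝒢),
      IsOpenImmersion j.left ∧ Set.range j.left = O := by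
  let R := Γ(𝒢.left, O)
  let j₀ : Spec R ⟶ 𝒢.left := hO.fromSpec
  let φ : CommRingCat.of A ⟶ R := Spec.preimage (j₀ ≫ 𝒢.hom)
  let : Algebra A R := φ.hom.toAlgebra
  have hφ : Spec.map φ = j₀ ≫ 𝒢.hom := Spec.map_preimage _
  let j : SpecOver A R ⟶ 𝒢 := Over.homMk j₀ hφ.symm
  have hj : IsOpenImmersion j.left := inferInstanceAs (IsOpenImmersion hO.fromSpec)
  have hsm : Smooth (SpecOver A R).hom := by
    have h1 : j.left ≫ 𝒢.hom = (SpecOver A R).hom := Over.w j
    rw [← h1]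
    infer_instance
  have hsm' : (algebraMap A R).Smooth := by
    have h2 : Smooth (Spec.map (CommRingCat.ofHom (algebraMap A R))) := hsm
    rwa [HasRingHomProperty.Spec_iff (P := @Smooth)] at h2
  have hsm'' : Algebra.Smooth A R := by
    rw [RingHom.smooth_algebraMap] at hsm'
    exact hsm'
  exact ⟨R, inferInstance, inferInstance, hsm'', j, hj, hO.range_fromSpec⟩

variable {A' : Type u} [CommRing A'] [Algebra A A'] {X : Scheme.{u}} (f : Spec (CommRingCat.of A) ⟶ X)
  (G : Over X) [GrpObj G] [IsCommMonObj G] {T' T : Over X} {p : T' ⟶ T} {e : sp f A ⟶ T} {t : sp f A' ⟶ T'}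

set_option backward.isDefEq.respectTransparency false in
/-- Local statement. -/
theorem exists_cob [Smooth G.hom] [IsSeparated G.hom] [Module.Finite A A'] [Module.Free A A']
    [Module.FaithfullyFlat A A'] (hT : IsPullback t (spm f (Algebra.ofId A A')) p e)
    (n : ℕ) {c : Fam (CGrpSh.ptsPre G) (sp f A) T' (n + 1)} (hc : IsCoch p e c) (hz : IsCocycle p e c)
    {E₀ : Type u} [CommRing E₀] [Algebra A E₀] [Algebra.FormallySmooth A E₀] (j₀ : SpecOver A E₀ ⟶ Red.bc f G)
    [IsOpenImmersion j₀.left] {ε : E₀ →ₐ[A] A} (hε : specMap A ε ≫ j₀ = 1)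
    (Ω : Type u) [Field Ω] [IsAlgClosed Ω] [Algebra A Ω]
    (hAF : ∀ F : Set (Red.bc f G).left, F.Finite →
      (∀ y ∈ F, (Red.bc f G).hom y = (SpecOver A Ω).hom (⊥ : PrimeSpectrum Ω)) →
      ∃ O : (Red.bc f G).left.Opens, IsAffineOpen O ∧ F ⊆ O) :
    ∃ (B : Type u) (_ : CommRing B) (_ : Algebra A B) (q₁ : PrimeSpectrum B),
      Algebra.Etale A B ∧ q₁.comap (algebraMap A B) = (⊥ : PrimeSpectrum Ω).comap (algebraMap A Ω) ∧
      ∃ b : Fam (CGrpSh.ptsPre G) (sp f B) T' n, IsCoch p (spm f (Algebra.ofId A B) ≫ e) b ∧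
        IsCob p (spm f (Algebra.ofId A B) ≫ e) b (resF (spm f (Algebra.ofId A B)) c) := by
  have hsm : Smooth (Red.bc f G).hom := inferInstanceAs (Smooth (pullback.snd G.hom f))
  have hsep : IsSeparated (Red.bc f G).hom := inferInstanceAs (IsSeparated (pullback.snd G.hom f))
  -- a section over `Ω`
  obtain ⟨χ₀⟩ := Groth.Agent.Sga3B.MT.EtSec.exists_point (K := Ω) (E := Ω ⊗[A] A')
  let χ : A' →ₐ[A] Ω := (χ₀.restrictScalars A).comp Algebra.TensorProduct.includeRight
  have hs : (spm f χ ≫ t) ≫ p = spm f (Algebra.ofId A Ω) ≫ e := by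
    rw [Category.assoc, hT.w, ← Category.assoc, ← spm_comp]
    congr 2
    exact Subsingleton.elim _ _
  obtain ⟨b₀, hb₀, hb₀c⟩ := exists_cob_of_section _ hs (resF (spm f (Algebra.ofId A Ω)) c) (hc.res _) (hz.res _)
  set z := (θ f G _).symm (c _ (spm f (Algebra.ofId A (P A A' (n + 2)))) (fun i => spm f (y A A' (n + 2) i) ≫ t))
    with hzdef
  have h0 := cob_of_isCob f G hT n Ω hb₀ hc hb₀c
  set β₀ := (θ f G _).symm (b₀ _ (πB f Ω (n + 1)) (yB f t Ω (n + 1))) with hβ₀
  rw [← hzdef] at h0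
  -- a chart containing its image
  let x₀ : SpecOver A (Ω ⊗[A] P A A' (n + 1)) ⟶ Red.bc f G := β₀.toMul
  have hfin : Finite (PrimeSpectrum (Ω ⊗[A] P A A' (n + 1))) := by
    have : Module.Finite Ω (Ω ⊗[A] P A A' (n + 1)) := inferInstance
    have : IsArtinianRing (Ω ⊗[A] P A A' (n + 1)) := IsArtinianRing.of_finite Ω _
    infer_instance
  have hF : (Set.range x₀.left).Finite := by
    have : Finite (SpecOver A (Ω ⊗[A] P A A' (n + 1))).left := hfin
    exact Set.finite_range _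
  obtain ⟨O, hO, hFO⟩ := hAF _ hF (by
    rintro _ ⟨w, rfl⟩
    have h1 : x₀.left ≫ (Red.bc f G).hom = (specMap A (Algebra.TensorProduct.includeLeft :
        Ω →ₐ[A] Ω ⊗[A] P A A' (n + 1))).left ≫ (SpecOver A Ω).hom := (Over.w x₀).trans (Over.w _).symm
    have h2 : (specMap A (Algebra.TensorProduct.includeLeft : Ω →ₐ[A] Ω ⊗[A] P A A' (n + 1))).left w =
        (⊥ : PrimeSpectrum Ω) := Subsingleton.elim (α := PrimeSpectrum Ω) _ _
    rw [← Scheme.Hom.comp_apply, h1, Scheme.Hom.comp_apply, h2])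
  obtain ⟨E, _, _, _, j, hj, hr⟩ := exists_chart_of_isAffineOpen (Red.bc f G) O hO
  obtain ⟨e₀, he₀⟩ := exists_fac j x₀ (by rw [hr]; exact hFO)
  -- the smooth algebra
  obtain ⟨Q, _, _, _, ev, hev, huniv⟩ := exists_smooth (s := sg (n + 2)) (δ := δ A A' (n + 1)) (s' := sg (n + 3))
    (δ' := δ A A' (n + 2)) (fun G _ H => sum_sum_zero A A' n H) (fun M _ _ z hz => hex n M z hz) j₀ hε j z
    (sum_res_eq_zero f G hT (n + 1) hc hz)
  obtain ⟨q, -⟩ := huniv Ω e₀ (by rw [he₀]; exact h0)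
  obtain ⟨B, _, _, ψ, q₁, hB, hq₁⟩ := Groth.Agent.Sga3B.MT.EtSec.exists_etale_section (B := A) (C := Q)
    ((⊥ : PrimeSpectrum Ω).comap q.toRingHom)
  refine ⟨B, inferInstance, inferInstance, q₁, hB, ?_, ?_⟩
  · rw [hq₁, ← PrimeSpectrum.comap_comp_apply]
    congr 1
    exact q.comp_algebraMap
  · refine exists_isCob f G hT n B hc (res (bcR (P A A' (n + 1)) ψ) (Additive.ofMul (specMap A ev ≫ j))) ?_
    rw [cob_res, hev, res_cst]

end K809.CaLocal
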