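import Mathlib.AlgebraicGeometry.Morphisms.FlatDescent
import Mathlib.AlgebraicGeometry.Morphisms.Finite
import Mathlib.RingTheory.Spectrum.Prime.FreeLocus
import Mathlib.RingTheory.Finiteness.ModuleFinitePresentation
import Groth.Prelude.Def_Red

/-!
# Affine neighbourhoods

* `AF G`: finite subsets of fibres of `G ⟶ X` are contained in small affine opens.
* `isAffineOpen_preimage`: preimages of small affine opens under base change by an affine scheme.
* `exists_unit_nhd`: affine neighbourhoods of the unit section.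
* `exists_free_nhd`: a finite locally free morphism over an affine scheme is free near a point.
-/

set_option autoImplicit false

universe u

open CategoryTheory CategoryTheory.Limits AlgebraicGeometry Opposite TensorProduct

namespace K809.AffNhd

variable {X : Scheme.{u}}

/-- Every finite set of points of `G` over a point `x` of `X` lies in an affine open which lies over an affine open of `X`. -/
def AF (G : Over X) : Prop :=
  ∀ (x : X) (F : Set G.left), F.Finite → (∀ y ∈ F, G.hom y = x) →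
    ∃ O : G.left.Opens, IsAffineOpen O ∧ F ⊆ O ∧ ∃ X₀ : X.Opens, IsAffineOpen X₀ ∧ O ≤ G.hom ⁻¹ᵁ X₀

/-- Shrinking an affine open over a basic open. -/
lemma isAffineOpen_inf {G X : Scheme.{u}} (h : G ⟶ X) {X₀ : X.Opens} (g : Γ(X, X₀)) {O : G.Opens} (hO : IsAffineOpen O)
    (hle : O ≤ h ⁻¹ᵁ X₀) : IsAffineOpen (O ⊓ h ⁻¹ᵁ (X.basicOpen g)) := by
  have h1 := hO.basicOpen (G.presheaf.map (homOfLE hle).op (h.app X₀ g))
  rw [Scheme.basicOpen_res] at h1
  rw [Scheme.preimage_basicOpen]
  exact h1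

lemma AF.exists_le {G : Over X} (h : AF G) {X₂ : X.Opens} {x : X} (hx : x ∈ X₂) (F : Set G.left)
    (hF : F.Finite) (hFx : ∀ y ∈ F, G.hom y = x) : ∃ O : G.left.Opens, IsAffineOpen O ∧ F ⊆ O ∧ O ≤ G.hom ⁻¹ᵁ X₂ := by
  rcases F.eq_empty_or_nonempty with rfl | ⟨y, hy⟩
  · exact ⟨⊥, isAffineOpen_bot _, Set.empty_subset _, bot_le⟩
  obtain ⟨O, hO, hFO, X₀, hX₀, hle⟩ := h x F hF hFx
  have hx₀ : x ∈ X₀ := by
    have := hle (hFO hy)
    rwa [← hFx y hy]
  obtain ⟨g, hg, hxg⟩ := hX₀.exists_basicOpen_le (V := X₂) ⟨x, hx⟩ hx₀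
  refine ⟨O ⊓ G.hom ⁻¹ᵁ (X.basicOpen g), isAffineOpen_inf G.hom g hO hle, fun z hz => ⟨hFO hz, ?_⟩, fun z hz => hg hz.2⟩
  change G.hom z ∈ X.basicOpen g
  rw [hFx z hz]
  exact hxg

/-- Preimages of small affine opens. -/
lemma isAffineOpen_preimage {G X Z : Scheme.{u}} [IsAffine Z] (h : G ⟶ X) (f : Z ⟶ X) {X₂ : X.Opens}
    (hX₂ : IsAffineOpen X₂) (hf : Set.range f ⊆ X₂) {O : G.Opens} (hO : IsAffineOpen O) (hle : O ≤ h ⁻¹ᵁ X₂) :
    IsAffineOpen ((pullback.fst h f) ⁻¹ᵁ O) := by
  have h1 : IsPullback (((pullback.fst h f) ⁻¹ᵁ O).ι ≫ pullback.snd h f) (pullback.fst h f ∣_ O) f (O.ι ≫ h) :=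
    (isPullback_morphismRestrict (pullback.fst h f) O).flip.paste_horiz (IsPullback.of_hasPullback h f).flip
  let f' : Z ⟶ X₂ := IsOpenImmersion.lift X₂.ι f (by simpa using hf)
  have hf' : f' ≫ X₂.ι = f := IsOpenImmersion.lift_fac _ _ _
  let h' : (O : Scheme.{u}) ⟶ X₂ := IsOpenImmersion.lift X₂.ι (O.ι ≫ h) (by
    rintro _ ⟨z, rfl⟩
    simpa using hle z.2)
  have hh' : h' ≫ X₂.ι = O.ι ≫ h := IsOpenImmersion.lift_fac _ _ _
  have h1 : IsPullback (((pullback.fst h f) ⁻¹ᵁ O).ι ≫ pullback.snd h f) (pullback.fst h f ∣_ O) (f' ≫ X₂.ι)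
      (h' ≫ X₂.ι) := by
    rw [hf', hh']
    exact h1
  have h2 : IsPullback (((pullback.fst h f) ⁻¹ᵁ O).ι ≫ pullback.snd h f) (pullback.fst h f ∣_ O) f' h' := by
    refine ⟨⟨?_⟩, ⟨PullbackCone.IsLimit.mk _ (fun s => h1.lift s.fst s.snd ?_) (fun s => h1.lift_fst _ _ _)
      (fun s => h1.lift_snd _ _ _) (fun s m h3 h4 => h1.hom_ext ?_ ?_)⟩⟩
    · rw [← cancel_mono X₂.ι, Category.assoc, Category.assoc]
      exact h1.w
    · rw [← Category.assoc, s.condition, Category.assoc]
    · rw [h3, h1.lift_fst]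
    · rw [h4, h1.lift_snd]
  have : IsAffine X₂ := hX₂
  have : IsAffine O := hO
  exact IsAffine.of_isIso h2.isoPullback.hom

/-- Affine neighbourhoods of a section. -/
lemma exists_unit_nhd {G X : Scheme.{u}} (h : G ⟶ X) (η : X ⟶ G) (hη : η ≫ h = 𝟙 X) (x : X) :
    ∃ (X₂ : X.Opens) (O : G.Opens), IsAffineOpen X₂ ∧ IsAffineOpen O ∧ x ∈ X₂ ∧ O ≤ h ⁻¹ᵁ X₂ ∧ X₂ ≤ η ⁻¹ᵁ O := by
  obtain ⟨X₁, hX₁, hx₁, -⟩ := exists_isAffineOpen_mem_and_subset (X := X) (x := x) (U := ⊤) trivial
  have hηx : η x ∈ h ⁻¹ᵁ X₁ := by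
    change h (η x) ∈ X₁
    rw [← Scheme.Hom.comp_apply, hη]
    exact hx₁
  obtain ⟨O, hO, hxO, hle⟩ := exists_isAffineOpen_mem_and_subset hηx
  obtain ⟨g, hg, hxg⟩ := hX₁.exists_basicOpen_le (V := η ⁻¹ᵁ O) ⟨x, hxO⟩ hx₁
  refine ⟨X.basicOpen g, O ⊓ h ⁻¹ᵁ (X.basicOpen g), hX₁.basicOpen g, isAffineOpen_inf h g hO hle, hxg,
    fun z hz => hz.2, fun z hz => ⟨hg hz, ?_⟩⟩
  change h (η z) ∈ X.basicOpen g
  rw [← Scheme.Hom.comp_apply, hη]
  exact hz

/-- A finite flat module of finite presentation is free near a point. -/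
lemma exists_free_away (R M : Type u) [CommRing R] [AddCommGroup M] [Module R M] [Module.FinitePresentation R M]
    [Module.Flat R M] (x : PrimeSpectrum R) :
    ∃ g ∉ x.asIdeal, Module.Free (Localization.Away g) (Localization.Away g ⊗[R] M) := by
  have : Module.Free (Localization.AtPrime x.asIdeal) (LocalizedModule x.asIdeal.primeCompl M) :=
    Module.free_of_flat_of_isLocalRing
  obtain ⟨r, hr, hr', _⟩ := Module.FinitePresentation.exists_free_localizedModule_powers
    x.asIdeal.primeCompl (LocalizedModule.mkLinearMap x.asIdeal.primeCompl M)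
    (Localization.AtPrime x.asIdeal)
  exact ⟨r, hr, Module.Free.of_equiv (LocalizedModule.equivTensorProduct (Submonoid.powers r) M)⟩

/-- A finite locally free surjective morphism over an affine scheme is given by a free algebra near a point. -/
theorem exists_alg {R : Type u} [CommRing R] {Y : Scheme.{u}} (π : Y ⟶ Spec (CommRingCat.of R)) [IsFinite π] [Flat π]
    [LocallyOfFinitePresentation π] [Surjective π] (x : PrimeSpectrum R) :
    ∃ g ∉ x.asIdeal, ∃ (A' : Type u) (_ : CommRing A') (_ : Algebra (Localization.Away g) A')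
      (_ : Module.Finite (Localization.Away g) A') (_ : Module.Free (Localization.Away g) A')
      (_ : Module.FaithfullyFlat (Localization.Away g) A') (t : Spec (CommRingCat.of A') ⟶ Y),
      IsPullback t (Spec.map (CommRingCat.ofHom (algebraMap (Localization.Away g) A'))) π
        (Spec.map (CommRingCat.ofHom (algebraMap R (Localization.Away g)))) := by
  have haff : IsAffine Y := isAffine_of_isAffineHom π
  let S := Γ(Y, ⊤)
  let φ : CommRingCat.of R ⟶ S := Spec.preimage (Y.isoSpec.inv ≫ π)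
  have hφ : Spec.map φ = Y.isoSpec.inv ≫ π := Spec.map_preimage _
  let : Algebra R S := φ.hom.toAlgebra
  have hφ' : Spec.map (CommRingCat.ofHom (algebraMap R S)) = Y.isoSpec.inv ≫ π := hφ
  have h1 : IsFinite (Spec.map (CommRingCat.ofHom (algebraMap R S))) := by rw [hφ']; infer_instance
  have h2 : Flat (Spec.map (CommRingCat.ofHom (algebraMap R S))) := by rw [hφ']; infer_instance
  have h3 : LocallyOfFinitePresentation (Spec.map (CommRingCat.ofHom (algebraMap R S))) := by
    rw [hφ']; infer_instance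
  have h4 : Surjective (Spec.map (CommRingCat.ofHom (algebraMap R S))) := by rw [hφ']; infer_instance
  have h1' : Module.Finite R S := by
    rw [IsFinite.SpecMap_iff] at h1
    exact RingHom.finite_algebraMap.1 h1
  have h2' : Module.Flat R S := by
    rw [HasRingHomProperty.Spec_iff (P := @Flat)] at h2
    exact RingHom.flat_algebraMap_iff.1 h2
  have h3' : Algebra.FinitePresentation R S := by
    rw [HasRingHomProperty.Spec_iff (P := @LocallyOfFinitePresentation)] at h3
    exact RingHom.finitePresentation_algebraMap.1 h3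
  have h4' : Module.FinitePresentation R S := (Module.FinitePresentation.iff_finitePresentation_of_finite R S).2 h3'
  have h5 : Module.FaithfullyFlat R S := Module.FaithfullyFlat.of_comap_surjective h4.surj
  obtain ⟨g, hg, hfree⟩ := exists_free_away R S x
  refine ⟨g, hg, Localization.Away g ⊗[R] S, inferInstance, inferInstance, inferInstance, hfree, inferInstance,
    Spec.map (CommRingCat.ofHom (Algebra.TensorProduct.includeRight (R := R) (A := Localization.Away g) (B := S)).toRingHom) ≫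
      Y.isoSpec.inv, ?_⟩
  have h6 := isPullback_SpecMap_of_isPushout _ _ _ _ (CommRingCat.isPushout_tensorProduct R (Localization.Away g) S)
  have h7 : IsPullback Y.isoSpec.inv (Spec.map (CommRingCat.ofHom (algebraMap R S))) π (𝟙 _) :=
    IsPullback.of_horiz_isIso ⟨by rw [Category.comp_id, hφ']⟩
  have h8 := h6.flip.paste_horiz h7
  rw [Category.comp_id] at h8
  exact h8

end K809.AffNhd
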