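import Groth.Agent.TateLoc.K809.CaLocal
import Groth.Agent.TateLoc.K809.AffNhd
import Groth.Agent.Etrest.FppfMain

/-!
# Grothendieck's theorem: smooth commutative group schemes are étale-locally Čech acyclic
-/

set_option autoImplicit false

universe w v u

open CategoryTheory CategoryTheory.Limits AlgebraicGeometry Opposite TensorProduct MonObj
open Groth.Agent.Etrest.FppfCoch Groth.Agent.Books.AffBridge K809.CechAlg K809.CechGeo K809.KerGrp K809.SmoothFun
open K809.CechDict Groth.Agent.Sga3B.Hens Groth.Agent.Etrest.FppfMain K809.AffNhd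

namespace K809.CaSmooth

variable {X : Scheme.{u}} (G : Over X) [GrpObj G]

/-- the unit section -/
noncomputable def unitSec : X ⟶ G.left := (1 : Over.mk (𝟙 X) ⟶ G).left

lemma unitSec_hom : unitSec G ≫ G.hom = 𝟙 X := Over.w (1 : Over.mk (𝟙 X) ⟶ G)

lemma one_left (W : Over X) : (1 : W ⟶ G).left = W.hom ≫ unitSec G := by
  let k : W ⟶ Over.mk (𝟙 X) := Over.homMk W.hom (Category.comp_id _)
  have h : k ≫ (1 : Over.mk (𝟙 X) ⟶ G) = 1 := MonObj.comp_one k
  exact (congrArg (fun t => t.left) h).symm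

lemma one_bc_fst {A : Type u} [CommRing A] (f : Spec (CommRingCat.of A) ⟶ X) (S : Type u) [CommRing S] [Algebra A S] :
    (1 : SpecOver A S ⟶ Red.bc f G).left ≫ pullback.fst G.hom f = (SpecOver A S).hom ≫ f ≫ unitSec G := by
  have h1 : (1 : SpecOver A S ⟶ Red.bc f G) = Groth.Agent.Sga3B.BcPts.bcEquiv f (SpecOver A S) G 1 :=
    (Groth.Agent.Sga3B.BcPts.bcEquiv_one f).symm
  have h2 : (Groth.Agent.Sga3B.BcPts.bcEquiv f (SpecOver A S) G 1).left ≫ pullback.fst G.hom f =
      (1 : (Over.map f).obj (SpecOver A S) ⟶ G).left := by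
    simp [Groth.Agent.Sga3B.BcPts.bcEquiv, Over.mapPullbackAdj]
    exact pullback.lift_fst (f := G.hom) (g := f) _ _ _
  rw [h1, h2, one_left]
  exact Category.assoc _ _ _

set_option backward.isDefEq.respectTransparency false in
/-- **Grothendieck's theorem (Čech form)**: a smooth separated commutative group scheme, finite sets of points of whose fibres
have affine neighbourhoods, is étale-locally Čech acyclic for finite locally free coverings. -/
theorem ca_ptsPre [IsCommMonObj G] [Smooth G.hom] [IsSeparated G.hom] (hAF : AF G) : CA (CGrpSh.ptsPre G) := by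
  intro T T' U p e hp n c hc hz u
  have hp1 := hp.fin
  have hp2 := hp.flat
  have hp3 := hp.lfp
  have hp4 := hp.surj
  obtain ⟨X₂, O₂, hX₂, hO₂, hx₂, hle₂, hη₂⟩ := exists_unit_nhd G.hom (unitSec G) (unitSec_hom G) (U.hom u)
  obtain ⟨V₀, hV₀, huV₀, hV₀le⟩ := exists_isAffineOpen_mem_and_subset (X := U.left) (x := u) (U := U.hom ⁻¹ᵁ X₂) hx₂
  let R : Type u := Γ(U.left, V₀)
  let f₀ : Spec (CommRingCat.of R) ⟶ X := hV₀.fromSpec ≫ U.hom
  let y₀ : Spec (CommRingCat.of R) := hV₀.primeIdealOf ⟨u, huV₀⟩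
  have hy₀ : hV₀.fromSpec y₀ = u := hV₀.fromSpec_primeIdealOf ⟨u, huV₀⟩
  let U₀ : Over X := Over.mk f₀
  let g₀ : U₀ ⟶ U := Over.homMk hV₀.fromSpec rfl
  obtain ⟨g, hg, A', _, _, _, _, _, t, ht⟩ := exists_alg (pullback.snd p.left (g₀ ≫ e).left) y₀
  let A : Type u := Localization.Away g
  let ι₀ : Spec (CommRingCat.of A) ⟶ Spec (CommRingCat.of R) := Spec.map (CommRingCat.ofHom (algebraMap R A))
  have hι₀ : IsOpenImmersion ι₀ := inferInstanceAs (IsOpenImmersion (Spec.map (CommRingCat.ofHom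
    (algebraMap R (Localization.Away g)))))
  let f : Spec (CommRingCat.of A) ⟶ X := ι₀ ≫ f₀
  have hid : (SpecOver A A).hom = 𝟙 _ := Spec.map_id _
  have hfX₂ : Set.range f ⊆ X₂ := by
    rintro _ ⟨w, rfl⟩
    have h1 : hV₀.fromSpec (ι₀ w) ∈ V₀ := by
      have : hV₀.fromSpec (ι₀ w) ∈ Set.range hV₀.fromSpec := ⟨_, rfl⟩
      rwa [hV₀.range_fromSpec] at this
    have h2 := hV₀le h1
    exact h2
  let g₁ : sp f A ⟶ U := Over.homMk (ι₀ ≫ hV₀.fromSpec) (by
    change (ι₀ ≫ hV₀.fromSpec) ≫ U.hom = (SpecOver A A).hom ≫ f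
    rw [hid, Category.id_comp, Category.assoc])
  obtain ⟨x₁, hx₁⟩ : ∃ x₁ : PrimeSpectrum A, x₁.comap (algebraMap R A) = y₀ := by
    have h1 : y₀ ∈ Set.range (PrimeSpectrum.comap (algebraMap R A)) := by
      rw [PrimeSpectrum.localization_away_comap_range (Localization.Away g) g]
      exact hg
    exact h1
  have hpb := ht.paste_horiz (IsPullback.of_hasPullback p.left (g₀ ≫ e).left)
  let t' : sp f A' ⟶ T' := Over.homMk (t ≫ pullback.fst p.left (g₀ ≫ e).left) (by
    rw [← Over.w p, ← Category.assoc, hpb.w, Category.assoc, Category.assoc, Over.w]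
    rfl)
  have hT : IsPullback t' (spm f (Algebra.ofId A A')) p (g₁ ≫ e) := by
    refine IsPullback.of_map (Over.forget X) ?_ ?_
    · ext1
      refine hpb.w.trans ?_
      simp [g₀, g₁, spm_left]
      rfl
    · have h1 : (g₁ ≫ e).left = ι₀ ≫ (g₀ ≫ e).left := by simp [g₀, g₁]
      change IsPullback (t ≫ pullback.fst p.left (g₀ ≫ e).left) _ p.left (g₁ ≫ e).left
      rw [h1]
      exact hpb
  -- the chart at the identity
  have hO₀ : IsAffineOpen ((pullback.fst G.hom f) ⁻¹ᵁ O₂) := isAffineOpen_preimage G.hom f hX₂ hfX₂ hO₂ hle₂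
  have hsm : Smooth (Red.bc f G).hom := inferInstanceAs (Smooth (pullback.snd G.hom f))
  obtain ⟨E₀, _, _, _, j₀, hj₀, hr₀⟩ := CaLocal.exists_chart_of_isAffineOpen (Red.bc f G) _ hO₀
  obtain ⟨ε, hε⟩ := CaLocal.exists_fac j₀ (1 : SpecOver A A ⟶ Red.bc f G) (by
    rw [hr₀]
    rintro _ ⟨w, rfl⟩
    have h1 : ((1 : SpecOver A A ⟶ Red.bc f G).left ≫ pullback.fst G.hom f) w =
      unitSec G (f ((SpecOver A A).hom w)) := by rw [one_bc_fst]; rfl
    have h2 : unitSec G (f ((SpecOver A A).hom w)) ∈ O₂ := hη₂ (hfX₂ ⟨_, rfl⟩)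
    rw [← h1] at h2
    exact h2)
  -- the geometric point
  let Ω : Type u := AlgebraicClosure x₁.asIdeal.ResidueField
  have hΩ : (⊥ : PrimeSpectrum Ω).comap (algebraMap A Ω) = x₁ := by
    ext1
    change RingHom.ker (algebraMap A Ω) = x₁.asIdeal
    rw [IsScalarTower.algebraMap_eq A x₁.asIdeal.ResidueField Ω,
      RingHom.ker_comp_of_injective _ (algebraMap x₁.asIdeal.ResidueField Ω).injective,
      Ideal.ker_algebraMap_residueField]
  have hAF' : ∀ F : Set (Red.bc f G).left, F.Finite →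
      (∀ y ∈ F, (Red.bc f G).hom y = (SpecOver A Ω).hom (⊥ : PrimeSpectrum Ω)) →
      ∃ O : (Red.bc f G).left.Opens, IsAffineOpen O ∧ F ⊆ O := by
    intro F hF hFx
    obtain ⟨O, hO, hFO, hle⟩ := hAF.exists_le (X₂ := X₂) (x := f ((SpecOver A Ω).hom (⊥ : PrimeSpectrum Ω)))
      (hfX₂ ⟨_, rfl⟩) (pullback.fst G.hom f '' F) (hF.image _) (by
        rintro _ ⟨y, hy, rfl⟩
        rw [← Scheme.Hom.comp_apply, pullback.condition, Scheme.Hom.comp_apply]
        exact congrArg f (hFx y hy))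
    exact ⟨_, isAffineOpen_preimage G.hom f hX₂ hfX₂ hO hle, fun y hy => hFO ⟨y, hy, rfl⟩⟩
  obtain ⟨B, _, _, q₁, hB, hq₁, b, hb, hbc⟩ := CaLocal.exists_cob f G hT n (c := resF g₁ c) (hc.res g₁) (hz.res g₁)
    j₀ hε Ω hAF'
  refine ⟨sp f B, spm f (Algebra.ofId A B) ≫ g₁, ?_, ?_, b, ?_, ?_⟩
  · have h1 : Etale (Spec.map (CommRingCat.ofHom (algebraMap A B))) := by
      rw [HasRingHomProperty.Spec_iff (P := @Etale)]
      change RingHom.Etale (algebraMap A B)
      rwa [RingHom.etale_algebraMap]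
    have h2 : Etale (Spec.map (CommRingCat.ofHom (algebraMap A B)) ≫ ι₀ ≫ hV₀.fromSpec) := inferInstance
    exact h2
  · refine ⟨q₁, ?_⟩
    change hV₀.fromSpec (ι₀ (Spec.map (CommRingCat.ofHom (algebraMap A B)) q₁)) = u
    have h1 : Spec.map (CommRingCat.ofHom (algebraMap A B)) q₁ = x₁ := hq₁.trans hΩ
    have h2 : ι₀ x₁ = y₀ := hx₁
    rw [h1, h2, hy₀]
  · rw [Category.assoc]
    exact hb
  · rw [Category.assoc]
    have h1 : resF (spm f (Algebra.ofId A B) ≫ g₁) c = resF (spm f (Algebra.ofId A B)) (resF g₁ c) := by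
      funext W a x
      simp only [resF, Category.assoc]
    rw [h1]
    exact hbc

end K809.CaSmooth
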