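import Groth.Agent.TateLoc.K809.KerGrp
import Mathlib.RingTheory.Smooth.Basic

/-!
# Infinitesimal points as derivations; exactness

* `Der ε J`: `A`-linear maps `D : E → S` with values in `J`, derivations along `ε : E → A`.
* `Φ : Der ε J →+ Additive (SpecOver A S ⟶ 𝒢)`.
* `exists_primitive`: for two families of algebra maps `δ : S₁ → S₂`, `δ' : S₂ → S₃` whose alternating sums are exact at
  `J₂` a cocycle of infinitesimal points is a coboundary, if `E` is formally smooth.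
-/

set_option autoImplicit false

universe u

open CategoryTheory MonoidalCategory CartesianMonoidalCategory AlgebraicGeometry Limits MonObj

namespace K809.KerGrp

noncomputable section

open Groth.Agent.Books.AffBridge Groth.Agent.Sga3B.Hens

section der

variable {A E S : Type u} [CommRing A] [CommRing E] [Algebra A E] [CommRing S] [Algebra A S]
  (ε : E →ₐ[A] A) (J : Ideal S)

/-- derivations along `ε` with values in `J` -/
def Der : AddSubgroup (E →ₗ[A] S) where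
  carrier := {D | (∀ x, D x ∈ J) ∧ ∀ x y, D (x * y) = ε x • D y + ε y • D x}
  zero_mem' := ⟨fun x => J.zero_mem, fun x y => by simp⟩
  add_mem' := by
    rintro D D' ⟨h1, h2⟩ ⟨h1', h2'⟩
    refine ⟨fun x => J.add_mem (h1 x) (h1' x), fun x y => ?_⟩
    simp only [LinearMap.add_apply, h2, h2', smul_add]
    abel
  neg_mem' := by
    rintro D ⟨h1, h2⟩
    refine ⟨fun x => J.neg_mem (h1 x), fun x y => ?_⟩
    simp only [LinearMap.neg_apply, h2, smul_neg]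
    abel

variable {ε J}

lemma Der.map_one {D : E →ₗ[A] S} (hD : D ∈ Der ε J) : D 1 = 0 := by
  have h := hD.2 1 1
  rw [_root_.mul_one, _root_.map_one ε, one_smul] at h
  exact left_eq_add.1 h

/-- `ε + D` -/
def alg (hJ : ∀ x ∈ J, ∀ y ∈ J, x * y = 0) {D : E →ₗ[A] S} (hD : D ∈ Der ε J) : E →ₐ[A] S where
  toFun x := algebraMap A S (ε x) + D x
  map_one' := by rw [_root_.map_one, _root_.map_one, Der.map_one hD, add_zero]
  map_zero' := by rw [map_zero, map_zero, map_zero, add_zero]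
  map_add' x y := by rw [map_add, map_add, map_add]; abel
  map_mul' x y := by
    rw [map_mul, map_mul, hD.2 x y, Algebra.smul_def, Algebra.smul_def]
    linear_combination -hJ _ (hD.1 x) _ (hD.1 y)
  commutes' a := by
    have : D (algebraMap A E a) = 0 := by
      rw [Algebra.algebraMap_eq_smul_one, map_smul, Der.map_one hD, smul_zero]
    rw [this, add_zero, ε.commutes]
    rfl

@[simp] lemma alg_apply (hJ : ∀ x ∈ J, ∀ y ∈ J, x * y = 0) {D : E →ₗ[A] S} (hD : D ∈ Der ε J) (x : E) :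
    alg hJ hD x = algebraMap A S (ε x) + D x := rfl

lemma alg_sub_mem (hJ : ∀ x ∈ J, ∀ y ∈ J, x * y = 0) {D : E →ₗ[A] S} (hD : D ∈ Der ε J) (x : E) :
    alg hJ hD x - algebraMap A S (ε x) ∈ J := by
  rw [alg_apply, add_sub_cancel_left]
  exact hD.1 x

/-- the derivation of an algebra map -/
def toDer (ε : E →ₐ[A] A) (φ : E →ₐ[A] S) : E →ₗ[A] S :=
  φ.toLinearMap - (Algebra.linearMap A S).comp ε.toLinearMap

lemma toDer_apply (φ : E →ₐ[A] S) (x : E) : toDer ε φ x = φ x - algebraMap A S (ε x) := rfl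

lemma toDer_mem (hJ : ∀ x ∈ J, ∀ y ∈ J, x * y = 0) (φ : E →ₐ[A] S) (h : ∀ x, φ x - algebraMap A S (ε x) ∈ J) :
    toDer ε φ ∈ Der ε J := by
  refine ⟨h, fun x y => ?_⟩
  simp only [toDer_apply, map_mul, Algebra.smul_def]
  linear_combination hJ _ (h x) _ (h y)

lemma alg_toDer (hJ : ∀ x ∈ J, ∀ y ∈ J, x * y = 0) (φ : E →ₐ[A] S) (h : ∀ x, φ x - algebraMap A S (ε x) ∈ J) :
    alg hJ (toDer_mem hJ φ h) = φ := by
  ext x
  rw [alg_apply, toDer_apply, add_sub_cancel]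

lemma comp_mem {S' : Type u} [CommRing S'] [Algebra A S'] {J' : Ideal S'} (f : S →ₗ[A] S') (hf : ∀ x ∈ J, f x ∈ J')
    {D : E →ₗ[A] S} (hD : D ∈ Der ε J) : f.comp D ∈ Der ε J' :=
  ⟨fun x => hf _ (hD.1 x), fun x y => by
    rw [LinearMap.comp_apply, hD.2, map_add, map_smul, map_smul]
    rfl⟩

end der

section lift

variable {A E S₁ S₂ : Type u} [CommRing A] [CommRing E] [Algebra A E] [CommRing S₁] [Algebra A S₁]
  [CommRing S₂] [Algebra A S₂] {ε : E →ₐ[A] A} {J₁ : Ideal S₁} {J₂ : Ideal S₂}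

/-- `{(a; a + f y) : y ∈ J₁} ⊆ A × S₂` -/
def W (hJ₂ : ∀ x ∈ J₂, ∀ y ∈ J₂, x * y = 0) (f : S₁ →ₗ[A] S₂) (hf : ∀ x ∈ J₁, f x ∈ J₂) :
    Subalgebra A (A × S₂) where
  carrier := {t | ∃ y ∈ J₁, t.2 = algebraMap A S₂ t.1 + f y}
  mul_mem' := by
    rintro ⟨a, s⟩ ⟨a', s'⟩ ⟨y, hy, h⟩ ⟨y', hy', h'⟩
    change s = algebraMap A S₂ a + f y at h
    change s' = algebraMap A S₂ a' + f y' at h'
    refine ⟨a • y' + a' • y, J₁.add_mem ?_ ?_, ?_⟩
    · rw [Algebra.smul_def]; exact J₁.mul_mem_left _ hy'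
    · rw [Algebra.smul_def]; exact J₁.mul_mem_left _ hy
    · change s * s' = algebraMap A S₂ (a * a') + f (a • y' + a' • y)
      rw [h, h', map_add, map_smul, map_smul, map_mul, Algebra.smul_def, Algebra.smul_def]
      linear_combination hJ₂ _ (hf _ hy) _ (hf _ hy')
  add_mem' := by
    rintro ⟨a, s⟩ ⟨a', s'⟩ ⟨y, hy, h⟩ ⟨y', hy', h'⟩
    change s = algebraMap A S₂ a + f y at h
    change s' = algebraMap A S₂ a' + f y' at h'
    refine ⟨y + y', J₁.add_mem hy hy', ?_⟩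
    change s + s' = algebraMap A S₂ (a + a') + f (y + y')
    rw [h, h', map_add, map_add]
    ring
  algebraMap_mem' a := ⟨0, J₁.zero_mem, by
    change algebraMap A S₂ a = algebraMap A S₂ a + f 0
    rw [map_zero, add_zero]⟩

/-- `(a; s) ↦ (a; a + f (s - a))` -/
def uW (hJ₁ : ∀ x ∈ J₁, ∀ y ∈ J₁, x * y = 0) (hJ₂ : ∀ x ∈ J₂, ∀ y ∈ J₂, x * y = 0) (f : S₁ →ₗ[A] S₂)
    (hf : ∀ x ∈ J₁, f x ∈ J₂) : U (A := A) J₁ →ₐ[A] W hJ₂ f hf where
  toFun t := ⟨(t.1.1, algebraMap A S₂ t.1.1 + f (t.1.2 - algebraMap A S₁ t.1.1)), ⟨_, t.2, rfl⟩⟩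
  map_one' := by
    refine Subtype.ext (Prod.ext rfl ?_)
    change algebraMap A S₂ 1 + f (1 - algebraMap A S₁ 1) = 1
    rw [_root_.map_one, _root_.map_one, sub_self, map_zero, add_zero]
  map_zero' := by
    refine Subtype.ext (Prod.ext rfl ?_)
    change algebraMap A S₂ 0 + f (0 - algebraMap A S₁ 0) = 0
    rw [map_zero, map_zero, sub_self, map_zero, add_zero]
  map_add' := by
    rintro ⟨⟨a, s⟩, h⟩ ⟨⟨a', s'⟩, h'⟩
    refine Subtype.ext (Prod.ext rfl ?_)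
    change algebraMap A S₂ (a + a') + f (s + s' - algebraMap A S₁ (a + a')) =
      (algebraMap A S₂ a + f (s - algebraMap A S₁ a)) + (algebraMap A S₂ a' + f (s' - algebraMap A S₁ a'))
    rw [map_add, map_add, show s + s' - (algebraMap A S₁ a + algebraMap A S₁ a') =
      (s - algebraMap A S₁ a) + (s' - algebraMap A S₁ a') by ring, map_add]
    ring
  map_mul' := by
    rintro ⟨⟨a, s⟩, h⟩ ⟨⟨a', s'⟩, h'⟩
    refine Subtype.ext (Prod.ext rfl ?_)
    change s - algebraMap A S₁ a ∈ J₁ at h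
    change s' - algebraMap A S₁ a' ∈ J₁ at h'
    change algebraMap A S₂ (a * a') + f (s * s' - algebraMap A S₁ (a * a')) =
      (algebraMap A S₂ a + f (s - algebraMap A S₁ a)) * (algebraMap A S₂ a' + f (s' - algebraMap A S₁ a'))
    have e1 : s * s' - algebraMap A S₁ (a * a') = a • (s' - algebraMap A S₁ a') + a' • (s - algebraMap A S₁ a) := by
      rw [map_mul, Algebra.smul_def, Algebra.smul_def]
      linear_combination hJ₁ _ h _ h'
    rw [e1, map_add, map_smul, map_smul, Algebra.smul_def, Algebra.smul_def, map_mul]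
    linear_combination -hJ₂ _ (hf _ h) _ (hf _ h')
  commutes' a := by
    refine Subtype.ext (Prod.ext rfl ?_)
    change algebraMap A S₂ a + f (algebraMap A S₁ a - algebraMap A S₁ a) = algebraMap A S₂ a
    rw [sub_self, map_zero, add_zero]

/-- Derivations lift along surjections, `E` formally smooth. -/
theorem exists_der_lift [Algebra.FormallySmooth A E] (hJ₁ : ∀ x ∈ J₁, ∀ y ∈ J₁, x * y = 0)
    (hJ₂ : ∀ x ∈ J₂, ∀ y ∈ J₂, x * y = 0) (f : S₁ →ₗ[A] S₂) (hf : ∀ x ∈ J₁, f x ∈ J₂)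
    {D : E →ₗ[A] S₂} (hD : D ∈ Der ε J₂) (h : ∀ x, ∃ y ∈ J₁, f y = D x) :
    ∃ D' ∈ Der ε J₁, f.comp D' = D := by
  let g : E →ₐ[A] W hJ₂ f hf := (ε.prod (alg hJ₂ hD)).codRestrict _ (fun x => by
    obtain ⟨y, hy, hyx⟩ := h x
    exact ⟨y, hy, by rw [hyx]; rfl⟩)
  have hs : Function.Surjective (uW hJ₁ hJ₂ f hf) := by
    rintro ⟨⟨a, s⟩, ⟨y, hy, hs⟩⟩
    change s = algebraMap A S₂ a + f y at hs
    refine ⟨⟨(a, algebraMap A S₁ a + y), ?_⟩, Subtype.ext (Prod.ext rfl ?_)⟩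
    · change algebraMap A S₁ a + y - algebraMap A S₁ a ∈ J₁
      rwa [add_sub_cancel_left]
    · change algebraMap A S₂ a + f (algebraMap A S₁ a + y - algebraMap A S₁ a) = s
      rw [add_sub_cancel_left, hs]
  have hker : RingHom.ker (uW hJ₁ hJ₂ f hf) ^ 2 = ⊥ := by
    rw [pow_two, ← le_bot_iff, Ideal.mul_le]
    rintro ⟨⟨a, s⟩, h1⟩ hx ⟨⟨a', s'⟩, h1'⟩ hx'
    have ha : a = 0 := congrArg (fun t => t.1.1) (RingHom.mem_ker.1 hx)
    have ha' : a' = 0 := congrArg (fun t => t.1.1) (RingHom.mem_ker.1 hx')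
    subst ha ha'
    change s - algebraMap A S₁ 0 ∈ J₁ at h1
    change s' - algebraMap A S₁ 0 ∈ J₁ at h1'
    rw [map_zero, sub_zero] at h1 h1'
    rw [Ideal.mem_bot]
    refine Subtype.ext (Prod.ext ?_ ?_)
    · change (0 : A) * 0 = 0
      rw [mul_zero]
    · exact hJ₁ _ h1 _ h1'
  let g' := Algebra.FormallySmooth.liftOfSurjective g (uW hJ₁ hJ₂ f hf) hs ⟨2, hker⟩
  have hg' : (uW hJ₁ hJ₂ f hf).comp g' = g := Algebra.FormallySmooth.comp_liftOfSurjective _ _ _ _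
  have h1 : ∀ x, (g' x).1.1 = ε x := fun x => congrArg (fun t : E →ₐ[A] W hJ₂ f hf => (t x).1.1) hg'
  have h2 : ∀ x, algebraMap A S₂ (g' x).1.1 + f ((g' x).1.2 - algebraMap A S₁ (g' x).1.1) =
      algebraMap A S₂ (ε x) + D x := fun x => congrArg (fun t : E →ₐ[A] W hJ₂ f hf => (t x).1.2) hg'
  have hmem : ∀ x, (uS J₁).comp g' x - algebraMap A S₁ (ε x) ∈ J₁ := by
    intro x
    rw [← h1]
    exact (g' x).2
  refine ⟨toDer ε ((uS J₁).comp g'), toDer_mem hJ₁ _ hmem, ?_⟩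
  ext x
  have h3 := h2 x
  rw [h1] at h3
  exact add_left_cancel h3

end lift

section grp

variable {A : Type u} [CommRing A] {𝒢 : Over (Spec (CommRingCat.of A))} [GrpObj 𝒢]

/-- points, additively -/
abbrev Pt (𝒢 : Over (Spec (CommRingCat.of A))) (S : Type u) [CommRing S] [Algebra A S] : Type _ :=
  Additive (SpecOver A S ⟶ 𝒢)

/-- restriction of points -/
def res {S S' : Type u} [CommRing S] [Algebra A S] [CommRing S'] [Algebra A S'] (f : S →ₐ[A] S') :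
    Pt 𝒢 S →+ Pt 𝒢 S' where
  toFun x := Additive.ofMul (specMap A f ≫ x.toMul)
  map_zero' := congrArg Additive.ofMul (comp_one' f)
  map_add' x y := congrArg Additive.ofMul (comp_mul' f x.toMul y.toMul)

lemma res_comp {S S' S'' : Type u} [CommRing S] [Algebra A S] [CommRing S'] [Algebra A S'] [CommRing S'']
    [Algebra A S''] (f : S →ₐ[A] S') (g : S' →ₐ[A] S'') (x : Pt 𝒢 S) : res g (res f x) = res (g.comp f) x :=
  congrArg Additive.ofMul (cc g f x.toMul)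

lemma res_id {S : Type u} [CommRing S] [Algebra A S] (x : Pt 𝒢 S) : res (AlgHom.id A S) x = x := by
  change Additive.ofMul (specMap A (AlgHom.id A S) ≫ x.toMul) = x
  rw [specMap_id, Category.id_comp]
  rfl

variable {E : Type u} [CommRing E] [Algebra A E] (j : SpecOver A E ⟶ 𝒢) [IsOpenImmersion j.left]
  {ε : E →ₐ[A] A} {S : Type u} [CommRing S] [Algebra A S] {J : Ideal S}

/-- The point of a derivation. -/
def Φ (hε : specMap A ε ≫ j = 1) (hJ : ∀ x ∈ J, ∀ y ∈ J, x * y = 0) : Der ε J →+ Pt 𝒢 S where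
  toFun D := Additive.ofMul (specMap A (alg hJ D.2) ≫ j)
  map_zero' := by
    have : alg hJ (Der ε J).zero_mem = (Algebra.ofId A S).comp ε := by
      ext x
      change algebraMap A S (ε x) + 0 = algebraMap A S (ε x)
      rw [add_zero]
    change Additive.ofMul (specMap A (alg hJ (Der ε J).zero_mem) ≫ j) = 0
    rw [this, ← cc, hε, comp_one']
    rfl
  map_add' D D' := by
    refine congrArg Additive.ofMul (mul_eq j ε J hε hJ _ _ _ (alg_sub_mem hJ D.2) (alg_sub_mem hJ D'.2) fun x => ?_)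
    change algebraMap A S (ε x) + (D.1 x + D'.1 x) = (algebraMap A S (ε x) + D.1 x) + (algebraMap A S (ε x) + D'.1 x) -
      algebraMap A S (ε x)
    ring

lemma Φ_apply (hε : specMap A ε ≫ j = 1) (hJ : ∀ x ∈ J, ∀ y ∈ J, x * y = 0) (D : Der ε J) :
    Φ j hε hJ D = Additive.ofMul (specMap A (alg hJ D.2) ≫ j) := rfl

lemma Φ_injective (hε : specMap A ε ≫ j = 1) (hJ : ∀ x ∈ J, ∀ y ∈ J, x * y = 0) :
    Function.Injective (Φ j hε hJ) := by
  intro D D' h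
  have h1 := PtScheme.eq_of_comp_eq j _ _ h
  refine Subtype.ext (LinearMap.ext fun x => ?_)
  have h2 := DFunLike.congr_fun h1 x
  exact add_left_cancel h2

/-- Naturality. -/
lemma res_Φ (hε : specMap A ε ≫ j = 1) (hJ : ∀ x ∈ J, ∀ y ∈ J, x * y = 0) {S' : Type u} [CommRing S']
    [Algebra A S'] {J' : Ideal S'} (hJ' : ∀ x ∈ J', ∀ y ∈ J', x * y = 0) (f : S →ₐ[A] S') (hf : ∀ x ∈ J, f x ∈ J')
    (D : Der ε J) : res f (Φ j hε hJ D) = Φ j hε hJ' ⟨f.toLinearMap.comp D.1, comp_mem _ hf D.2⟩ := by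
  refine congrArg Additive.ofMul ?_
  rw [Φ_apply]
  change specMap A f ≫ specMap A (alg hJ D.2) ≫ j = _
  rw [cc]
  congr 2
  ext x
  change f (algebraMap A S (ε x) + D.1 x) = algebraMap A S' (ε x) + f (D.1 x)
  rw [map_add, f.commutes]

/-- Points trivial modulo `J` come from derivations. -/
lemma exists_Φ (hε : specMap A ε ≫ j = 1) (hJ : ∀ x ∈ J, ∀ y ∈ J, x * y = 0) {S' : Type u} [CommRing S']
    [Algebra A S'] (π : S →ₐ[A] S') (hπ : Function.Surjective π) (hk : ∀ x, π x = 0 ↔ x ∈ J) (x : Pt 𝒢 S)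
    (hx : res π x = 0) : ∃ D : Der ε J, Φ j hε hJ D = x := by
  have hsurj : Function.Surjective (specMap A π).left :=
    surjective_specMap π hπ fun x hx => ⟨2, by rw [pow_two]; exact hJ _ ((hk x).1 hx) _ ((hk x).1 hx)⟩
  obtain ⟨e', he', he''⟩ := PtScheme.exists_lift j π hsurj x.toMul ((Algebra.ofId A S').comp ε) (by
    rw [← cc, hε, comp_one']
    exact hx)
  have hmem : ∀ y, e' y - algebraMap A S (ε y) ∈ J := by
    intro y
    rw [← hk, map_sub, π.commutes, sub_eq_zero]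
    exact DFunLike.congr_fun he'' y
  refine ⟨⟨_, toDer_mem hJ e' hmem⟩, ?_⟩
  rw [Φ_apply]
  change Additive.ofMul (specMap A (alg hJ (toDer_mem hJ e' hmem)) ≫ j) = x
  rw [alg_toDer hJ e' hmem, he']
  rfl

section two

variable {S₁ S₂ S₃ : Type u} [CommRing S₁] [Algebra A S₁] [CommRing S₂] [Algebra A S₂] [CommRing S₃] [Algebra A S₃]
  {J₁ : Ideal S₁} {J₂ : Ideal S₂} {J₃ : Ideal S₃}

/-- The alternating sum on linear maps. -/
def lin {κ : Type*} [Fintype κ] (s : κ → ℤ) (δ : κ → (S₁ →ₐ[A] S₂)) : S₁ →ₗ[A] S₂ := ∑ i, s i • (δ i).toLinearMap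

lemma lin_apply {κ : Type*} [Fintype κ] (s : κ → ℤ) (δ : κ → (S₁ →ₐ[A] S₂)) (x : S₁) :
    lin s δ x = ∑ i, s i • δ i x := by
  simp [lin]

lemma lin_mem {κ : Type*} [Fintype κ] (s : κ → ℤ) (δ : κ → (S₁ →ₐ[A] S₂)) (h : ∀ i, ∀ x ∈ J₁, δ i x ∈ J₂)
    (x : S₁) (hx : x ∈ J₁) : lin s δ x ∈ J₂ := by
  rw [lin_apply]
  exact J₂.sum_mem fun i _ => zsmul_mem (h i x hx) _

/-- Alternating sums of the restrictions of an infinitesimal point. -/
lemma sum_res_Φ [IsCommMonObj 𝒢] {κ : Type*} [Fintype κ] (s : κ → ℤ) (δ : κ → (S₁ →ₐ[A] S₂))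
    (h : ∀ i, ∀ x ∈ J₁, δ i x ∈ J₂)
    (hε : specMap A ε ≫ j = 1) (hJ₁ : ∀ x ∈ J₁, ∀ y ∈ J₁, x * y = 0) (hJ₂ : ∀ x ∈ J₂, ∀ y ∈ J₂, x * y = 0)
    (D : Der ε J₁) : ∑ i, s i • res (δ i) (Φ j hε hJ₁ D) =
      Φ j hε hJ₂ ⟨(lin s δ).comp D.1, comp_mem _ (lin_mem s δ h) D.2⟩ := by
  have h1 : (⟨(lin s δ).comp D.1, comp_mem _ (lin_mem s δ h) D.2⟩ : Der ε J₂) =
      ∑ i, s i • ⟨(δ i).toLinearMap.comp D.1, comp_mem _ (h i) D.2⟩ := by
    apply Subtype.ext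
    rw [AddSubgroup.val_finset_sum]
    ext x
    change lin s δ (D.1 x) = _
    rw [lin_apply, LinearMap.sum_apply]
    rfl
  rw [h1, map_sum]
  refine Finset.sum_congr rfl fun i _ => ?_
  rw [map_zsmul, res_Φ j hε hJ₁ hJ₂ (δ i) (h i)]

/-- **Exactness for infinitesimal points.** -/
theorem exists_primitive [IsCommMonObj 𝒢] [Algebra.FormallySmooth A E] {κ κ' : Type*} [Fintype κ] [Fintype κ']
    (s : κ → ℤ) (δ : κ → (S₁ →ₐ[A] S₂)) (h : ∀ i, ∀ x ∈ J₁, δ i x ∈ J₂)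
    (s' : κ' → ℤ) (δ' : κ' → (S₂ →ₐ[A] S₃)) (h' : ∀ i, ∀ x ∈ J₂, δ' i x ∈ J₃)
    (hex : ∀ z ∈ J₂, lin s' δ' z = 0 → ∃ y ∈ J₁, lin s δ y = z)
    (hε : specMap A ε ≫ j = 1) (hJ₁ : ∀ x ∈ J₁, ∀ y ∈ J₁, x * y = 0) (hJ₂ : ∀ x ∈ J₂, ∀ y ∈ J₂, x * y = 0)
    (hJ₃ : ∀ x ∈ J₃, ∀ y ∈ J₃, x * y = 0)
    {S₁' S₂' : Type u} [CommRing S₁'] [Algebra A S₁'] (π₁ : S₁ →ₐ[A] S₁') (hk₁ : ∀ x, x ∈ J₁ → π₁ x = 0)
    [CommRing S₂'] [Algebra A S₂'] (π₂ : S₂ →ₐ[A] S₂') (hπ₂ : Function.Surjective π₂)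
    (hk₂ : ∀ x, π₂ x = 0 ↔ x ∈ J₂) (w : Pt 𝒢 S₂) (hw : res π₂ w = 0) (hdw : ∑ i, s' i • res (δ' i) w = 0) :
    ∃ c : Pt 𝒢 S₁, res π₁ c = 0 ∧ ∑ i, s i • res (δ i) c = w := by
  obtain ⟨D, rfl⟩ := exists_Φ j hε hJ₂ π₂ hπ₂ hk₂ w hw
  rw [sum_res_Φ j s' δ' h' hε hJ₂ hJ₃] at hdw
  have h1 : (lin s' δ').comp D.1 = 0 := congrArg Subtype.val (Φ_injective j hε hJ₃ (hdw.trans (map_zero _).symm))
  obtain ⟨D', hD', hD'D⟩ := exists_der_lift hJ₁ hJ₂ (lin s δ) (lin_mem s δ h) D.2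
    (fun x => hex _ (D.2.1 x) (DFunLike.congr_fun h1 x))
  refine ⟨Φ j hε hJ₁ ⟨D', hD'⟩, ?_, ?_⟩
  · rw [res_Φ j hε hJ₁ (J' := ⊥) (by simp) π₁ (fun x hx => (Ideal.mem_bot).2 (hk₁ x hx))]
    rw [← map_zero (Φ j hε (J := (⊥ : Ideal S₁')) (by simp))]
    congr 1
    apply Subtype.ext
    ext x
    exact hk₁ _ (hD'.1 x)
  · rw [sum_res_Φ j s δ h hε hJ₁ hJ₂]
    congr 1
    exact Subtype.ext hD'D

end two

end grp

end

end K809.KerGrp
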