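import Groth.Prelude.Def_CGrpSh
import Groth.Agent.Sga3B.BcPts

/-!
# Restriction of the sheaf of points of a group scheme
-/

set_option autoImplicit false
universe u

open CategoryTheory CategoryTheory.Limits MonoidalCategory CartesianMonoidalCategory MonObj AlgebraicGeometry Opposite

noncomputable section

namespace K809.PtsPull

variable (K : Precoverage Scheme.{u}) {S V : Scheme.{u}} [(QuotSh.J K S).Subcanonical] [(QuotSh.J K V).Subcanonical]
  (h : V ⟶ S) (G : Over S) [GrpObj G] [IsCommMonObj G]

/-- `h⁻¹ G = G ×_S V` -/
def ptsPull : (BigSite.pullBig K h AddCommGrpCat.{u + 1}).obj (CGrpSh.pts K G) ≅ CGrpSh.pts K (Red.bc h G) :=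
  (fullyFaithfulSheafToPresheaf _ _).preimageIso (NatIso.ofComponents (fun T => AddEquiv.toAddCommGrpIso
      { toFun := fun x => ULift.up (Additive.ofMul (Groth.Agent.Sga3B.BcPts.bcMulEquiv h (unop T) G x.down.toMul))
        invFun := fun y => ULift.up (Additive.ofMul
          ((Groth.Agent.Sga3B.BcPts.bcMulEquiv h (unop T) G).symm y.down.toMul))
        left_inv := fun x => by
          apply ULift.ext
          change Additive.ofMul ((Groth.Agent.Sga3B.BcPts.bcMulEquiv h (unop T) G).symm
            (Groth.Agent.Sga3B.BcPts.bcMulEquiv h (unop T) G x.down.toMul)) = _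
          rw [MulEquiv.symm_apply_apply]
          rfl
        right_inv := fun y => by
          apply ULift.ext
          change Additive.ofMul (Groth.Agent.Sga3B.BcPts.bcMulEquiv h (unop T) G
            ((Groth.Agent.Sga3B.BcPts.bcMulEquiv h (unop T) G).symm y.down.toMul)) = _
          rw [MulEquiv.apply_symm_apply]
          rfl
        map_add' := fun x y => by
          apply ULift.ext
          exact congrArg Additive.ofMul (map_mul (Groth.Agent.Sga3B.BcPts.bcMulEquiv h (unop T) G) x.down.toMul y.down.toMul) })
    (fun {T T'} f => by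
      ext x
      apply ULift.ext
      exact congrArg Additive.ofMul (Groth.Agent.Sga3B.BcPts.comp_bcEquiv h f.unop x.down.toMul)))

end K809.PtsPull
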