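import Mathlib.Algebra.Homology.DerivedCategory.Ext.ExactSequences
import Mathlib.CategoryTheory.Sites.SheafCohomology.Basic
import Mathlib.GroupTheory.Torsion

/-!
# Long exact sequence of sheaf cohomology, elementwise, and properties of the middle term

Stated for `Abelian.Ext X · n` in any abelian category with `HasExt`; `Sheaf.H F n` is the case where `X` is the constant
sheaf `ℤ` (`Sheaf.H` is an abbreviation of `Ext`, `Sheaf.H.map f n` is `mp f n` by definition).
-/

set_option autoImplicit false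

universe w' w v u

open CategoryTheory Abelian

namespace K809.Les

variable {C : Type u} [Category.{v} C] [Abelian C] [HasExt.{w} C]

/-- Functoriality of `Ext X · n`. -/
noncomputable abbrev mp (X : C) {A B : C} (f : A ⟶ B) (n : ℕ) : Ext X A n →+ Ext X B n :=
  (Ext.mk₀ f).postcomp X (add_zero n)

section mp

variable (X : C) {A B D : C}

lemma mp_apply (f : A ⟶ B) (n : ℕ) (x : Ext X A n) : mp X f n x = x.comp (Ext.mk₀ f) (add_zero n) := rfl

lemma mp_id (n : ℕ) (x : Ext X A n) : mp X (𝟙 A) n x = x := by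
  simp

lemma mp_comp (f : A ⟶ B) (g : B ⟶ D) (n : ℕ) (x : Ext X A n) : mp X (f ≫ g) n x = mp X g n (mp X f n x) := by
  simp

lemma mp_add (f g : A ⟶ B) (n : ℕ) (x : Ext X A n) : mp X (f + g) n x = mp X f n x + mp X g n x := by
  simp [Ext.mk₀_add]

lemma mp_zero (n : ℕ) (x : Ext X A n) : mp X (0 : A ⟶ B) n x = 0 := by
  simp

lemma mp_nsmul (m : ℕ) (f : A ⟶ B) (n : ℕ) (x : Ext X A n) : mp X (m • f) n x = m • mp X f n x := by
  induction m with
  | zero => rw [zero_smul, zero_smul, mp_zero]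
  | succ m ih => rw [succ_nsmul, succ_nsmul, mp_add, ih]

lemma mp_nsmul_id (m n : ℕ) (x : Ext X A n) : mp X (m • 𝟙 A) n x = m • x := by
  rw [mp_nsmul, mp_id]

/-- If `m` kills `A` it kills `Ext`. -/
lemma nsmul_eq_zero {m : ℕ} (h : m • 𝟙 A = 0) (n : ℕ) (x : Ext X A n) : m • x = 0 := by
  rw [← mp_nsmul_id, h, mp_zero]

/-- isomorphisms -/
noncomputable def mpEquiv (e : A ≅ B) (n : ℕ) : Ext X A n ≃+ Ext X B n where
  __ := mp X e.hom n
  invFun := mp X e.inv n
  left_inv x := by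
    change mp X e.inv n (mp X e.hom n x) = x
    rw [← mp_comp, e.hom_inv_id, mp_id]
  right_inv x := by
    change mp X e.hom n (mp X e.inv n x) = x
    rw [← mp_comp, e.inv_hom_id, mp_id]

end mp

variable (X : C) {S : ShortComplex C} (hS : S.ShortExact)

/-- connecting map -/
noncomputable abbrev del (n : ℕ) : Ext X S.X₃ n →+ Ext X S.X₁ (n + 1) := hS.extClass.postcomp X rfl

include hS in
theorem exact₂ (n : ℕ) : Function.Exact (mp X S.f n) (mp X S.g n) := by
  intro x
  refine ⟨fun h => Ext.covariant_sequence_exact₂ X hS x h, ?_⟩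
  rintro ⟨y, rfl⟩
  rw [← mp_comp, S.zero, mp_zero]

theorem exact₃ (n : ℕ) : Function.Exact (mp X S.g n) (del X hS n) := by
  intro x
  refine ⟨fun h => Ext.covariant_sequence_exact₃ X hS x rfl h, ?_⟩
  rintro ⟨y, rfl⟩
  change (y.comp (Ext.mk₀ S.g) (add_zero n)).comp hS.extClass rfl = 0
  simp only [Ext.comp_assoc_of_second_deg_zero, ShortComplex.ShortExact.comp_extClass, Ext.comp_zero]

theorem exact₁ (n : ℕ) : Function.Exact (del X hS n) (mp X S.f (n + 1)) := by
  intro x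
  refine ⟨fun h => Ext.covariant_sequence_exact₁ X hS x h rfl, ?_⟩
  rintro ⟨y, rfl⟩
  change (y.comp hS.extClass rfl).comp (Ext.mk₀ S.f) (add_zero (n + 1)) = 0
  simp only [Ext.comp_assoc_of_third_deg_zero, ShortComplex.ShortExact.extClass_comp, Ext.comp_zero]

theorem injective_zero [Mono (S.f)] : Function.Injective (mp X S.f 0) := Ext.postcomp_mk₀_injective_of_mono X S.f

section mid

include hS

/-- naturality of the connecting map is not needed for the following -/
theorem subsingleton_mid {n : ℕ} (h₁ : Subsingleton (Ext X S.X₁ n)) (h₃ : Subsingleton (Ext X S.X₃ n)) :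
    Subsingleton (Ext X S.X₂ n) := by
  refine subsingleton_of_forall_eq 0 fun x => ?_
  obtain ⟨y, rfl⟩ := (exact₂ X hS n x).1 (Subsingleton.elim _ _)
  rw [Subsingleton.elim y 0, map_zero]

theorem subsingleton_left {n : ℕ} (h₁ : Subsingleton (Ext X S.X₃ n)) (h₃ : Subsingleton (Ext X S.X₂ (n + 1))) :
    Subsingleton (Ext X S.X₁ (n + 1)) := by
  refine subsingleton_of_forall_eq 0 fun x => ?_
  obtain ⟨y, rfl⟩ := (exact₁ X hS n x).1 (Subsingleton.elim _ _)
  rw [Subsingleton.elim y 0, map_zero]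

theorem subsingleton_right {n : ℕ} (h₁ : Subsingleton (Ext X S.X₂ n)) (h₃ : Subsingleton (Ext X S.X₁ (n + 1))) :
    Subsingleton (Ext X S.X₃ n) := by
  refine subsingleton_of_forall_eq 0 fun x => ?_
  obtain ⟨y, rfl⟩ := (exact₃ X hS n x).1 (Subsingleton.elim _ _)
  rw [Subsingleton.elim y 0, map_zero]

theorem isAddTorsion_mid {n : ℕ} (h₁ : ∀ x : Ext X S.X₁ n, IsOfFinAddOrder x)
    (h₃ : ∀ x : Ext X S.X₃ n, IsOfFinAddOrder x) (x : Ext X S.X₂ n) : IsOfFinAddOrder x := by
  obtain ⟨m, hm, h⟩ := isOfFinAddOrder_iff_nsmul_eq_zero.1 (h₃ (mp X S.g n x))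
  rw [← map_nsmul] at h
  obtain ⟨y, hy⟩ := (exact₂ X hS n _).1 h
  obtain ⟨m', hm', h'⟩ := isOfFinAddOrder_iff_nsmul_eq_zero.1 (h₁ y)
  refine isOfFinAddOrder_iff_nsmul_eq_zero.2 ⟨m' * m, Nat.mul_pos hm' hm, ?_⟩
  rw [mul_nsmul', ← hy, ← map_nsmul, h', map_zero]

theorem exponent_mid {n : ℕ} {a b : ℕ} (h₁ : ∀ x : Ext X S.X₁ n, a • x = 0)
    (h₃ : ∀ x : Ext X S.X₃ n, b • x = 0) (x : Ext X S.X₂ n) : (a * b) • x = 0 := by
  have h := h₃ (mp X S.g n x)
  rw [← map_nsmul] at h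
  obtain ⟨y, hy⟩ := (exact₂ X hS n _).1 h
  rw [mul_nsmul', ← hy, ← map_nsmul, h₁, map_zero]

theorem finite_mid {n : ℕ} (h₁ : Finite (Ext X S.X₁ n)) (h₃ : Finite (Ext X S.X₃ n)) : Finite (Ext X S.X₂ n) := by
  have hr : Finite (mp X S.g n).range := inferInstance
  have hk : Finite (mp X S.g n).ker := by
    have : Function.Surjective (fun y : Ext X S.X₁ n =>
        (⟨mp X S.f n y, (exact₂ X hS n _).2 ⟨y, rfl⟩⟩ : (mp X S.g n).ker)) := by
      rintro ⟨x, hx⟩
      obtain ⟨y, hy⟩ := (exact₂ X hS n x).1 hx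
      exact ⟨y, Subtype.ext hy⟩
    exact Finite.of_surjective _ this
  let s : (mp X S.g n).range → Ext X S.X₂ n := fun r => r.2.choose
  have hs : ∀ r, mp X S.g n (s r) = r := fun r => r.2.choose_spec
  have : Function.Surjective (fun q : (mp X S.g n).ker × (mp X S.g n).range => (q.1 : Ext X S.X₂ n) + s q.2) := by
    intro x
    refine ⟨(⟨x - s ⟨_, x, rfl⟩, ?_⟩, ⟨_, x, rfl⟩), sub_add_cancel _ _⟩
    rw [AddMonoidHom.mem_ker, map_sub, hs, sub_self]
  exact Finite.of_surjective _ this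

end mid

end K809.Les
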