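import Groth.Agent.SGA3.K206.Comm
import Groth.Agent.SGA3.K203.FlatImg
import Groth.Agent.SGA3.K203.QC
import Groth.Agent.FGA.K276.Neutral3
import Groth.Agent.Sga3.H792.PowFlat
import Groth.Agent.GrpSch.K267.DeligneSch

/-!
# The neutral component of a commutative group scheme of finite type over a field; powers
-/

set_option autoImplicit false
universe u

open CategoryTheory CategoryTheory.Limits AlgebraicGeometry Opposite MonoidalCategory CartesianMonoidalCategory MonObj
open K276.Neutral K203.FlatImg

namespace K809.NeutralN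

variable {k : Type u} [Field k]

lemma isLocallyNoetherian_left (G : Over (Spec (CommRingCat.of k))) [LocallyOfFiniteType G.hom] :
    IsLocallyNoetherian G.left := LocallyOfFiniteType.isLocallyNoetherian G.hom

/-- Every point has a positive multiple in the neutral component. -/
theorem exists_tor (G : Over (Spec (CommRingCat.of k))) [GrpObj G] [LocallyOfFiniteType G.hom] [QuasiCompact G.hom]
    (x : G.left) : ∃ n : ℕ, 0 < n ∧ K276.Neutral.Tor G x n := by
  let j : Spec (G.left.residueField x) ⟶ G.left := G.left.fromSpecResidueField x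
  let T : Over (Spec (CommRingCat.of k)) := Over.mk (j ≫ G.hom)
  let a : T ⟶ G := Over.homMk j rfl
  let t : T.left := IsLocalRing.closedPoint (G.left.residueField x)
  have hT : Subsingleton T.left := inferInstanceAs (Subsingleton (Spec (G.left.residueField x)))
  have ht : a.left t = x := Scheme.fromSpecResidueField_apply x t
  have hN : TopologicalSpace.NoetherianSpace (T ⊗ G : Over (Spec (CommRingCat.of k))).left := by
    have h1 : LocallyOfFiniteType (pullback.fst T.hom G.hom) := inferInstance
    have h2 : QuasiCompact (pullback.fst T.hom G.hom) := inferInstance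
    have h3 : IsNoetherian T.left := inferInstanceAs (IsNoetherian (Spec (G.left.residueField x)))
    have h4 : IsLocallyNoetherian (pullback T.hom G.hom) := LocallyOfFiniteType.isLocallyNoetherian (pullback.fst T.hom G.hom)
    have h5 : CompactSpace ↥(pullback T.hom G.hom) :=
      QuasiCompact.compactSpace_of_compactSpace (pullback.fst T.hom G.hom)
    have h6 : IsNoetherian (pullback T.hom G.hom) := {}
    exact inferInstanceAs (TopologicalSpace.NoetherianSpace ↥(pullback T.hom G.hom))
  have hf : Finite (_root_.ConnectedComponents (T ⊗ G : Over (Spec (CommRingCat.of k))).left) := finite_connectedComponents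
  let φ : ℕ → _root_.ConnectedComponents (T ⊗ G : Over (Spec (CommRingCat.of k))).left := fun m =>
    (sigPt t (a ^ m) : _root_.ConnectedComponents _)
  obtain ⟨m, n, hmn, h⟩ := Finite.exists_ne_map_eq_of_infinite φ
  wlog hlt : m < n generalizing m n with H
  · exact H n m hmn.symm h.symm (by omega)
  have h1 : sigPt t (a ^ n) ∈ connectedComponent (sigPt t (a ^ m)) := by
    have := ConnectedComponents.coe_eq_coe.1 h
    rw [this]
    exact mem_connectedComponent
  have h2 := mul_mem_component T t ((a ^ m)⁻¹) (a ^ n) (a ^ m) h1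
  have h3 : (a ^ m)⁻¹ * a ^ n = a ^ (n - m) := by
    rw [inv_mul_eq_iff_eq_mul, ← pow_add]
    congr 1
    omega
  rw [h3, inv_mul_cancel] at h2
  refine ⟨n - m, by omega, ?_⟩
  have h4 := (snd T G).left.continuous.image_connectedComponent_subset (sigPt t 1) ⟨_, h2, rfl⟩
  have h5 : ∀ b : T ⟶ G, (snd T G).left (sigPt t b) = b.left t := by
    intro b
    rw [sigPt, ← Scheme.Hom.comp_apply, ← Over.comp_left, lift_snd]
  rw [h5, h5] at h4
  have h6 : (a ^ (n - m)).left t = pw G (n - m) x := by
    rw [pw, ← ht, ← Scheme.Hom.comp_apply, ← Over.comp_left, MonObj.comp_pow, Category.comp_id]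
  rw [K276.Neutral.Tor, neutralSet_of_subsingleton (G.hom x), ← h6]
  convert h4 using 2
  rw [Hom.one_def, Over.comp_left, Scheme.Hom.comp_apply]
  exact congrArg η[G].left (Subsingleton.elim (α := ↥(Spec (CommRingCat.of k))) _ _)

/-- The neutral component, and a power map landing in it. -/
theorem exists_data (G : Over (Spec (CommRingCat.of k))) [GrpObj G] [IsCommMonObj G] [LocallyOfFiniteType G.hom]
    [QuasiCompact G.hom] :
    ∃ (G0 : Over (Spec (CommRingCat.of k))) (_ : GrpObj G0) (_ : IsCommMonObj G0) (i : G0 ⟶ G) (_ : IsMonHom i)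
      (N : ℕ) (ψ : G ⟶ G0), 0 < N ∧ IsOpenImmersion i.left ∧ IsClosedImmersion i.left ∧ ConnectedSpace G0.left ∧
        QuasiCompact G0.hom ∧ ψ ≫ i = (𝟙 G) ^ N := by
  obtain ⟨G0, g0, i, hi, h1, h2, h3, h4, h5⟩ := K206.Comm.exists_neutral G
  have hm : Mono i := Over.mono_of_mono_left _
  have hc : IsCommMonObj G0 := K267.DeligneSch.isCommMonObj_of_iso i
  have hqc : CompactSpace G.left := HasAffineProperty.iff_of_isAffine (P := @QuasiCompact).1 ‹_›
  obtain ⟨N, hN, hb⟩ := exists_bound (G := G) ⊤ isCompact_univ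
  have hr : ∀ x : G.left, pw G N x ∈ Set.range i.left := by
    intro x
    have h6 := hb x trivial (exists_tor G x)
    rw [K276.Neutral.Tor, neutralSet_of_subsingleton (IsLocalRing.closedPoint k : ↥(Spec (CommRingCat.of k)))] at h6
    rw [h5 (IsLocalRing.closedPoint k : ↥(Spec (CommRingCat.of k)))]
    exact h6
  have hsub : Set.range (pw G N) ⊆ Set.range i.left := by
    rintro _ ⟨x, rfl⟩
    exact hr x
  let ψ' : G.left ⟶ G0.left := IsOpenImmersion.lift i.left (pw G N) hsub
  have hψ' : ψ' ≫ i.left = pw G N := IsOpenImmersion.lift_fac _ _ _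
  refine ⟨G0, g0, hc, i, hi, N, Over.homMk ψ' ?_, hN, h2, h1, h3, h4, ?_⟩
  · have : ψ' ≫ G0.hom = ψ' ≫ i.left ≫ G.hom := by rw [Over.w]
    rw [this, reassoc_of% hψ']
    exact Over.w ((𝟙 G : G ⟶ G) ^ N)
  · apply Over.OverMorphism.ext
    exact hψ'

theorem etale_pow (G : Over (Spec (CommRingCat.of k))) [GrpObj G] [IsCommMonObj G] [LocallyOfFiniteType G.hom] (m : ℕ)
    (hm : (m : k) ≠ 0) : Etale ((𝟙 G) ^ m).left := by
  have h1 : Etale (𝟙 G ^ (m : ℤ)).left := Groth.Agent.Sga3.H792.PowFlat.etale_zpow_comm G (by exact_mod_cast hm)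
  rwa [zpow_natCast] at h1

theorem isMonHom_pow {C : Type*} [Category C] [CartesianMonoidalCategory C] [BraidedCategory C] (G : C) [GrpObj G]
    [IsCommMonObj G] (m : ℕ) : IsMonHom ((𝟙 G) ^ m) where
  one_hom := by
    rw [MonObj.comp_pow, Category.comp_id, MonObj.one_eq_one, one_pow]
  mul_hom := by
    have hc : fst G G * snd G G = snd G G * fst G G := Hom.commGroup.mul_comm _ _
    have hc' : Commute (fst G G) (snd G G) := hc
    have h1 : μ[G] = fst G G * snd G G := by rw [Hom.mul_def, lift_fst_snd, Category.id_comp]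
    rw [MonObj.comp_pow, Category.comp_id]
    conv_lhs => rw [h1]
    rw [hc'.mul_pow, MonObj.mul_eq_mul, MonObj.comp_mul, tensorHom_fst, tensorHom_snd, MonObj.comp_pow,
      MonObj.comp_pow, Category.comp_id, Category.comp_id]

theorem surjective_pow (G : Over (Spec (CommRingCat.of k))) [GrpObj G] [IsCommMonObj G] [LocallyOfFiniteType G.hom]
    [ConnectedSpace G.left] (m : ℕ) (hm : (m : k) ≠ 0) : Surjective ((𝟙 G) ^ m).left := by
  have h1 := etale_pow G m hm
  have h2 : IsMonHom ((𝟙 G) ^ m) := isMonHom_pow G m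
  have h3 := isLocallyNoetherian_left G
  have h4 := neutralSet_subset_image ((𝟙 G) ^ m) ((𝟙 G) ^ m).left.isOpenMap
  have h5 : SGA3x.neutralSet G = Set.univ := K203.QC.neutralSet_eq_univ G (fun s => by
    have : G.hom ⁻¹' {s} = Set.univ :=
      Set.eq_univ_of_forall fun y ↦ Subsingleton.elim (α := ↥(Spec (CommRingCat.of k))) _ _
    rw [this]
    exact _root_.isConnected_univ)
  refine ⟨fun y => ?_⟩
  have h6 : y ∈ SGA3x.neutralSet G := by rw [h5]; trivial
  obtain ⟨x, -, hx⟩ := h4 h6
  exact ⟨x, hx⟩

end K809.NeutralN
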