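import Groth.Agent.TateGlob.K828.BigCoh
import Groth.Agent.TateGlob.K620.Sys

/-!
# Change of base for `BigSite.HU` (helper809)

For `f : T ⟶ S`, `F` a big sheaf on `S`, `F'` a big sheaf on `T`, `e : f⁻¹ F ≅ F'` and `U` over `T`: the cohomology of
`F` over `U → T → S` is the cohomology of `F'` over `U → T`, compatibly with the restriction maps.
-/

set_option autoImplicit false

universe u

open CategoryTheory CategoryTheory.Limits AlgebraicGeometry Opposite

namespace K809.Chg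

open K828.Kit K827.Deg0b

variable {K : Precoverage Scheme.{u}} {S T : Scheme.{u}} (f : T ⟶ S)

/-- The comparison of objects. -/
noncomputable def eU (U : Over T) (W : Over U.left) :
    (Over.map f).obj ((Over.map U.hom).obj W) ⟶ (Over.map ((Over.map f).obj U).hom).obj W :=
  Over.homMk (𝟙 W.left) (by simp)

/-- Restricting along `U → T → S` in one step or in two steps. -/
noncomputable def cIso (F : BigSite.Ab K S) (U : Over T) :
    (BigSite.pullBig K ((Over.map f).obj U).hom AddCommGrpCat.{u + 1}).obj F ≅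
      (BigSite.pullBig K U.hom AddCommGrpCat.{u + 1}).obj ((BigSite.pullBig K f AddCommGrpCat.{u + 1}).obj F) :=
  (((K.toGrothendieck).overMapPullbackComp AddCommGrpCat.{u + 1} U.hom f).app F).symm

theorem cIso_hom_app (F : BigSite.Ab K S) (U : Over T) (W : Over U.left) :
    (cIso f F U).hom.hom.app (op W) = F.obj.map (eU f U W).op := by
  unfold cIso
  simp only [Iso.symm_hom, Iso.app_inv, GrothendieckTopology.overMapPullbackComp_inv_app_hom_app]
  congr 2

theorem square (F : BigSite.Ab K S) {U V : Over T} (g : V ⟶ U) :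
    (BigSite.pullBig K g.left AddCommGrpCat.{u + 1}).map (cIso f F U).hom ≫
        (HRes.pullIso K ((BigSite.pullBig K f AddCommGrpCat.{u + 1}).obj F) g).hom =
      (HRes.pullIso K F ((Over.map f).map g)).hom ≫ (cIso f F V).hom := by
  apply ObjectProperty.hom_ext
  apply NatTrans.ext
  funext W
  obtain ⟨W⟩ := W
  have h1 := pullIso_hom_app K F ((Over.map f).map g) W
  have h2 := pullIso_hom_app K ((BigSite.pullBig K f AddCommGrpCat.{u + 1}).obj F) g W
  have h3 := cIso_hom_app f F V W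
  have h4 := cIso_hom_app f F U ((Over.map g.left).obj W)
  change (cIso f F U).hom.hom.app (op ((Over.map g.left).obj W)) ≫
      (HRes.pullIso K ((BigSite.pullBig K f AddCommGrpCat.{u + 1}).obj F) g).hom.hom.app (op W) =
    (HRes.pullIso K F ((Over.map f).map g)).hom.hom.app (op W) ≫ (cIso f F V).hom.hom.app (op W)
  rw [h1, h2, h3, h4]
  change F.obj.map _ ≫ F.obj.map ((Over.map f).map (eC g W)).op = F.obj.map _ ≫ F.obj.map _
  rw [← F.obj.map_comp, ← F.obj.map_comp, ← op_comp, ← op_comp]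
  congr 2

/-- The comparison of cohomology groups. -/
noncomputable def chg0 (F : BigSite.Ab K S) (n : ℕ) (U : Over T) :
    BigSite.HU K F n ((Over.map f).obj U) →+
      BigSite.HU K ((BigSite.pullBig K f AddCommGrpCat.{u + 1}).obj F) n U :=
  Sheaf.H.map (cIso f F U).hom n

theorem chg0_bijective (F : BigSite.Ab K S) (n : ℕ) (U : Over T) : Function.Bijective (chg0 f F n U) := by
  refine ⟨fun x y h => ?_, fun y => ⟨Sheaf.H.map (cIso f F U).inv n y, ?_⟩⟩
  · have h1 := congrArg (Sheaf.H.map (cIso f F U).inv n) h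
    rwa [chg0, ← Sheaf.H.map_comp_apply, ← Sheaf.H.map_comp_apply, Iso.hom_inv_id, Sheaf.H.map_id_apply,
      Sheaf.H.map_id_apply] at h1
  · rw [chg0, ← Sheaf.H.map_comp_apply, Iso.inv_hom_id, Sheaf.H.map_id_apply]

theorem chg0_res (F : BigSite.Ab K S) (n : ℕ) {U V : Over T} (g : V ⟶ U)
    (x : BigSite.HU K F n ((Over.map f).obj U)) :
    chg0 f F n V (HRes.resHU K F n ((Over.map f).map g) x) =
      HRes.resHU K ((BigSite.pullBig K f AddCommGrpCat.{u + 1}).obj F) n g (chg0 f F n U x) := by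
  change Sheaf.H.map (cIso f F V).hom n (Sheaf.H.map (HRes.pullIso K F ((Over.map f).map g)).hom n
      (HRes.pull K g.left _ n x)) =
    Sheaf.H.map (HRes.pullIso K ((BigSite.pullBig K f AddCommGrpCat.{u + 1}).obj F) g).hom n
      (HRes.pull K g.left _ n (Sheaf.H.map (cIso f F U).hom n x))
  rw [HRes.pull_map, ← Sheaf.H.map_comp_apply, ← Sheaf.H.map_comp_apply, square]

/-- The comparison is natural in the sheaf. -/
theorem chg0_map {F G : BigSite.Ab K S} (φ : F ⟶ G) (n : ℕ) (U : Over T)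
    (x : BigSite.HU K F n ((Over.map f).obj U)) :
    chg0 f G n U (mapHU φ n _ x) =
      mapHU ((BigSite.pullBig K f AddCommGrpCat.{u + 1}).map φ) n U (chg0 f F n U x) := by
  rw [chg0, chg0, mapHU, mapHU, ← Sheaf.H.map_comp_apply, ← Sheaf.H.map_comp_apply]
  congr 2
  exact ((K.toGrothendieck).overMapPullbackComp AddCommGrpCat.{u + 1} U.hom f).inv.naturality φ

section

variable {F : BigSite.Ab K S} {F' : BigSite.Ab K T} (e : (BigSite.pullBig K f AddCommGrpCat.{u + 1}).obj F ≅ F')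

/-- The comparison map, for any object `U'` over `S` isomorphic to `U → T → S` and any sheaf `F' ≅ f⁻¹ F`. -/
noncomputable def chg (n : ℕ) {U : Over T} {U' : Over S} (θ : (Over.map f).obj U ≅ U') :
    BigSite.HU K F n U' →+ BigSite.HU K F' n U :=
  (mapHU e.hom n U).comp ((chg0 f F n U).comp (HRes.resHU K F n θ.hom))

theorem resHU_iso_bijective (F : BigSite.Ab K S) (n : ℕ) {U V : Over S} (θ : U ≅ V) :
    Function.Bijective (HRes.resHU K F n θ.hom) := by
  refine ⟨fun x y h => ?_, fun y => ⟨HRes.resHU K F n θ.inv y, ?_⟩⟩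
  · have h1 := congrArg (HRes.resHU K F n θ.inv) h
    rwa [← K828.BigCoh.resHU_comp, ← K828.BigCoh.resHU_comp, Iso.inv_hom_id, K828.BigCoh.resHU_id,
      K828.BigCoh.resHU_id] at h1
  · rw [← K828.BigCoh.resHU_comp, Iso.hom_inv_id, K828.BigCoh.resHU_id]

theorem chg_bijective (n : ℕ) {U : Over T} {U' : Over S} (θ : (Over.map f).obj U ≅ U') :
    Function.Bijective (chg f e n θ) := by
  have h1 := (mapHU_iso_bijective e n U).comp ((chg0_bijective f F n U).comp (resHU_iso_bijective F n θ))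
  exact h1

theorem chg_res (n : ℕ) {U V : Over T} {U' V' : Over S} (θ : (Over.map f).obj U ≅ U')
    (τ : (Over.map f).obj V ≅ V') (g : V ⟶ U) (g' : V' ⟶ U') (hg : (Over.map f).map g ≫ θ.hom = τ.hom ≫ g')
    (x : BigSite.HU K F n U') :
    chg f e n τ (HRes.resHU K F n g' x) = HRes.resHU K F' n g (chg f e n θ x) := by
  change mapHU e.hom n V (chg0 f F n V (HRes.resHU K F n τ.hom (HRes.resHU K F n g' x))) =
    HRes.resHU K F' n g (mapHU e.hom n U (chg0 f F n U (HRes.resHU K F n θ.hom x)))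
  rw [← K828.BigCoh.resHU_comp, ← hg, K828.BigCoh.resHU_comp, chg0_res]
  exact (resHU_map e.hom n g _).symm

end

/-! ## Rings -/

section Rings

variable {R R' : Type u} [CommRing R] [CommRing R'] (ι : R →+* R')

/-- `Spec A` over `Spec R'`, viewed over `Spec R`. -/
noncomputable def θA {A : Type u} [CommRing A] (φ : R →+* A) (φ' : R' →+* A) (h : φ'.comp ι = φ) :
    (Over.map (Spec.map (CommRingCat.ofHom ι))).obj (AdFn.specOf φ') ≅ AdFn.specOf φ :=
  Over.isoMk (Iso.refl _) (by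
    subst h
    change 𝟙 _ ≫ Spec.map (CommRingCat.ofHom (φ'.comp ι)) = Spec.map (CommRingCat.ofHom φ') ≫ Spec.map (CommRingCat.ofHom ι)
    rw [Category.id_comp, ← Spec.map_comp, ← CommRingCat.ofHom_comp])

variable {F : BigSite.Ab K (Spec (CommRingCat.of R))} {F' : BigSite.Ab K (Spec (CommRingCat.of R'))}
  (e : (BigSite.pullBig K (Spec.map (CommRingCat.ofHom ι)) AddCommGrpCat.{u + 1}).obj F ≅ F')

/-- The comparison map for affine schemes. -/
noncomputable def chgA (n : ℕ) {A : Type u} [CommRing A] (φ : R →+* A) (φ' : R' →+* A) (h : φ'.comp ι = φ) :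
    BigSite.HU K F n (AdFn.specOf φ) →+ BigSite.HU K F' n (AdFn.specOf φ') :=
  chg _ e n (θA ι φ φ' h)

theorem chgA_bijective (n : ℕ) {A : Type u} [CommRing A] (φ : R →+* A) (φ' : R' →+* A) (h : φ'.comp ι = φ) :
    Function.Bijective (chgA ι e n φ φ' h) := chg_bijective _ e n _

theorem chgA_res (n : ℕ) {A B : Type u} [CommRing A] [CommRing B] (φ : R →+* A) (φ' : R' →+* A) (h : φ'.comp ι = φ)
    (ψ : R →+* B) (ψ' : R' →+* B) (h' : ψ'.comp ι = ψ) (χ : A →+* B) (hχ : χ.comp φ = ψ) (hχ' : χ.comp φ' = ψ')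
    (x : BigSite.HU K F n (AdFn.specOf φ)) :
    chgA ι e n ψ ψ' h' (HRes.resHU K F n (AdFn.specOfHom φ ψ χ hχ) x) =
      HRes.resHU K F' n (AdFn.specOfHom φ' ψ' χ hχ') (chgA ι e n φ φ' h x) := by
  refine chg_res _ e n (θA ι φ φ' h) (θA ι ψ ψ' h') _ _ ?_ x
  ext1
  change Spec.map (CommRingCat.ofHom χ) ≫ 𝟙 _ = 𝟙 _ ≫ Spec.map (CommRingCat.ofHom χ)
  rw [Category.comp_id, Category.id_comp]

end Rings

/-! ## Consequences for restriction maps -/

section Rings2

open AdFn

variable {R R' : Type u} [CommRing R] [CommRing R'] (ι : R →+* R')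
variable {F : BigSite.Ab K (Spec (CommRingCat.of R))} {F' : BigSite.Ab K (Spec (CommRingCat.of R'))}
  (e : (BigSite.pullBig K (Spec.map (CommRingCat.ofHom ι)) AddCommGrpCat.{u + 1}).obj F ≅ F')

include e in
/-- Injectivity of `H^n(A, F) → H^n(B, F)` does not depend on the base. -/
theorem resHU_injective_iff (n : ℕ) {A B : Type u} [CommRing A] [CommRing B] (φ : R →+* A) (φ' : R' →+* A)
    (hφ : φ'.comp ι = φ) (ψ : R →+* B) (ψ' : R' →+* B) (hψ : ψ'.comp ι = ψ) (χ : A →+* B)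
    (hχ : χ.comp φ = ψ) (hχ' : χ.comp φ' = ψ') :
    Function.Injective (HRes.resHU K F n (specOfHom φ ψ χ hχ)) ↔
      Function.Injective (HRes.resHU K F' n (specOfHom φ' ψ' χ hχ')) := by
  have h1 : (chgA ι e n ψ ψ' hψ) ∘ (HRes.resHU K F n (specOfHom φ ψ χ hχ)) =
      (HRes.resHU K F' n (specOfHom φ' ψ' χ hχ')) ∘ (chgA ι e n φ φ' hφ) :=
    funext fun x => chgA_res ι e n φ φ' hφ ψ ψ' hψ χ hχ hχ' x
  have h2 := chgA_bijective ι e n ψ ψ' hψ
  have h3 := chgA_bijective ι e n φ φ' hφ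
  rw [← h2.1.of_comp_iff, h1, Function.Injective.of_comp_iff' _ h3]

include e in
theorem subsingleton_iff (n : ℕ) {A : Type u} [CommRing A] (φ : R →+* A) (φ' : R' →+* A)
    (hφ : φ'.comp ι = φ) :
    Subsingleton (BigSite.HU K F n (specOf φ)) ↔ Subsingleton (BigSite.HU K F' n (specOf φ')) :=
  (Equiv.ofBijective _ (chgA_bijective ι e n φ φ' hφ)).subsingleton_congr

include e in
/-- A product map: `H^n(A, F) → ∏ H^n(B i, F)`, injectivity. -/
theorem pi_injective_iff (n : ℕ) {I : Type*} {A : Type u} [CommRing A] {B : I → Type u} [∀ i, CommRing (B i)]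
    (φ : R →+* A) (φ' : R' →+* A) (hφ : φ'.comp ι = φ) (ψ : ∀ i, R →+* B i)
    (ψ' : ∀ i, R' →+* B i) (hψ : ∀ i, (ψ' i).comp ι = ψ i) (χ : ∀ i, A →+* B i)
    (hχ : ∀ i, (χ i).comp φ = ψ i) (hχ' : ∀ i, (χ i).comp φ' = ψ' i) :
    Function.Injective (fun (x : BigSite.HU K F n (specOf φ)) (i : I) =>
        HRes.resHU K F n (specOfHom φ (ψ i) (χ i) (hχ i)) x) ↔
      Function.Injective (fun (x : BigSite.HU K F' n (specOf φ')) (i : I) =>
        HRes.resHU K F' n (specOfHom φ' (ψ' i) (χ i) (hχ' i)) x) := by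
  have h1 : (fun y : (∀ i, BigSite.HU K F n (specOf (ψ i))) => fun i => chgA ι e n (ψ i) (ψ' i) (hψ i) (y i)) ∘
      (fun (x : BigSite.HU K F n (specOf φ)) (i : I) => HRes.resHU K F n (specOfHom φ (ψ i) (χ i) (hχ i)) x) =
      (fun (x : BigSite.HU K F' n (specOf φ')) (i : I) =>
        HRes.resHU K F' n (specOfHom φ' (ψ' i) (χ i) (hχ' i)) x) ∘ (chgA ι e n φ φ' hφ) :=
    funext fun x => funext fun i => chgA_res ι e n φ φ' hφ (ψ i) (ψ' i) (hψ i) (χ i) (hχ i) (hχ' i) x
  have h2 : Function.Bijective (fun y : (∀ i, BigSite.HU K F n (specOf (ψ i))) =>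
      fun i => chgA ι e n (ψ i) (ψ' i) (hψ i) (y i)) :=
    Function.Bijective.piMap (fun i => chgA_bijective ι e n (ψ i) (ψ' i) (hψ i))
  have h3 := chgA_bijective ι e n φ φ' hφ
  rw [← h2.1.of_comp_iff, h1, Function.Injective.of_comp_iff' _ h3]

include e in
/-- A product map: `H^n(A, F) → ∏ H^n(B i, F)`, surjectivity. -/
theorem pi_surjective_iff (n : ℕ) {I : Type*} {A : Type u} [CommRing A] {B : I → Type u} [∀ i, CommRing (B i)]
    (φ : R →+* A) (φ' : R' →+* A) (hφ : φ'.comp ι = φ) (ψ : ∀ i, R →+* B i)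
    (ψ' : ∀ i, R' →+* B i) (hψ : ∀ i, (ψ' i).comp ι = ψ i) (χ : ∀ i, A →+* B i)
    (hχ : ∀ i, (χ i).comp φ = ψ i) (hχ' : ∀ i, (χ i).comp φ' = ψ' i) :
    Function.Surjective (fun (x : BigSite.HU K F n (specOf φ)) (i : I) =>
        HRes.resHU K F n (specOfHom φ (ψ i) (χ i) (hχ i)) x) ↔
      Function.Surjective (fun (x : BigSite.HU K F' n (specOf φ')) (i : I) =>
        HRes.resHU K F' n (specOfHom φ' (ψ' i) (χ i) (hχ' i)) x) := by
  have h1 : (fun y : (∀ i, BigSite.HU K F n (specOf (ψ i))) => fun i => chgA ι e n (ψ i) (ψ' i) (hψ i) (y i)) ∘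
      (fun (x : BigSite.HU K F n (specOf φ)) (i : I) => HRes.resHU K F n (specOfHom φ (ψ i) (χ i) (hχ i)) x) =
      (fun (x : BigSite.HU K F' n (specOf φ')) (i : I) =>
        HRes.resHU K F' n (specOfHom φ' (ψ' i) (χ i) (hχ' i)) x) ∘ (chgA ι e n φ φ' hφ) :=
    funext fun x => funext fun i => chgA_res ι e n φ φ' hφ (ψ i) (ψ' i) (hψ i) (χ i) (hχ i) (hχ' i) x
  have h2 : Function.Bijective (fun y : (∀ i, BigSite.HU K F n (specOf (ψ i))) =>
      fun i => chgA ι e n (ψ i) (ψ' i) (hψ i) (y i)) :=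
    Function.Bijective.piMap (fun i => chgA_bijective ι e n (ψ i) (ψ' i) (hψ i))
  have h3 := chgA_bijective ι e n φ φ' hφ
  rw [← Function.Surjective.of_comp_iff' h2, h1, h3.2.of_comp_iff]

end Rings2

/-! ## `S`-integers -/

section SInt

open AdFn

variable {k K₀ : Type u} [Field k] [Field K₀] [Algebra k K₀] {S₁ S₂ : Set (FunFld.Place k K₀)} (h : S₁ ⊆ S₂)

/-- `O_{S₁} → O_{S₂}`. -/
noncomputable abbrev inc : SInt S₁ →+* SInt S₂ := (K620.Sys.incl h).toRingHom

/-- The structure map `O_{S₁} → ∏_{v ∉ T} O_v` for `S₁ ⊆ T`. -/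
noncomputable abbrev toOH (S₁ : Set (FunFld.Place k K₀)) {T : Set (FunFld.Place k K₀)} (hT : S₁ ⊆ T) :
    SInt S₁ →+* OHat T :=
  RingHom.pi fun w : {w : FunFld.Place k K₀ // w ∉ T} => SInt.toOv S₁ (fun hw => w.2 (hT hw))

theorem toOv_inc {v : FunFld.Place k K₀} (hv : v ∉ S₂) (hv' : v ∉ S₁) :
    (SInt.toOv S₂ hv).comp (inc h) = SInt.toOv S₁ hv' := RingHom.ext fun _ => Subtype.ext rfl

theorem toKv_inc (v : FunFld.Place k K₀) : (SInt.toKv S₂ v).comp (inc h) = SInt.toKv S₁ v := RingHom.ext fun _ => rfl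

theorem toK_inc : (SInt.toK S₂).comp (inc h) = SInt.toK S₁ := RingHom.ext fun _ => rfl

theorem toOH_inc {T : Set (FunFld.Place k K₀)} (hT : S₂ ⊆ T) (hT' : S₁ ⊆ T) :
    (toOH S₂ hT).comp (inc h) = toOH S₁ hT' := RingHom.ext fun _ => funext fun _ => Subtype.ext rfl

theorem toAd_inc [HasFinitePoles k K₀] : (SInt.toAd S₂).comp (inc h) = SInt.toAd S₁ := RingHom.ext fun _ => rfl

theorem proj_toOH {T : Set (FunFld.Place k K₀)} (hT' : S₁ ⊆ T) {v : FunFld.Place k K₀} (hv : v ∉ T) :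
    (OHat.proj T hv).comp (toOH S₁ hT') = SInt.toOv S₁ (fun hw => hv (hT' hw)) := RingHom.ext fun _ => rfl

variable {F : BigSite.Ab K (Spec (CommRingCat.of (SInt S₁)))} {F' : BigSite.Ab K (Spec (CommRingCat.of (SInt S₂)))}
  (e : (BigSite.pullBig K (Spec.map (CommRingCat.ofHom (inc h))) AddCommGrpCat.{u + 1}).obj F ≅ F')

include e in
theorem intRes_injective_iff (n : ℕ) {v : FunFld.Place k K₀} (hv : v ∉ S₂) (hv' : v ∉ S₁) :
    Function.Injective (intRes K S₁ F n hv') ↔ Function.Injective (intRes K S₂ F' n hv) :=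
  resHU_injective_iff (inc h) e n (SInt.toOv S₁ hv') (SInt.toOv S₂ hv) (toOv_inc h hv hv') (SInt.toKv S₁ v)
    (SInt.toKv S₂ v) (toKv_inc h v) (Ov v).subtype (RingHom.ext fun _ => rfl) (RingHom.ext fun _ => rfl)

include e in
theorem ohat_injective_iff (n : ℕ) {T : Set (FunFld.Place k K₀)} (hT : S₂ ⊆ T) (hT' : S₁ ⊆ T) :
    Function.Injective (fun (x : BigSite.HU K F n (specOf (toOH S₁ hT')))
        (v : {v : FunFld.Place k K₀ // v ∉ T}) => HRes.resHU K F n (specOfHom (toOH S₁ hT')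
          (SInt.toOv S₁ (fun hw => v.2 (hT' hw))) (OHat.proj T v.2) (proj_toOH hT' v.2)) x) ↔
      Function.Injective (fun (x : BigSite.HU K F' n (specOf (toOH S₂ hT)))
        (v : {v : FunFld.Place k K₀ // v ∉ T}) => HRes.resHU K F' n (specOfHom (toOH S₂ hT)
          (SInt.toOv S₂ (fun hw => v.2 (hT hw))) (OHat.proj T v.2) (proj_toOH hT v.2)) x) :=
  pi_injective_iff (inc h) e n (toOH S₁ hT') (toOH S₂ hT) (toOH_inc h hT hT') (fun v => SInt.toOv S₁ (fun hw => v.2 (hT' hw)))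
    (fun v => SInt.toOv S₂ (fun hw => v.2 (hT hw))) (fun v => toOv_inc h _ _) (fun v => OHat.proj T v.2)
    (fun v => proj_toOH hT' v.2) (fun v => proj_toOH hT v.2)

include e in
theorem ohat_surjective_iff (n : ℕ) {T : Set (FunFld.Place k K₀)} (hT : S₂ ⊆ T) (hT' : S₁ ⊆ T) :
    Function.Surjective (fun (x : BigSite.HU K F n (specOf (toOH S₁ hT')))
        (v : {v : FunFld.Place k K₀ // v ∉ T}) => HRes.resHU K F n (specOfHom (toOH S₁ hT')
          (SInt.toOv S₁ (fun hw => v.2 (hT' hw))) (OHat.proj T v.2) (proj_toOH hT' v.2)) x) ↔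
      Function.Surjective (fun (x : BigSite.HU K F' n (specOf (toOH S₂ hT)))
        (v : {v : FunFld.Place k K₀ // v ∉ T}) => HRes.resHU K F' n (specOfHom (toOH S₂ hT)
          (SInt.toOv S₂ (fun hw => v.2 (hT hw))) (OHat.proj T v.2) (proj_toOH hT v.2)) x) :=
  pi_surjective_iff (inc h) e n (toOH S₁ hT') (toOH S₂ hT) (toOH_inc h hT hT') (fun v => SInt.toOv S₁ (fun hw => v.2 (hT' hw)))
    (fun v => SInt.toOv S₂ (fun hw => v.2 (hT hw))) (fun v => toOv_inc h _ _) (fun v => OHat.proj T v.2)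
    (fun v => proj_toOH hT' v.2) (fun v => proj_toOH hT v.2)

end SInt

end K809.Chg
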