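import Groth.Agent.TateLoc.K809.QuotGrp
import Groth.Agent.S4085
import Groth.Agent.S4086
import Groth.Agent.Sga3.H775.ActGrpd

/-!
# Quotients of commutative group schemes by finite locally free subgroups
-/

set_option autoImplicit false
universe u

open CategoryTheory CategoryTheory.Limits MonoidalCategory CartesianMonoidalCategory MonObj GrpObj AlgebraicGeometry

namespace K809.QuotFin

open Groth.Agent.Sga3.H775.ActGrpd

variable {S : Scheme.{u}} {I G : Over S} [GrpObj I] [GrpObj G] (u : I ⟶ G) [IsMonHom u]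

/-- translation action -/
noncomputable def act : AlgGrp.Action I G where
  act := (u ▷ G) ≫ μ[G]
  one_act := by
    rw [← Category.assoc, ← comp_whiskerRight, IsMonHom.one_hom, MonObj.one_mul]
  mul_act := by
    rw [← Category.assoc, ← comp_whiskerRight, IsMonHom.mul_hom, comp_whiskerRight, Category.assoc,
      MonObj.mul_assoc, ← tensorHom_id, associator_naturality_assoc, ← tensorHom_id, ← id_tensorHom,
      ← id_tensorHom, tensorHom_comp_tensorHom_assoc, tensorHom_comp_tensorHom_assoc]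
    simp

lemma lift_act {T : Over S} (i : T ⟶ I) (g : T ⟶ G) : lift i g ≫ (act u).act = (i ≫ u) * g := by
  change lift i g ≫ (u ▷ G) ≫ μ[G] = _
  rw [lift_whiskerRight_assoc]
  rfl

/-- The quotient of a group scheme by a congruence is a group scheme. -/
theorem exists_grpObj {M : Over S} (q : G ⟶ M) [Flat q.left] [Surjective q.left] [QuasiCompact q.left]
    (hq : ∀ (T : Over S) (x x' y y' : T ⟶ G), x ≫ q = x' ≫ q → y ≫ q = y' ≫ q → (x * y) ≫ q = (x' * y') ≫ q) :
    ∃ (_ : GrpObj M), IsMonHom q ∧ (IsCommMonObj G → IsCommMonObj M) := by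
  have h2f : Flat (q ⊗ₘ q).left := K404.Desc.tensorHom_left_of (@Flat) q q ‹_› ‹_›
  have h2s : Surjective (q ⊗ₘ q).left := K404.Desc.tensorHom_left_of (@Surjective) q q ‹_› ‹_›
  have h2c : QuasiCompact (q ⊗ₘ q).left := K404.Desc.tensorHom_left_of (@QuasiCompact) q q ‹_› ‹_›
  have h3f : Flat ((q ⊗ₘ q) ⊗ₘ q).left := K404.Desc.tensorHom_left_of (@Flat) (q ⊗ₘ q) q ‹_› ‹_›
  have h3s : Surjective ((q ⊗ₘ q) ⊗ₘ q).left := K404.Desc.tensorHom_left_of (@Surjective) (q ⊗ₘ q) q ‹_› ‹_›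
  have h3c : QuasiCompact ((q ⊗ₘ q) ⊗ₘ q).left := K404.Desc.tensorHom_left_of (@QuasiCompact) (q ⊗ₘ q) q ‹_› ‹_›
  have e1 : Epi q := K404.Desc.epi_of q
  have e2 : Epi (q ⊗ₘ q) := K404.Desc.epi_of _
  have e3 : Epi ((q ⊗ₘ q) ⊗ₘ q) := K404.Desc.epi_of _
  obtain ⟨m, hm⟩ := K404.Desc.exists_desc (q ⊗ₘ q) (μ[G] ≫ q) (by
    intro T x y hxy
    have h1 : (x ≫ fst G G) ≫ q = (y ≫ fst G G) ≫ q := by
      have := congrArg (· ≫ fst M M) hxy
      simpa using this
    have h2 : (x ≫ snd G G) ≫ q = (y ≫ snd G G) ≫ q := by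
      have := congrArg (· ≫ snd M M) hxy
      simpa using this
    have h3 := hq T _ _ _ _ h1 h2
    rw [Hom.mul_def, Hom.mul_def, lift_comp_fst_snd, lift_comp_fst_snd] at h3
    simpa using h3)
  obtain ⟨i, hi⟩ := K404.Desc.exists_desc q (ι[G] ≫ q) (by
    intro T x y hxy
    have h1 : x⁻¹ ≫ q = y⁻¹ ≫ q := by
      have h1 := hq T x⁻¹ x⁻¹ _ _ rfl (hq T x y y⁻¹ y⁻¹ hxy rfl)
      rw [mul_inv_cancel, _root_.mul_one, inv_mul_cancel_left] at h1
      exact h1.symm ▸ rfl
    rw [Hom.inv_def, Hom.inv_def] at h1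
    simpa using h1)
  let g : GrpObj M := QuotGrp.grpObj q m hm i hi
  refine ⟨g, ⟨rfl, hm.symm⟩, fun hc => ⟨?_⟩⟩
  change (β_ M M).hom ≫ m = m
  rw [← cancel_epi (q ⊗ₘ q), BraidedCategory.braiding_naturality_assoc, hm, IsCommMonObj.mul_comm_assoc]

lemma free [Mono u] (T : Over S) (g : T ⟶ I) (x : T ⟶ G) (h : lift g x ≫ (act u).act = x) : g = toUnit T ≫ η[I] := by
  rw [lift_act] at h
  have h1 : g ≫ u = 1 := by
    have := congrArg (· * x⁻¹) h
    simpa using this
  have h2 : g ≫ u = (1 : T ⟶ I) ≫ u := by rw [h1, MonObj.one_comp]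
  exact (cancel_mono u).1 h2

omit [GrpObj I] [GrpObj G] in
lemma isFinLocFree_snd (hI : Mor2.IsFinLocFree I.hom) : Mor2.IsFinLocFree (snd I G).left := by
  obtain ⟨h1, h2, h3⟩ := hI
  exact ⟨inferInstanceAs (IsFinite (pullback.snd I.hom G.hom)), inferInstanceAs (Flat (pullback.snd I.hom G.hom)),
    inferInstanceAs (LocallyOfFinitePresentation (pullback.snd I.hom G.hom))⟩

lemma exists_affine (hG : IsAffineHom G.hom) (x : G.left) : ∃ V : G.left.Opens, IsAffineOpen V ∧
    (act u).act.left.base '' ((snd I G).left.base ⁻¹' {x}) ⊆ (V : Set G.left) := by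
  obtain ⟨V, hV, hxV, -⟩ := exists_isAffineOpen_mem_and_subset (X := S) (U := ⊤) (x := G.hom x) trivial
  refine ⟨G.hom ⁻¹ᵁ V, hV.preimage G.hom, ?_⟩
  rintro _ ⟨r, hr, rfl⟩
  change G.hom ((act u).act.left r) ∈ V
  rw [← Scheme.Hom.comp_apply, Over.w, ← Over.w (snd I G), Scheme.Hom.comp_apply]
  change (snd I G).left r = x at hr
  rw [hr]
  exact hxV

lemma mono_j [Mono u] : Mono (actGrpd (act u)).j := by
  constructor
  intro Z (α : Z ⟶ (I ⊗ G).left) (β : Z ⟶ (I ⊗ G).left) hab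
  have h1 : α ≫ (act u).act.left = β ≫ (act u).act.left := by
    have := congrArg (· ≫ pullback.fst (actGrpd (act u)).pU (actGrpd (act u)).pU) hab
    simp only [Grpd.GroupoidScheme.j, Category.assoc] at this
    erw [pullback.lift_fst] at this
    exact this
  have h2 : α ≫ (snd I G).left = β ≫ (snd I G).left := by
    have := congrArg (· ≫ pullback.snd (actGrpd (act u)).pU (actGrpd (act u)).pU) hab
    simp only [Grpd.GroupoidScheme.j, Category.assoc] at this
    erw [pullback.lift_snd] at this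
    exact this
  let α' : Over.mk (α ≫ (I ⊗ G).hom) ⟶ I ⊗ G := Over.homMk α rfl
  let β' : Over.mk (α ≫ (I ⊗ G).hom) ⟶ I ⊗ G := Over.homMk β (by
    change β ≫ (I ⊗ G).hom = α ≫ (I ⊗ G).hom
    rw [← Over.w (snd I G), reassoc_of% h2])
  have e1 : α' ≫ (act u).act = β' ≫ (act u).act := Over.OverMorphism.ext h1
  have e2 : α' ≫ snd I G = β' ≫ snd I G := Over.OverMorphism.ext h2
  have e3 : α' ≫ fst I G = β' ≫ fst I G := by
    rw [act_eq, act_eq (act u) β', lift_act, lift_act, e2, mul_left_inj, cancel_mono] at e1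
    exact e1
  have : α' = β' := CartesianMonoidalCategory.hom_ext _ _ e3 e2
  exact congrArg CommaMorphism.left this

/-- The quotient of a relatively affine commutative group scheme by a finite locally free subgroup. -/
theorem exists_quot [IsCommMonObj G] [Mono u] (hI : Mor2.IsFinLocFree I.hom) (hG : IsAffineHom G.hom) :
    ∃ (M : Over S) (_ : GrpObj M) (_ : IsCommMonObj M) (q : G ⟶ M) (_ : IsMonHom q), Mor2.IsFinLocFree q.left ∧
      Surjective q.left ∧ (IsAffine G.left → IsAffine M.left) ∧ AlgGrp.IsKernel u q ∧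
      IsPullback (act u).act.left (snd I G).left q.left q.left := by
  have hsnd := isFinLocFree_snd (G := G) hI
  have i := hsnd
  obtain ⟨i1, i2, i3⟩ := i
  have hmono := mono_j u
  have hb : ∀ x : (actGrpd (act u)).U, ∃ V : (actGrpd (act u)).U.Opens, IsAffineOpen V ∧
      (actGrpd (act u)).t.base '' ((actGrpd (act u)).s.base ⁻¹' {x}) ⊆ (V : Set (actGrpd (act u)).U) := exists_affine u hG
  obtain ⟨Y, p, w, ⟨hc⟩, h1, h2, -, -, -, haff⟩ := Groth.Agent.S4085.result S (actGrpd (act u)) hsnd hb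
  obtain ⟨hp, hf⟩ := Groth.Agent.S4086.result S (actGrpd (act u)) hsnd hb Y p w hc
  let r : Y ⟶ S := Cofork.IsColimit.desc hc (actGrpd (act u)).pU ((actGrpd (act u)).t_over.trans (actGrpd (act u)).s_over.symm)
  have hr : p ≫ r = (actGrpd (act u)).pU := Cofork.IsColimit.π_desc' hc _ _
  let q : G ⟶ Over.mk r := Over.homMk p hr
  have j0 : IsFinite q.left := hf.1
  have j1 : Flat q.left := hf.2.1
  have j2 : LocallyOfFinitePresentation q.left := hf.2.2
  have j3 : Surjective q.left := h2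
  have h4 : IsPullback (act u).act (snd I G) q q :=
    IsPullback.of_map (Over.forget S) (Over.OverMorphism.ext w) hp
  have key : ∀ (T : Over S) (i : T ⟶ I) (x : T ⟶ G), ((i ≫ u) * x) ≫ q = x ≫ q := by
    intro T i x
    rw [← lift_act, Category.assoc, h4.w, lift_snd_assoc]
  have key2 : ∀ (T : Over S) (x y : T ⟶ G), x ≫ q = y ≫ q → ∃ i : T ⟶ I, x = (i ≫ u) * y := by
    intro T x y hxy
    refine ⟨h4.lift x y hxy ≫ fst I G, ?_⟩
    have e1 := h4.lift_fst x y hxy
    have e2 := h4.lift_snd x y hxy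
    rw [act_eq, lift_act, e2] at e1
    exact e1.symm
  obtain ⟨g, hg, hcm⟩ := exists_grpObj q (by
    intro T x x' y y' hx hy
    obtain ⟨i, rfl⟩ := key2 T x x' hx
    obtain ⟨j, rfl⟩ := key2 T y y' hy
    have : (i ≫ u) * x' * ((j ≫ u) * y') = ((i * j) ≫ u) * (x' * y') := by
      rw [MonObj.mul_comp, _root_.mul_mul_mul_comm]
    rw [this, key])
  refine ⟨_, g, hcm ‹_›, q, hg, hf, h2, fun h => haff h, ?_, hp⟩
  have w0 : u ≫ q = toUnit I ≫ η[Over.mk r] := by
    have := key I (𝟙 I) 1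
    rw [_root_.mul_one, Category.id_comp, MonObj.one_comp] at this
    exact this
  have ex : ∀ s : PullbackCone q η[Over.mk r], ∃ i : s.pt ⟶ I, i ≫ u = s.fst := fun s => by
    obtain ⟨i, hi⟩ := key2 s.pt s.fst 1 (by
      rw [s.condition, toUnit_unique s.snd (toUnit _), MonObj.one_comp]; rfl)
    exact ⟨i, by rw [hi, _root_.mul_one]⟩
  choose l hl using ex
  exact ⟨⟨w0⟩, ⟨PullbackCone.IsLimit.mk _ l hl (fun s => toUnit_unique _ _)
    (fun s m hm _ => by rw [← cancel_mono u, hm, hl])⟩⟩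

end K809.QuotFin
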