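import Groth.Prelude.Def_CGrpSh
import Groth.Prelude.Def_AlgGrp
import Groth.Agent.CGrpSh.K731.Basic

/-!
# Exactness of `CGrpSh.seq` from scheme data
-/

set_option autoImplicit false
universe u

open CategoryTheory CategoryTheory.Limits MonoidalCategory CartesianMonoidalCategory MonObj AlgebraicGeometry Opposite

namespace K809.SeqExact

variable {S : Scheme.{u}} {I G M : Over S} [GrpObj I] [IsCommMonObj I] [GrpObj G] [IsCommMonObj G] [GrpObj M]
  [IsCommMonObj M]

omit [GrpObj I] [IsCommMonObj I] [GrpObj G] [IsCommMonObj G] in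
lemma exists_lift_ker (u : I ⟶ G) (v : G ⟶ M) (hk : AlgGrp.IsKernel u v) {T : Over S} (x : T ⟶ G)
    (hx : x ≫ v = 1) : ∃ y : T ⟶ I, y ≫ u = x := by
  have h : IsPullback u (toUnit I) v η[M] := hk
  refine ⟨h.lift x (toUnit T) ?_, h.lift_fst _ _ _⟩
  rw [hx, Hom.one_def]

omit [GrpObj I] [IsCommMonObj I] [GrpObj G] [IsCommMonObj G] [IsCommMonObj M] in
lemma mono_of_isKernel (u : I ⟶ G) (v : G ⟶ M) (hk : AlgGrp.IsKernel u v) : Mono u := by
  have h : IsPullback u (toUnit I) v η[M] := hk
  exact ⟨fun a b hab => h.hom_ext hab (toUnit_unique _ _)⟩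

/-- `0 → I → G → M → 0` is exact on the big fppf site when `I` is the kernel of an fppf covering `v : G ⟶ M`. -/
theorem shortExact (u : I ⟶ G) (v : G ⟶ M) [IsMonHom u] [IsMonHom v] (w : u ≫ v = 1) (hk : AlgGrp.IsKernel u v)
    [Flat v.left] [Surjective v.left] [LocallyOfFinitePresentation v.left] :
    (CGrpSh.seq Scheme.fppfPrecoverage u v w).ShortExact := by
  have hm := mono_of_isKernel u v hk
  have h1 : Mono (CGrpSh.seq Scheme.fppfPrecoverage u v w).f := by
    apply K731.Basic.mono_of_injective
    intro T x y hxy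
    apply ULift.ext
    have := congrArg ULift.down hxy
    exact (cancel_mono u).1 this
  have h2 : Epi (CGrpSh.seq Scheme.fppfPrecoverage u v w).g := by
    apply K731.Basic.epi_of_exists_cover
    intro T b
    let b' : T ⟶ M := b.down.toMul
    refine ⟨_, Scheme.Hom.singleton_mem_fppfPrecoverage (pullback.fst b'.left v.left), ?_⟩
    rintro Y f ⟨⟩
    refine ⟨ULift.up (Additive.ofMul (Over.homMk (pullback.snd b'.left v.left) ?_)), ?_⟩
    · change pullback.snd b'.left v.left ≫ G.hom = pullback.fst b'.left v.left ≫ T.hom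
      rw [← Over.w v, ← Over.w b', pullback.condition_assoc]
    · apply ULift.ext
      change Additive.ofMul _ = Additive.ofMul _
      congr 1
      apply Over.OverMorphism.ext
      exact pullback.condition.symm
  have h3 : (CGrpSh.seq Scheme.fppfPrecoverage u v w).Exact := by
    apply K731.Basic.exact_of_sections
    intro T x hx
    have hx' : (x.down.toMul : T ⟶ G) ≫ v = 1 := by
      have := congrArg ULift.down hx
      exact this
    obtain ⟨y, hy⟩ := exists_lift_ker u v hk _ hx'
    exact ⟨ULift.up (Additive.ofMul y), ULift.ext _ _ (congrArg Additive.ofMul hy)⟩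
  exact ⟨h3⟩

end K809.SeqExact
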