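import Groth.Agent.Sga3B.Hens.PtScheme
import Mathlib.CategoryTheory.Monoidal.Cartesian.Over
import Mathlib.CategoryTheory.Monoidal.Cartesian.Grp
import Mathlib.CategoryTheory.Monoidal.Cartesian.CommGrp_

/-!
# The kernel of `G(S) → G(S/J)`, `J² = 0`, is additive in derivations

`𝒢` a group scheme over `Spec A` with an affine chart `j₀ : Spec E₀ ⟶ 𝒢` through which the unit section factors
(`ε : E₀ → A`).  For an `A`-algebra `S` and a square-zero ideal `J`, the points of `𝒢` with values in `S` which are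
trivial modulo `J` are given by the algebra maps `φ : E₀ → S`, `φ ≡ ε mod J`; the product of the points of `φ` and `ψ` is the
point of `φ + ψ - ε`.
-/

set_option autoImplicit false

universe u

open CategoryTheory MonoidalCategory CartesianMonoidalCategory AlgebraicGeometry Limits MonObj

namespace K809.KerGrp

open Groth.Agent.Books.AffBridge Groth.Agent.Sga3B.Hens

section alg

variable {A S : Type u} [CommRing A] [CommRing S] [Algebra A S]

/-- `{(a; s₁, s₂) ∈ A × S × S : s₁ ≡ s₂ ≡ a mod J}` -/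
def T (J : Ideal S) : Subalgebra A (A × S × S) where
  carrier := {t | t.2.1 - algebraMap A S t.1 ∈ J ∧ t.2.2 - algebraMap A S t.1 ∈ J}
  mul_mem' := by
    rintro ⟨a, s, t⟩ ⟨a', s', t'⟩ ⟨h1, h2⟩ ⟨h1', h2'⟩
    refine ⟨?_, ?_⟩
    · have : s * s' - algebraMap A S (a * a') =
          (s - algebraMap A S a) * s' + algebraMap A S a * (s' - algebraMap A S a') := by
        rw [map_mul]; ring
      change s * s' - algebraMap A S (a * a') ∈ J
      rw [this]
      exact J.add_mem (J.mul_mem_right _ h1) (J.mul_mem_left _ h1')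
    · have : t * t' - algebraMap A S (a * a') =
          (t - algebraMap A S a) * t' + algebraMap A S a * (t' - algebraMap A S a') := by
        rw [map_mul]; ring
      change t * t' - algebraMap A S (a * a') ∈ J
      rw [this]
      exact J.add_mem (J.mul_mem_right _ h2) (J.mul_mem_left _ h2')
  add_mem' := by
    rintro ⟨a, s, t⟩ ⟨a', s', t'⟩ ⟨h1, h2⟩ ⟨h1', h2'⟩
    refine ⟨?_, ?_⟩
    · have : s + s' - algebraMap A S (a + a') =
          (s - algebraMap A S a) + (s' - algebraMap A S a') := by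
        rw [map_add]; ring
      change s + s' - algebraMap A S (a + a') ∈ J
      rw [this]
      exact J.add_mem h1 h1'
    · have : t + t' - algebraMap A S (a + a') =
          (t - algebraMap A S a) + (t' - algebraMap A S a') := by
        rw [map_add]; ring
      change t + t' - algebraMap A S (a + a') ∈ J
      rw [this]
      exact J.add_mem h2 h2'
  algebraMap_mem' := by
    intro a
    refine ⟨?_, ?_⟩
    · change algebraMap A S a - algebraMap A S a ∈ J
      rw [sub_self]; exact J.zero_mem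
    · change algebraMap A S a - algebraMap A S a ∈ J
      rw [sub_self]; exact J.zero_mem

/-- `{(a; s) ∈ A × S : s ≡ a mod J}` -/
def U (J : Ideal S) : Subalgebra A (A × S) where
  carrier := {t | t.2 - algebraMap A S t.1 ∈ J}
  mul_mem' := by
    rintro ⟨a, s⟩ ⟨a', s'⟩ h1 h1'
    have : s * s' - algebraMap A S (a * a') =
        (s - algebraMap A S a) * s' + algebraMap A S a * (s' - algebraMap A S a') := by
      rw [map_mul]; ring
    change s * s' - algebraMap A S (a * a') ∈ J
    rw [this]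
    exact J.add_mem (J.mul_mem_right _ h1) (J.mul_mem_left _ h1')
  add_mem' := by
    rintro ⟨a, s⟩ ⟨a', s'⟩ h1 h1'
    have : s + s' - algebraMap A S (a + a') =
        (s - algebraMap A S a) + (s' - algebraMap A S a') := by
      rw [map_add]; ring
    change s + s' - algebraMap A S (a + a') ∈ J
    rw [this]
    exact J.add_mem h1 h1'
  algebraMap_mem' := by
    intro a
    change algebraMap A S a - algebraMap A S a ∈ J
    rw [sub_self]; exact J.zero_mem

variable (J : Ideal S)

/-- `T → A` -/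
def tA : T (A := A) J →ₐ[A] A := (AlgHom.fst A A (S × S)).comp (T J).val

/-- `U → A` -/
def uA : U (A := A) J →ₐ[A] A := (AlgHom.fst A A S).comp (U J).val

/-- `U → S` -/
def uS : U (A := A) J →ₐ[A] S := (AlgHom.snd A A S).comp (U J).val

/-- `(a; s₁, s₂) ↦ (a; s₁)` -/
def p1 : T (A := A) J →ₐ[A] U (A := A) J :=
  (((AlgHom.fst A A (S × S)).prod ((AlgHom.fst A S S).comp (AlgHom.snd A A (S × S)))).comp (T J).val).codRestrict _
    (fun t => t.2.1)

/-- `(a; s₁, s₂) ↦ (a; s₂)` -/
def p2 : T (A := A) J →ₐ[A] U (A := A) J :=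
  (((AlgHom.fst A A (S × S)).prod ((AlgHom.snd A S S).comp (AlgHom.snd A A (S × S)))).comp (T J).val).codRestrict _
    (fun t => t.2.2)

/-- `(a; s) ↦ (a; s, a)` -/
def i1 : U (A := A) J →ₐ[A] T (A := A) J :=
  (((AlgHom.fst A A S).prod ((AlgHom.snd A A S).prod ((Algebra.ofId A S).comp (AlgHom.fst A A S)))).comp
    (U J).val).codRestrict _
    (fun t => ⟨t.2, by
      change algebraMap A S t.1.1 - algebraMap A S t.1.1 ∈ J
      rw [sub_self]; exact J.zero_mem⟩)

/-- `(a; s) ↦ (a; a, s)` -/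
def i2 : U (A := A) J →ₐ[A] T (A := A) J :=
  (((AlgHom.fst A A S).prod (((Algebra.ofId A S).comp (AlgHom.fst A A S)).prod (AlgHom.snd A A S))).comp
    (U J).val).codRestrict _
    (fun t => ⟨by
      change algebraMap A S t.1.1 - algebraMap A S t.1.1 ∈ J
      rw [sub_self]; exact J.zero_mem, t.2⟩)

/-- `(a; s₁, s₂) ↦ s₁ + s₂ - a` -/
def sg (hJ : ∀ x ∈ J, ∀ y ∈ J, x * y = 0) : T (A := A) J →ₐ[A] S where
  toFun t := t.1.2.1 + t.1.2.2 - algebraMap A S t.1.1
  map_one' := by
    change (1 : S) + 1 - algebraMap A S 1 = 1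
    rw [map_one]; ring
  map_zero' := by
    change (0 : S) + 0 - algebraMap A S 0 = 0
    rw [map_zero]; ring
  map_add' := by
    rintro ⟨⟨a, s, t⟩, h⟩ ⟨⟨a', s', t'⟩, h'⟩
    change (s + s') + (t + t') - algebraMap A S (a + a') =
      (s + t - algebraMap A S a) + (s' + t' - algebraMap A S a')
    rw [map_add]; ring
  map_mul' := by
    rintro ⟨⟨a, s, t⟩, h⟩ ⟨⟨a', s', t'⟩, h'⟩
    change (s * s') + (t * t') - algebraMap A S (a * a') =
      (s + t - algebraMap A S a) * (s' + t' - algebraMap A S a')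
    have e1 := hJ _ h.1 _ h'.2
    have e2 := hJ _ h.2 _ h'.1
    change (s - algebraMap A S a) * (t' - algebraMap A S a') = 0 at e1
    change (t - algebraMap A S a) * (s' - algebraMap A S a') = 0 at e2
    rw [map_mul]
    linear_combination -e1 - e2
  commutes' := by
    intro a
    change algebraMap A S a + algebraMap A S a - algebraMap A S a = algebraMap A S a
    ring

lemma p1_i1 : (p1 (A := A) J).comp (i1 J) = AlgHom.id A _ := rfl
lemma p2_i2 : (p2 (A := A) J).comp (i2 J) = AlgHom.id A _ := rfl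
lemma p1_i2 : (p1 (A := A) J).comp (i2 J) = (Algebra.ofId A _).comp (uA J) := rfl
lemma p2_i1 : (p2 (A := A) J).comp (i1 J) = (Algebra.ofId A _).comp (uA J) := rfl
lemma tA_i1 : (tA (A := A) J).comp (i1 J) = uA J := rfl
lemma tA_i2 : (tA (A := A) J).comp (i2 J) = uA J := rfl

lemma sg_i1 (hJ : ∀ x ∈ J, ∀ y ∈ J, x * y = 0) : (sg (A := A) J hJ).comp (i1 J) = uS J := by
  ext ⟨⟨a, s⟩, h⟩
  change s + algebraMap A S a - algebraMap A S a = s
  ring

lemma sg_i2 (hJ : ∀ x ∈ J, ∀ y ∈ J, x * y = 0) : (sg (A := A) J hJ).comp (i2 J) = uS J := by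
  ext ⟨⟨a, s⟩, h⟩
  change algebraMap A S a + s - algebraMap A S a = s
  ring

/-- the point `(ε; φ)` -/
def toU {E : Type u} [CommRing E] [Algebra A E] (ε : E →ₐ[A] A) (φ : E →ₐ[A] S)
    (h : ∀ x, φ x - algebraMap A S (ε x) ∈ J) : E →ₐ[A] U (A := A) J :=
  (ε.prod φ).codRestrict _ h

end alg

/-- A surjective algebra map with square-zero kernel is surjective on spectra. -/
lemma surjective_specMap {A S S' : Type u} [CommRing A] [CommRing S] [CommRing S'] [Algebra A S] [Algebra A S']
    (f : S →ₐ[A] S') (hf : Function.Surjective f) (hk : ∀ x, f x = 0 → ∃ n : ℕ, x ^ n = 0) :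
    Function.Surjective (specMap A f).left := by
  have h1 : Set.range (PrimeSpectrum.comap f.toRingHom) =
      PrimeSpectrum.zeroLocus (RingHom.ker f.toRingHom : Set S) :=
    _root_.range_comap_of_surjective _ f.toRingHom hf
  have h2 : PrimeSpectrum.zeroLocus (RingHom.ker f.toRingHom : Set S) = Set.univ := by
    refine Set.eq_univ_of_forall fun p z hz => ?_
    obtain ⟨n, hn⟩ := hk z hz
    exact p.2.mem_of_pow_mem n (by rw [hn]; exact Submodule.zero_mem _)
  exact Set.range_eq_univ.mp (h1.trans h2)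

section grp

variable {A : Type u} [CommRing A] {𝒢 : Over (Spec (CommRingCat.of A))} [GrpObj 𝒢]
variable {E : Type u} [CommRing E] [Algebra A E] (j : SpecOver A E ⟶ 𝒢) [IsOpenImmersion j.left]
  (ε : E →ₐ[A] A)

lemma comp_mul' {R R' : Type u} [CommRing R] [Algebra A R] [CommRing R'] [Algebra A R'] (f : R →ₐ[A] R')
    (x y : SpecOver A R ⟶ 𝒢) : specMap A f ≫ (x * y) = (specMap A f ≫ x) * (specMap A f ≫ y) :=
  MonObj.comp_mul _ _ _

lemma comp_one' {R R' : Type u} [CommRing R] [Algebra A R] [CommRing R'] [Algebra A R'] (f : R →ₐ[A] R') :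
    specMap A f ≫ (1 : SpecOver A R ⟶ 𝒢) = 1 := MonObj.comp_one _

omit [GrpObj 𝒢] in
lemma cc {R R' R'' : Type u} [CommRing R] [Algebra A R] [CommRing R'] [Algebra A R'] [CommRing R''] [Algebra A R'']
    (f : R' →ₐ[A] R'') (g : R →ₐ[A] R') (x : SpecOver A R ⟶ 𝒢) :
    specMap A f ≫ specMap A g ≫ x = specMap A (f.comp g) ≫ x := by
  rw [specMap_comp, Category.assoc]

variable {S : Type u} [CommRing S] [Algebra A S] (J : Ideal S)

/-- **Additivity**: the product of the points of `φ` and `ψ` is the point of `φ + ψ - ε`. -/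
theorem mul_eq (hε : specMap A ε ≫ j = 1) (hJ : ∀ x ∈ J, ∀ y ∈ J, x * y = 0) (φ ψ χ : E →ₐ[A] S)
    (hφ : ∀ x, φ x - algebraMap A S (ε x) ∈ J) (hψ : ∀ x, ψ x - algebraMap A S (ε x) ∈ J)
    (hχ : ∀ x, χ x = φ x + ψ x - algebraMap A S (ε x)) :
    specMap A χ ≫ j = (specMap A φ ≫ j) * (specMap A ψ ≫ j) := by
  let φ' := toU J ε φ hφ
  let ψ' := toU J ε ψ hψ
  obtain ⟨g1, hg1'⟩ : ∃ g1 : SpecOver A (U (A := A) J) ⟶ 𝒢, g1 = specMap A φ' ≫ j := ⟨_, rfl⟩
  obtain ⟨g2, hg2'⟩ : ∃ g2 : SpecOver A (U (A := A) J) ⟶ 𝒢, g2 = specMap A ψ' ≫ j := ⟨_, rfl⟩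
  have hg1 : specMap A (uA J) ≫ g1 = 1 := by
    rw [hg1', cc]
    exact hε
  have hg2 : specMap A (uA J) ≫ g2 = 1 := by
    rw [hg2', cc]
    exact hε
  obtain ⟨G, hG⟩ : ∃ G : SpecOver A (T (A := A) J) ⟶ 𝒢, G = (specMap A (i1 J) ≫ g1) * (specMap A (i2 J) ≫ g2) :=
    ⟨_, rfl⟩
  have hG0 : specMap A (tA J) ≫ G = specMap A ε ≫ j := by
    rw [hG, comp_mul', cc, cc, tA_i1, tA_i2, hg1, hg2, _root_.mul_one, hε]
  have hsurj : Function.Surjective (specMap A (tA (A := A) J)).left := by
    apply surjective_specMap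
    · intro a
      exact ⟨algebraMap A _ a, rfl⟩
    · rintro ⟨⟨a, s, t⟩, h⟩ h0
      change a = 0 at h0
      subst h0
      refine ⟨2, Subtype.ext (Prod.ext ?_ (Prod.ext ?_ ?_))⟩
      · change (0 : A) ^ 2 = 0
        simp
      · change s ^ 2 = 0
        have := h.1
        change s - algebraMap A S 0 ∈ J at this
        rw [map_zero, sub_zero] at this
        rw [pow_two]
        exact hJ _ this _ this
      · change t ^ 2 = 0
        have := h.2
        change t - algebraMap A S 0 ∈ J at this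
        rw [map_zero, sub_zero] at this
        rw [pow_two]
        exact hJ _ this _ this
  obtain ⟨e', he', he''⟩ := PtScheme.exists_lift j (tA (A := A) J) hsurj G ε hG0
  have hp1 : (p1 J).comp e' = φ' := by
    apply PtScheme.eq_of_comp_eq j
    rw [← cc, he', hG, comp_mul', cc, cc, p1_i1, p1_i2, specMap_id, Category.id_comp, ← cc, hg2, comp_one',
      _root_.mul_one, hg1']
  have hp2 : (p2 J).comp e' = ψ' := by
    apply PtScheme.eq_of_comp_eq j
    rw [← cc, he', hG, comp_mul', cc, cc, p2_i1, p2_i2, specMap_id, Category.id_comp, ← cc, hg1, comp_one',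
      _root_.one_mul, hg2']
  have hsg : (sg J hJ).comp e' = χ := by
    ext x
    have h1 : ((p1 J) (e' x)).1.2 = φ x := congrArg (fun f : E →ₐ[A] U (A := A) J => (f x).1.2) hp1
    have h2 : ((p2 J) (e' x)).1.2 = ψ x := congrArg (fun f : E →ₐ[A] U (A := A) J => (f x).1.2) hp2
    have h3 : ((p1 J) (e' x)).1.1 = ε x := congrArg (fun f : E →ₐ[A] U (A := A) J => (f x).1.1) hp1
    change (e' x).1.2.1 = φ x at h1
    change (e' x).1.2.2 = ψ x at h2
    change (e' x).1.1 = ε x at h3
    change (e' x).1.2.1 + (e' x).1.2.2 - algebraMap A S (e' x).1.1 = χ x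
    rw [h1, h2, h3, hχ]
  rw [← hsg, ← cc, he', hG, comp_mul', cc, cc, sg_i1, sg_i2, hg1', hg2', cc, cc]
  rfl

end grp

end K809.KerGrp
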