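import Mathlib.Algebra.Category.CommAlgCat.Basic
import Mathlib.RingTheory.Flat.FaithfullyFlat.Basic
import Mathlib.RingTheory.TensorProduct.Free
import Mathlib.RingTheory.TensorProduct.Maps
import Mathlib.RingTheory.Finiteness.Basic
import Mathlib.Algebra.BigOperators.Fin
import Mathlib.LinearAlgebra.TensorProduct.Associator

/-!
# Tensor powers of an algebra, coface maps, exactness of the Čech complex

`P A A' n = A' ⊗ ⋯ ⊗ A'` (`n` factors, `P 0 = A`), `y : Fin n → (A' →ₐ P n)`, cofaces `δ n i : P n →ₐ P (n + 1)`.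
-/

set_option autoImplicit false

universe u

open TensorProduct

namespace K809.CechAlg

noncomputable section

variable (A A' : Type u) [CommRing A] [CommRing A'] [Algebra A A']

/-- tensor powers -/
def P : ℕ → CommAlgCat.{u} A
  | 0 => .of A A
  | n + 1 => .of A (A' ⊗[A] P n)

/-- coordinates -/
def y : (n : ℕ) → Fin n → (A' →ₐ[A] P A A' n)
  | 0 => fun i => i.elim0
  | n + 1 => Fin.cons (Algebra.TensorProduct.includeLeft : A' →ₐ[A] A' ⊗[A] P A A' n)
      (fun k => (Algebra.TensorProduct.includeRight : P A A' n →ₐ[A] A' ⊗[A] P A A' n).comp (y n k))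

/-- cofaces -/
def δ : (n : ℕ) → Fin (n + 1) → (P A A' n →ₐ[A] P A A' (n + 1))
  | 0 => fun _ => (Algebra.TensorProduct.includeRight : P A A' 0 →ₐ[A] A' ⊗[A] P A A' 0)
  | n + 1 => Fin.cons (Algebra.TensorProduct.includeRight : P A A' (n + 1) →ₐ[A] A' ⊗[A] P A A' (n + 1))
      (fun i => (Algebra.TensorProduct.map (AlgHom.id A A') (δ n i) :
        A' ⊗[A] P A A' n →ₐ[A] A' ⊗[A] P A A' (n + 1)))

lemma y_zero (n : ℕ) : y A A' (n + 1) 0 = (Algebra.TensorProduct.includeLeft : A' →ₐ[A] A' ⊗[A] P A A' n) := rfl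

lemma y_succ (n : ℕ) (k : Fin n) : y A A' (n + 1) k.succ =
    (Algebra.TensorProduct.includeRight : P A A' n →ₐ[A] A' ⊗[A] P A A' n).comp (y A A' n k) := rfl

lemma δ_zero (n : ℕ) : δ A A' n 0 = (Algebra.TensorProduct.includeRight : P A A' n →ₐ[A] A' ⊗[A] P A A' n) := by
  cases n <;> rfl

lemma δ_succ (n : ℕ) (i : Fin (n + 1)) : δ A A' (n + 1) i.succ =
    (Algebra.TensorProduct.map (AlgHom.id A A') (δ A A' n i) :
        A' ⊗[A] P A A' n →ₐ[A] A' ⊗[A] P A A' (n + 1)) := rfl

lemma δ_y (n : ℕ) (i : Fin (n + 1)) (k : Fin n) :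
    (δ A A' n i).comp (y A A' n k) = y A A' (n + 1) (i.succAbove k) := by
  induction n with
  | zero => exact k.elim0
  | succ n ih =>
    refine Fin.cases ?_ (fun i => ?_) i
    · rw [Fin.zero_succAbove]
      rfl
    · refine Fin.cases ?_ (fun k => ?_) k
      · rw [Fin.succ_succAbove_zero]
        ext a
        change Algebra.TensorProduct.map (AlgHom.id A A') (δ A A' n i) (a ⊗ₜ 1) = a ⊗ₜ 1
        rw [Algebra.TensorProduct.map_tmul, map_one]
        rfl
      · rw [Fin.succ_succAbove_succ, y_succ, y_succ, ← ih, δ_succ]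
        ext a
        change Algebra.TensorProduct.map (AlgHom.id A A') (δ A A' n i) (1 ⊗ₜ y A A' n k a) =
          1 ⊗ₜ δ A A' n i (y A A' n k a)
        rw [Algebra.TensorProduct.map_tmul]
        rfl

variable {A A'}

/-- Maps out of `P n` are determined by the coordinates. -/
lemma hom_ext {n : ℕ} {S : Type*} [CommRing S] [Algebra A S] (f g : P A A' n →ₐ[A] S)
    (h : ∀ k, f.comp (y A A' n k) = g.comp (y A A' n k)) : f = g := by
  induction n with
  | zero =>
    exact AlgHom.ext fun a => (f.commutes a).trans (g.commutes a).symm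
  | succ n ih =>
    change (A' ⊗[A] P A A' n →ₐ[A] S) at f g
    refine Algebra.TensorProduct.ext (h 0) ?_
    exact ih (f.comp Algebra.TensorProduct.includeRight) (g.comp Algebra.TensorProduct.includeRight)
      (fun k => h k.succ)

/-- Maps out of `P n` exist. -/
lemma exists_lift {n : ℕ} {S : Type*} [CommRing S] [Algebra A S] (x : Fin n → (A' →ₐ[A] S)) :
    ∃ f : P A A' n →ₐ[A] S, ∀ k, f.comp (y A A' n k) = x k := by
  induction n with
  | zero => exact ⟨Algebra.ofId A S, fun k => k.elim0⟩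
  | succ n ih =>
    obtain ⟨g, hg⟩ := ih (fun k => x k.succ)
    let f : A' ⊗[A] P A A' n →ₐ[A] S := Algebra.TensorProduct.productMap (x 0) g
    refine ⟨f, fun k => ?_⟩
    refine Fin.cases ?_ (fun k => ?_) k
    · exact Algebra.TensorProduct.productMap_left _ _
    · rw [y_succ, ← hg k]
      ext a
      change Algebra.TensorProduct.productMap (x 0) g (1 ⊗ₜ y A A' n k a) = g (y A A' n k a)
      rw [Algebra.TensorProduct.productMap_apply_tmul, map_one, one_mul]

instance free [Module.Free A A'] (n : ℕ) : Module.Free A (P A A' n) := by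
  induction n with
  | zero => exact inferInstanceAs (Module.Free A A)
  | succ n ih => exact inferInstanceAs (Module.Free A (A' ⊗[A] P A A' n))

instance finite [Module.Finite A A'] (n : ℕ) : Module.Finite A (P A A' n) := by
  induction n with
  | zero => exact inferInstanceAs (Module.Finite A A)
  | succ n ih => exact inferInstanceAs (Module.Finite A (A' ⊗[A] P A A' n))

variable (A A') in
/-- the differential -/
def d (n : ℕ) : P A A' n →ₗ[A] P A A' (n + 1) := ∑ i : Fin (n + 1), (-1 : ℤ) ^ (i : ℕ) • (δ A A' n i).toLinearMap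

lemma d_apply (n : ℕ) (x : P A A' n) : d A A' n x = ∑ i : Fin (n + 1), (-1 : ℤ) ^ (i : ℕ) • δ A A' n i x := by
  simp [d]

variable (A A') in
/-- `P (n + 1)` is `A' ⊗ P n` -/
def tm (n : ℕ) : A' ⊗[A] P A A' n ≃ₗ[A] P A A' (n + 1) := LinearEquiv.refl A (A' ⊗[A] P A A' n)

lemma d_tm (n : ℕ) (a : A') (p : P A A' n) : d A A' (n + 1) (tm A A' n (a ⊗ₜ[A] p)) =
    tm A A' (n + 1) ((1 : A') ⊗ₜ[A] tm A A' n (a ⊗ₜ[A] p)) - tm A A' (n + 1) (a ⊗ₜ[A] d A A' n p) := by
  rw [d_apply, Fin.sum_univ_succ, d_apply, TensorProduct.tmul_sum, map_sum, sub_eq_add_neg,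
    ← Finset.sum_neg_distrib]
  congr 1
  · rw [Fin.val_zero, pow_zero, one_smul]
    rfl
  · refine Finset.sum_congr rfl fun i _ => ?_
    rw [Fin.val_succ, pow_succ, mul_neg, mul_one, neg_smul, TensorProduct.tmul_smul, map_zsmul]
    rfl

section contraction

variable (M : Type u) [AddCommGroup M] [Module A M]

/-- `a ⊗ m ⊗ (a' ⊗ p) ↦ a a' ⊗ m ⊗ p` -/
def h₀ (n : ℕ) : (A' ⊗[A] M) ⊗[A] (A' ⊗[A] P A A' n) →ₗ[A] (A' ⊗[A] M) ⊗[A] P A A' n :=
  TensorProduct.lift (LinearMap.flip (TensorProduct.lift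
    ({ toFun := fun a' => 
        { toFun := fun p => 
            { toFun := fun m => (a' • m) ⊗ₜ[A] p
              map_add' := fun m m' => by rw [smul_add, TensorProduct.add_tmul]
              map_smul' := fun r m => by
                rw [smul_comm, RingHom.id_apply, TensorProduct.smul_tmul'] }
          map_add' := fun p p' => by
            ext m
            exact TensorProduct.tmul_add _ _ _
          map_smul' := fun r p => by
            ext m
            exact TensorProduct.tmul_smul _ _ _ }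
       map_add' := fun a a' => by
        ext p m
        exact (congrArg (fun t => t ⊗ₜ[A] p) (add_smul a a' _)).trans (TensorProduct.add_tmul _ _ _)
       map_smul' := fun r a => by
        ext p m
        exact (congrArg (fun t => t ⊗ₜ[A] p) (smul_assoc r a _)).trans (TensorProduct.smul_tmul' _ _ _).symm } :
      A' →ₗ[A] P A A' n →ₗ[A] (A' ⊗[A] M) →ₗ[A] (A' ⊗[A] M) ⊗[A] P A A' n)))

/-- the contraction -/
def h (n : ℕ) : (A' ⊗[A] M) ⊗[A] P A A' (n + 1) →ₗ[A] (A' ⊗[A] M) ⊗[A] P A A' n :=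
  (h₀ M n).comp (LinearMap.lTensor (A' ⊗[A] M) (tm A A' n).symm.toLinearMap)

lemma h_tmul (n : ℕ) (m : A' ⊗[A] M) (a : A') (p : P A A' n) :
    h M n (m ⊗ₜ[A] tm A A' n (a ⊗ₜ[A] p)) = (a • m) ⊗ₜ[A] p :=
  rfl

lemma h_d (n : ℕ) (z : (A' ⊗[A] M) ⊗[A] P A A' (n + 1)) :
    h M (n + 1) (LinearMap.lTensor (A' ⊗[A] M) (d A A' (n + 1)) z) =
      z - LinearMap.lTensor (A' ⊗[A] M) (d A A' n) (h M n z) := by
  induction z using TensorProduct.induction_on with
  | zero => simp only [map_zero]; exact (sub_zero (0 : (A' ⊗[A] M) ⊗[A] P A A' (n + 1))).symm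
  | add x y hx hy => simp only [map_add, hx, hy]; abel
  | tmul m t =>
    obtain ⟨t, rfl⟩ := (tm A A' n).surjective t
    induction t using TensorProduct.induction_on with
    | zero => simp only [map_zero, TensorProduct.tmul_zero]; exact (sub_zero (0 : (A' ⊗[A] M) ⊗[A] P A A' (n + 1))).symm
    | add x y hx hy =>
      simp only [map_add, TensorProduct.tmul_add, hx, hy]
      abel
    | tmul a p =>
      rw [LinearMap.lTensor_tmul, d_tm, TensorProduct.tmul_sub, map_sub, h_tmul, h_tmul, one_smul, h_tmul,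
        LinearMap.lTensor_tmul]

end contraction

/-- **Exactness of the Čech complex.** -/
theorem exact [Module.FaithfullyFlat A A'] (M : Type u) [AddCommGroup M] [Module A M] (n : ℕ)
    (hdd : ∀ x, d A A' (n + 1) (d A A' n x) = 0) :
    Function.Exact (LinearMap.lTensor M (d A A' n)) (LinearMap.lTensor M (d A A' (n + 1))) := by
  rw [← Module.FaithfullyFlat.lTensor_exact_iff_exact A A']
  have h0 : ∀ (N : Type u) [AddCommGroup N] [Module A N] (x : N ⊗[A] P A A' n),
      LinearMap.lTensor N (d A A' (n + 1)) (LinearMap.lTensor N (d A A' n) x) = 0 := by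
    intro N _ _ x
    rw [← LinearMap.lTensor_comp_apply]
    have : (d A A' (n + 1)).comp (d A A' n) = 0 := LinearMap.ext hdd
    rw [this, LinearMap.lTensor_zero, LinearMap.zero_apply]
  have h1 : Function.Exact (LinearMap.lTensor (A' ⊗[A] M) (d A A' n))
      (LinearMap.lTensor (A' ⊗[A] M) (d A A' (n + 1))) := by
    intro z
    refine ⟨fun hz => ⟨h M n z, ?_⟩, ?_⟩
    · have := h_d M n z
      rw [hz, map_zero] at this
      exact (sub_eq_zero.1 this.symm).symm
    · rintro ⟨x, rfl⟩
      exact h0 _ x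
  intro z
  have e1 : ∀ (m : ℕ) (x : A' ⊗[A] (M ⊗[A] P A A' m)),
      (TensorProduct.assoc A A' M (P A A' (m + 1))).symm (LinearMap.lTensor A' (LinearMap.lTensor M (d A A' m)) x) =
        LinearMap.lTensor (A' ⊗[A] M) (d A A' m) ((TensorProduct.assoc A A' M (P A A' m)).symm x) := by
    intro m x
    rw [LinearMap.lTensor_tensor]
    simp
  constructor
  · intro hz
    have h2 := e1 (n + 1) z
    rw [hz, map_zero] at h2
    obtain ⟨x, hx⟩ := (h1 _).1 h2.symm
    refine ⟨TensorProduct.assoc A A' M (P A A' n) x, ?_⟩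
    apply (TensorProduct.assoc A A' M (P A A' (n + 1))).symm.injective
    rw [e1, LinearEquiv.symm_apply_apply, hx]
  · rintro ⟨x, rfl⟩
    apply (TensorProduct.assoc A A' M (P A A' (n + 1 + 1))).symm.injective
    rw [e1, e1, h0, map_zero]

end

end K809.CechAlg
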