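import Groth.Agent.Etrest.FppfCoch
import Groth.Agent.Books.AffBridge
import Groth.Agent.TateLoc.K809.CechAlg

/-!
# Čech cochains for a morphism which is finite locally free over an affine scheme

Representing objects of tuples: `IsRep`, base change, induction, the case of spectra of tensor powers.
-/

set_option autoImplicit false

universe w v u

open CategoryTheory CategoryTheory.Limits AlgebraicGeometry Opposite TensorProduct
open Groth.Agent.Etrest.FppfCoch Groth.Agent.Books.AffBridge K809.CechAlg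

namespace K809.CechGeo

section cat

variable {C : Type u} [Category.{v} C] {T' T U : C} {p : T' ⟶ T} {e : U ⟶ T}

/-- `(Y, π, y)` represents tuples `(a : W ⟶ U, x₁ … xₙ : W ⟶ T')`. -/
structure IsRep (p : T' ⟶ T) (e : U ⟶ T) {n : ℕ} {Y : C} (π : Y ⟶ U) (y : Fin n → (Y ⟶ T')) : Prop where
  compat : Compat p e π y
  ex : ∀ {W : C} (a : W ⟶ U) (x : Fin n → (W ⟶ T')), Compat p e a x → ∃ l : W ⟶ Y, l ≫ π = a ∧ ∀ i, l ≫ y i = x i
  ext : ∀ {W : C} (f g : W ⟶ Y), f ≫ π = g ≫ π → (∀ i, f ≫ y i = g ≫ y i) → f = g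

namespace IsRep

/-- the structure `Rep` -/
noncomputable def rep {n : ℕ} {Y : C} {π : Y ⟶ U} {y : Fin (n + 1) → (Y ⟶ T')} (h : IsRep p e π y) : Rep p e n where
  Y := Y
  π := π
  y := y
  compat := h.compat
  lift a x hx := (h.ex a x hx).choose
  lift_π a x hx := (h.ex a x hx).choose_spec.1
  lift_y a x hx i := (h.ex a x hx).choose_spec.2 i
  hom_ext := h.ext

lemma zero (e : U ⟶ T) (π : U ⟶ U) (hπ : π = 𝟙 U) (y : Fin 0 → (U ⟶ T')) : IsRep p e π y where
  compat := fun i => i.elim0
  ex a x _ := ⟨a, by rw [hπ, Category.comp_id], fun i => i.elim0⟩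
  ext f g h _ := by simpa [hπ] using h

lemma bc {n : ℕ} {Y : C} {π : Y ⟶ U} {y : Fin n → (Y ⟶ T')} (h : IsRep p e π y) {U₁ : C} (g : U₁ ⟶ U)
    {Z : C} (q : Z ⟶ Y) (π₁ : Z ⟶ U₁) (hpb : IsPullback q π₁ π g) :
    IsRep p (g ≫ e) π₁ (fun i => q ≫ y i) where
  compat i := by
    rw [Category.assoc, h.compat i, ← Category.assoc, hpb.w, Category.assoc]
  ex a x hx := by
    obtain ⟨l, h1, h2⟩ := h.ex (a ≫ g) x hx.res
    exact ⟨hpb.lift l a h1, hpb.lift_snd _ _ _, fun i => by rw [← Category.assoc, hpb.lift_fst, h2]⟩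
  ext f f' h1 h2 := by
    refine hpb.hom_ext (h.ext _ _ ?_ fun i => ?_) h1
    · rw [Category.assoc, Category.assoc, hpb.w, ← Category.assoc, ← Category.assoc, h1]
    · rw [Category.assoc, Category.assoc, h2 i]

lemma succ {n : ℕ} {Y : C} {π : Y ⟶ U} {y : Fin n → (Y ⟶ T')} (h : IsRep p e π y) {Y' V : C} (q : Y' ⟶ Y)
    (s : Y' ⟶ V) {t : V ⟶ T'} {pV : V ⟶ U} (hT : IsPullback t pV p e) (hY : IsPullback q s π pV) :
    IsRep p e (q ≫ π) (Fin.cons (s ≫ t) (fun i => q ≫ y i) : Fin (n + 1) → (Y' ⟶ T')) where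
  compat := (h.compat.comp q).cons (by rw [Category.assoc, hT.w, Category.assoc, ← Category.assoc, ← hY.w,
    Category.assoc])
  ex a x hx := by
    obtain ⟨l, h1, h2⟩ := h.ex a (fun i => x i.succ) (fun i => hx i.succ)
    refine ⟨hY.lift l (hT.lift (x 0) a (hx 0)) (by rw [h1, hT.lift_snd]), ?_, fun i => ?_⟩
    · rw [← Category.assoc, hY.lift_fst, h1]
    · refine Fin.cases ?_ (fun k => ?_) i
      · rw [Fin.cons_zero, ← Category.assoc, hY.lift_snd, hT.lift_fst]
      · rw [Fin.cons_succ, ← Category.assoc, hY.lift_fst, h2]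
  ext f g h1 h2 := by
    refine hY.hom_ext (h.ext _ _ ?_ fun i => ?_) (hT.hom_ext ?_ ?_)
    · simpa only [Category.assoc] using h1
    · simpa only [Category.assoc, Fin.cons_succ] using h2 i.succ
    · simpa only [Category.assoc, Fin.cons_zero] using h2 0
    · rw [Category.assoc, Category.assoc, ← hY.w, ← Category.assoc, ← Category.assoc, Category.assoc f, h1,
        Category.assoc]

end IsRep

variable (P : Cᵒᵖ ⥤ AddCommGrpCat.{w})

variable {P} in
/-- Values on universal tuples. -/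
lemma dS_univ {n : ℕ} {Y Y' : C} {π : Y ⟶ U} {y : Fin (n + 1) → (Y ⟶ T')} (h : Compat p e π y)
    {π' : Y' ⟶ U} {y' : Fin (n + 2) → (Y' ⟶ T')} (d : Fin (n + 2) → (Y' ⟶ Y)) (hd : ∀ i, d i ≫ π = π')
    (hd' : ∀ i k, d i ≫ y k = y' (i.succAbove k)) {c : Fam P U T' n} (hc : IsCoch p e c) :
    dS (c Y' π') y' = ∑ i : Fin (n + 2), (-1 : ℤ) ^ (i : ℕ) • P.map (d i).op (c Y π y) := by
  refine Finset.sum_congr rfl fun i _ => ?_
  congr 1
  rw [hc (d i) π y h, hd]
  congr 1
  funext k
  rw [hd']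

variable {P} in
/-- To be a coboundary can be checked on the universal tuple. -/
lemma isCob_of_univ {n : ℕ} {Y' : C} {π' : Y' ⟶ U} {y' : Fin (n + 2) → (Y' ⟶ T')} (h' : IsRep p e π' y')
    {b : Fam P U T' n} {c : Fam P U T' (n + 1)} (hb : IsCoch p e b) (hc : IsCoch p e c)
    (h : dS (b Y' π') y' = c Y' π' y') : IsCob p e b c := by
  intro W a x hx
  obtain ⟨l, h1, h2⟩ := h'.ex a x hx
  have e1 := hb.dF l π' y' h'.compat
  have e2 := hc l π' y' h'.compat
  have h3 : (fun i => l ≫ y' i) = x := funext h2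
  rw [h1, h3] at e1 e2
  rw [← e2, ← h]
  exact e1.symm

end cat

section affine

variable {X : Scheme.{u}} {A : Type u} [CommRing A] (f : Spec (CommRingCat.of A) ⟶ X)

/-- `Spec S` over `X` -/
noncomputable abbrev sp (S : Type u) [CommRing S] [Algebra A S] : Over X := (Over.map f).obj (SpecOver A S)

/-- maps -/
noncomputable def spm {S S' : Type u} [CommRing S] [Algebra A S] [CommRing S'] [Algebra A S'] (g : S →ₐ[A] S') :
    sp f S' ⟶ sp f S := (Over.map f).map (specMap A g)

variable {S S' S'' : Type u} [CommRing S] [Algebra A S] [CommRing S'] [Algebra A S'] [CommRing S''] [Algebra A S'']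

lemma spm_comp (g : S →ₐ[A] S') (g' : S' →ₐ[A] S'') : spm f (g'.comp g) = spm f g' ≫ spm f g := by
  rw [spm, specMap_comp, CategoryTheory.Functor.map_comp]
  rfl

lemma spm_id : spm f (AlgHom.id A S) = 𝟙 _ := by
  rw [spm, specMap_id, CategoryTheory.Functor.map_id]

lemma spm_left (g : S →ₐ[A] S') : (spm f g).left = Spec.map (CommRingCat.ofHom g.toRingHom) := rfl

/-- Spectra of tensor products. -/
lemma isPullback_sp (B C : Type u) [CommRing B] [Algebra A B] [CommRing C] [Algebra A C] :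
    IsPullback (spm f (Algebra.TensorProduct.includeRight : C →ₐ[A] B ⊗[A] C))
      (spm f (Algebra.TensorProduct.includeLeft : B →ₐ[A] B ⊗[A] C)) (spm f (Algebra.ofId A C))
      (spm f (Algebra.ofId A B)) := by
  refine IsPullback.of_map (Over.forget X) ?_ ?_
  · rw [← spm_comp, ← spm_comp]
    congr 1
    exact AlgHom.ext fun a => (Algebra.TensorProduct.includeRight.commutes a).trans
      (Algebra.TensorProduct.includeLeft.commutes a).symm
  · have h := CommRingCat.isPushout_tensorProduct A B C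
    exact (isPullback_SpecMap_of_isPushout _ _ _ _ h).flip

variable {A' : Type u} [CommRing A'] [Algebra A A'] {T' T : Over X} {p : T' ⟶ T} {e : sp f A ⟶ T}
  {t : sp f A' ⟶ T'}

/-- Spectra of tensor powers represent tuples. -/
lemma isRep_P (hT : IsPullback t (spm f (Algebra.ofId A A')) p e) (n : ℕ) :
    IsRep p e (spm f (Algebra.ofId A (P A A' n))) (fun i => spm f (y A A' n i) ≫ t) := by
  induction n with
  | zero =>
    refine IsRep.zero e _ ?_ _
    exact spm_id f (S := A)
  | succ n ih =>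
    have h := ih.succ _ _ hT (isPullback_sp f A' (P A A' n))
    have h1 : spm f (Algebra.TensorProduct.includeRight : P A A' n →ₐ[A] A' ⊗[A] P A A' n) ≫
        spm f (Algebra.ofId A (P A A' n)) = spm f (Algebra.ofId A (P A A' (n + 1))) := by
      rw [← spm_comp]
      congr 1
      exact AlgHom.ext fun a => (Algebra.TensorProduct.includeRight :
        P A A' n →ₐ[A] A' ⊗[A] P A A' n).commutes a
    rw [h1] at h
    have h2 : (fun i => spm f (y A A' (n + 1) i) ≫ t) =
        (Fin.cons (spm f (Algebra.TensorProduct.includeLeft : A' →ₐ[A] A' ⊗[A] P A A' n) ≫ t)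
          (fun i => spm f (Algebra.TensorProduct.includeRight : P A A' n →ₐ[A] A' ⊗[A] P A A' n) ≫
            spm f (y A A' n i) ≫ t) : Fin (n + 1) → (sp f (P A A' (n + 1)) ⟶ T')) := by
      funext i
      refine Fin.cases ?_ (fun k => ?_) i
      · rfl
      · rw [Fin.cons_succ, y_succ, ← Category.assoc, ← spm_comp]
        rfl
    rw [h2]
    exact h

/-- Base change. -/
lemma isRep_PB (hT : IsPullback t (spm f (Algebra.ofId A A')) p e) (n : ℕ) (B : Type u) [CommRing B]
    [Algebra A B] :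
    IsRep p (spm f (Algebra.ofId A B) ≫ e)
      (spm f (Algebra.TensorProduct.includeLeft : B →ₐ[A] B ⊗[A] P A A' n))
      (fun i => spm f (Algebra.TensorProduct.includeRight : P A A' n →ₐ[A] B ⊗[A] P A A' n) ≫
        spm f (y A A' n i) ≫ t) :=
  (isRep_P f hT n).bc _ _ _ (isPullback_sp f B (P A A' n))

end affine

end K809.CechGeo
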