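import Groth.Agent.TateLoc.K809.KerDer
import Groth.Agent.Sga3B.Hens.WeilRes
import Mathlib.LinearAlgebra.TensorProduct.RightExactness

/-!
# The functor of cochains with given coboundary is represented by a smooth algebra
-/

set_option autoImplicit false

universe u

open CategoryTheory MonoidalCategory CartesianMonoidalCategory AlgebraicGeometry Limits MonObj
open scoped TensorProduct

namespace K809.SmoothFun

noncomputable section

open Groth.Agent.Books.AffBridge Groth.Agent.Sga3B.Hens K809.KerGrp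

variable {A : Type u} [CommRing A]

section tens

variable {A₁ A₂ : Type u} [CommRing A₁] [Algebra A A₁] [CommRing A₂] [Algebra A A₂]

/-- `φ ⊗ 1` -/
abbrev bcR (A₁ : Type u) [CommRing A₁] [Algebra A A₁] {B B' : Type u} [CommRing B] [Algebra A B] [CommRing B']
    [Algebra A B'] (φ : B →ₐ[A] B') : B ⊗[A] A₁ →ₐ[A] B' ⊗[A] A₁ :=
  Algebra.TensorProduct.map φ (AlgHom.id A A₁)

/-- `1 ⊗ δ` -/
abbrev bcL (B : Type u) [CommRing B] [Algebra A B] (δ : A₁ →ₐ[A] A₂) : B ⊗[A] A₁ →ₐ[A] B ⊗[A] A₂ :=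
  Algebra.TensorProduct.map (AlgHom.id A B) δ

lemma bcL_comp_bcR {B B' : Type u} [CommRing B] [Algebra A B] [CommRing B'] [Algebra A B'] (φ : B →ₐ[A] B')
    (δ : A₁ →ₐ[A] A₂) : (bcL B' δ).comp (bcR A₁ φ) = (bcR A₂ φ).comp (bcL B δ) := by
  rw [← Algebra.TensorProduct.map_comp, ← Algebra.TensorProduct.map_comp]
  rfl

lemma bcR_comp (A₁ : Type u) [CommRing A₁] [Algebra A A₁] {B B' B'' : Type u} [CommRing B] [Algebra A B]
    [CommRing B'] [Algebra A B'] [CommRing B''] [Algebra A B''] (φ : B →ₐ[A] B') (ψ : B' →ₐ[A] B'') :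
    bcR A₁ (ψ.comp φ) = (bcR A₁ ψ).comp (bcR A₁ φ) := by
  rw [← Algebra.TensorProduct.map_comp]
  rfl

lemma lin_bcL {κ : Type*} [Fintype κ] (s : κ → ℤ) (δ : κ → (A₁ →ₐ[A] A₂)) (B : Type u) [CommRing B] [Algebra A B] :
    lin s (fun i => bcL B (δ i)) = LinearMap.lTensor B (lin s δ) := by
  refine TensorProduct.ext' fun b x => ?_
  rw [lin_apply, LinearMap.lTensor_tmul, lin_apply, TensorProduct.tmul_sum]
  refine Finset.sum_congr rfl fun i _ => ?_
  rw [Algebra.TensorProduct.map_tmul, AlgHom.coe_id, id_eq]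
  exact (TensorProduct.tmul_smul _ _ _).symm

/-- exactness of the kernels of `B ⊗ A_k → B' ⊗ A_k` -/
lemma exact_ker {A₃ : Type u} [CommRing A₃] [Algebra A A₃] [Module.Flat A A₃]
    (d : A₁ →ₗ[A] A₂) (d' : A₂ →ₗ[A] A₃)
    (hex : ∀ (M : Type u) [AddCommGroup M] [Module A M] (z : M ⊗[A] A₂), LinearMap.lTensor M d' z = 0 →
      ∃ y, LinearMap.lTensor M d y = z)
    {B B' : Type u} [CommRing B] [Algebra A B] [CommRing B'] [Algebra A B'] (φ : B →ₐ[A] B')
    (hφ : Function.Surjective φ) (z : B ⊗[A] A₂) (hz : bcR A₂ φ z = 0) (hdz : LinearMap.lTensor B d' z = 0) :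
    ∃ y : B ⊗[A] A₁, bcR A₁ φ y = 0 ∧ LinearMap.lTensor B d y = z := by
  let I : Submodule A B := LinearMap.ker φ.toLinearMap
  have h1 : Function.Exact (LinearMap.rTensor A₂ I.subtype) (LinearMap.rTensor A₂ φ.toLinearMap) :=
    rTensor_exact A₂ (LinearMap.exact_subtype_ker_map φ.toLinearMap) hφ
  obtain ⟨z', rfl⟩ := (h1 z).1 hz
  have h2 : LinearMap.lTensor B d' (LinearMap.rTensor A₂ I.subtype z') =
      LinearMap.rTensor A₃ I.subtype (LinearMap.lTensor I d' z') := by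
    rw [← LinearMap.comp_apply, ← LinearMap.comp_apply, LinearMap.lTensor_comp_rTensor,
      LinearMap.rTensor_comp_lTensor]
  rw [h2] at hdz
  have h3 : Function.Injective (LinearMap.rTensor A₃ I.subtype) :=
    Module.Flat.rTensor_preserves_injective_linearMap _ I.injective_subtype
  obtain ⟨y', hy'⟩ := hex I z' (h3 (hdz.trans (map_zero _).symm))
  refine ⟨LinearMap.rTensor A₁ I.subtype y', ?_, ?_⟩
  · change LinearMap.rTensor A₁ φ.toLinearMap (LinearMap.rTensor A₁ I.subtype y') = 0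
    rw [← LinearMap.rTensor_comp_apply]
    have : φ.toLinearMap ∘ₗ I.subtype = 0 := by
      ext x
      exact x.2
    rw [this, LinearMap.rTensor_zero, LinearMap.zero_apply]
  · rw [← LinearMap.comp_apply, LinearMap.lTensor_comp_rTensor, ← LinearMap.rTensor_comp_lTensor,
      LinearMap.comp_apply, hy']

end tens

variable {𝒢 : Over (Spec (CommRingCat.of A))} [GrpObj 𝒢]
variable {A₁ A₂ A₃ : Type u} [CommRing A₁] [Algebra A A₁] [CommRing A₂] [Algebra A A₂] [CommRing A₃] [Algebra A A₃]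
  {κ κ' : Type*} [Fintype κ] [Fintype κ'] (s : κ → ℤ) (δ : κ → (A₁ →ₐ[A] A₂)) (s' : κ' → ℤ)
  (δ' : κ' → (A₂ →ₐ[A] A₃))

/-- coboundary over `B` -/
def cob [IsCommMonObj 𝒢] (B : Type u) [CommRing B] [Algebra A B] : Pt 𝒢 (B ⊗[A] A₁) →+ Pt 𝒢 (B ⊗[A] A₂) :=
  ∑ i, s i • res (bcL B (δ i))

lemma cob_apply [IsCommMonObj 𝒢] (B : Type u) [CommRing B] [Algebra A B] (x : Pt 𝒢 (B ⊗[A] A₁)) :
    cob s δ B x = ∑ i, s i • res (bcL B (δ i)) x := by
  simp [cob]

lemma cob_res [IsCommMonObj 𝒢] {B B' : Type u} [CommRing B] [Algebra A B] [CommRing B'] [Algebra A B']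
    (φ : B →ₐ[A] B') (x : Pt 𝒢 (B ⊗[A] A₁)) : cob s δ B' (res (bcR A₁ φ) x) = res (bcR A₂ φ) (cob s δ B x) := by
  rw [cob_apply, cob_apply, map_sum]
  refine Finset.sum_congr rfl fun i _ => ?_
  rw [map_zsmul, res_comp, res_comp, bcL_comp_bcR]

/-- constant extension -/
def cst (B : Type u) [CommRing B] [Algebra A B] : Pt 𝒢 A₂ →+ Pt 𝒢 (B ⊗[A] A₂) :=
  res Algebra.TensorProduct.includeRight

lemma res_cst {B B' : Type u} [CommRing B] [Algebra A B] [CommRing B'] [Algebra A B']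
    (φ : B →ₐ[A] B') (z : Pt 𝒢 A₂) : res (bcR A₂ φ) (cst B z) = cst B' z := by
  rw [cst, cst, res_comp]
  congr 2
  ext x
  simp

lemma cob_cst [IsCommMonObj 𝒢] (B : Type u) [CommRing B] [Algebra A B] (z : Pt 𝒢 A₂) :
    cob s' δ' B (cst B z) = cst B (∑ i, s' i • res (δ' i) z) := by
  rw [cob_apply, map_sum]
  refine Finset.sum_congr rfl fun i _ => ?_
  rw [map_zsmul, cst, cst, res_comp, res_comp]
  congr 3

variable {s δ s' δ'} in
/-- **The functor of cochains in a chart with given coboundary is represented by a smooth algebra.** -/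
theorem exists_smooth [IsCommMonObj 𝒢] [IsSeparated 𝒢.hom] [LocallyOfFiniteType 𝒢.hom]
    [Module.Finite A A₁] [Module.Free A A₁] [Module.Finite A A₂] [Module.Free A A₂] [Module.Flat A A₃]
    (hdd : ∀ (G : Type u) [AddCommGroup G] (H : (A₁ →ₐ[A] A₃) → G),
      ∑ i', s' i' • ∑ i, s i • H ((δ' i').comp (δ i)) = 0)
    (hex : ∀ (M : Type u) [AddCommGroup M] [Module A M] (z : M ⊗[A] A₂), LinearMap.lTensor M (lin s' δ') z = 0 →
      ∃ y, LinearMap.lTensor M (lin s δ) y = z)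
    {E₀ : Type u} [CommRing E₀] [Algebra A E₀] [Algebra.FormallySmooth A E₀] (j₀ : SpecOver A E₀ ⟶ 𝒢)
    [IsOpenImmersion j₀.left] {ε : E₀ →ₐ[A] A} (hε : specMap A ε ≫ j₀ = 1)
    {E : Type u} [CommRing E] [Algebra A E] [Algebra.Smooth A E] (j : SpecOver A E ⟶ 𝒢)
    [IsOpenImmersion j.left] (z : Pt 𝒢 A₂) (hz : ∑ i, s' i • res (δ' i) z = 0) :
    ∃ (Q : Type u) (_ : CommRing Q) (_ : Algebra A Q) (_ : Algebra.Smooth A Q) (ev : E →ₐ[A] Q ⊗[A] A₁),
      cob s δ Q (Additive.ofMul (specMap A ev ≫ j)) = cst Q z ∧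
      ∀ (B : Type u) [CommRing B] [Algebra A B] (e : E →ₐ[A] B ⊗[A] A₁),
        cob s δ B (Additive.ofMul (specMap A e ≫ j)) = cst B z → ∃ q : Q →ₐ[A] B, (bcR A₁ q).comp ev = e := by
  obtain ⟨P, _, _, _, π, hπ⟩ := WeilRes.exists_weil A A₁ (fun _ : PUnit.{u + 1} => E)
  obtain ⟨a, ha, hau⟩ := PtScheme.exists_eqIdeal
    (cob s δ P (Additive.ofMul (specMap A (π PUnit.unit) ≫ j))).toMul (cst P z).toMul
  obtain ⟨b, hb, hbu⟩ := WeilRes.exists_ideal A A₂ P a ha
  let pt : ∀ (B : Type u) [CommRing B] [Algebra A B] (e : E →ₐ[A] B ⊗[A] A₁), Pt 𝒢 (B ⊗[A] A₁) :=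
    fun B _ _ e => Additive.ofMul (specMap A e ≫ j)
  have hptc : ∀ (B B' : Type u) [CommRing B] [Algebra A B] [CommRing B'] [Algebra A B'] (φ : B →ₐ[A] B')
      (e : E →ₐ[A] B ⊗[A] A₁), res (bcR A₁ φ) (pt B e) = pt B' ((bcR A₁ φ).comp e) := by
    intro B B' _ _ _ _ φ e
    exact congrArg Additive.ofMul (cc (bcR A₁ φ) e j)
  have hbu' : ∀ (B : Type u) [CommRing B] [Algebra A B] (φ : P →ₐ[A] B),
      cob s δ B (pt B ((bcR A₁ φ).comp (π PUnit.unit))) = cst B z ↔ ∀ c ∈ b, φ c = 0 := by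
    intro B _ _ φ
    rw [← hbu B φ, ← hau _ (bcR A₂ φ), ← hptc, cob_res, ← res_cst φ z]
    exact Iff.rfl
  let mkQ : P →ₐ[A] P ⧸ b := Ideal.Quotient.mkₐ A b
  let ev : E →ₐ[A] (P ⧸ b) ⊗[A] A₁ := (bcR A₁ mkQ).comp (π PUnit.unit)
  have hev : cob s δ (P ⧸ b) (pt _ ev) = cst _ z :=
    (hbu' _ mkQ).mpr fun c hc => Ideal.Quotient.eq_zero_iff_mem.mpr hc
  have huniv : ∀ (B : Type u) [CommRing B] [Algebra A B] (e : E →ₐ[A] B ⊗[A] A₁),
        cob s δ B (pt B e) = cst B z → ∃ q : (P ⧸ b) →ₐ[A] B, (bcR A₁ q).comp ev = e := by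
    intro B _ _ e he
    obtain ⟨φ, hφ, -⟩ := hπ B (fun _ => e)
    have hφ : (bcR A₁ φ).comp (π PUnit.unit) = e := hφ PUnit.unit
    have h1 : ∀ c ∈ b, φ c = 0 := by
      rw [← hbu' B φ, hφ]
      exact he
    refine ⟨Ideal.Quotient.liftₐ b φ h1, ?_⟩
    rw [← hφ]
    change (bcR A₁ (Ideal.Quotient.liftₐ b φ h1)).comp ((bcR A₁ mkQ).comp (π PUnit.unit)) = _
    rw [← AlgHom.comp_assoc, ← bcR_comp]
    rfl
  have huniq : ∀ (B : Type u) [CommRing B] [Algebra A B] (q q' : (P ⧸ b) →ₐ[A] B),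
      (bcR A₁ q).comp ev = (bcR A₁ q').comp ev → q = q' := by
    intro B _ _ q q' h
    obtain ⟨φ, -, hφ'⟩ := hπ B fun _ => (bcR A₁ q).comp ev
    have h1 := hφ' (q.comp mkQ) fun _ => by
      change (bcR A₁ (q.comp mkQ)).comp (π PUnit.unit) = (bcR A₁ q).comp ((bcR A₁ mkQ).comp (π PUnit.unit))
      rw [← AlgHom.comp_assoc, ← bcR_comp]
    have h2 := hφ' (q'.comp mkQ) fun _ => by
      change (bcR A₁ (q'.comp mkQ)).comp (π PUnit.unit) = (bcR A₁ q).comp ev
      rw [h]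
      change (bcR A₁ (q'.comp mkQ)).comp (π PUnit.unit) = (bcR A₁ q').comp ((bcR A₁ mkQ).comp (π PUnit.unit))
      rw [← AlgHom.comp_assoc, ← bcR_comp]
    have h3 := h1.trans h2.symm
    refine AlgHom.ext fun z => ?_
    obtain ⟨p, rfl⟩ := Ideal.Quotient.mk_surjective z
    exact congr($h3 p)
  have hfp : Algebra.FinitePresentation A (P ⧸ b) := Algebra.FinitePresentation.quotient hb
  have hfs : Algebra.FormallySmooth A (P ⧸ b) := by
    refine Algebra.FormallySmooth.of_comp_surjective fun B _ _ I hI f => ?_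
    let φ : B →ₐ[A] B ⧸ I := Ideal.Quotient.mkₐ A I
    have hφ : Function.Surjective φ := Ideal.Quotient.mk_surjective
    have hker : RingHom.ker φ = I := Ideal.mk_ker
    -- kernels after tensoring
    have hsurj : ∀ (C : Type u) [CommRing C] [Algebra A C], Function.Surjective (bcR C φ) := fun C _ _ =>
      LinearMap.rTensor_surjective (g := φ.toLinearMap) C hφ
    have hker2 : ∀ (C : Type u) [CommRing C] [Algebra A C], RingHom.ker (bcR C φ) ^ 2 = ⊥ := by
      intro C _ _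
      have h1 : RingHom.ker (bcR C φ) =
          (RingHom.ker φ).map (Algebra.TensorProduct.includeLeft : B →ₐ[A] B ⊗[A] C) :=
        Algebra.TensorProduct.rTensor_ker (R := A) (C := C) (f := φ) hφ
      rw [h1, ← Ideal.map_pow, hker, hI, Ideal.map_bot]
    have hkz : ∀ (C : Type u) [CommRing C] [Algebra A C], ∀ x ∈ RingHom.ker (bcR C φ),
        ∀ y ∈ RingHom.ker (bcR C φ), x * y = 0 := by
      intro C _ _ x hx y hy
      have : x * y ∈ RingHom.ker (bcR C φ) ^ 2 := by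
        rw [pow_two]
        exact Ideal.mul_mem_mul hx hy
      rwa [hker2, Ideal.mem_bot] at this
    -- the cochain over `B / I`
    let e₁ : E →ₐ[A] (B ⧸ I) ⊗[A] A₁ := (bcR A₁ f).comp ev
    have he₁ : cob s δ (B ⧸ I) (pt _ e₁) = cst _ z := by
      have h1 := (hbu' (B ⧸ I) (f.comp mkQ)).mpr fun c hc => by
        rw [AlgHom.comp_apply]
        have : mkQ c = 0 := Ideal.Quotient.eq_zero_iff_mem.mpr hc
        rw [this, map_zero]
      have h2 : (bcR A₁ (f.comp mkQ)).comp (π PUnit.unit) = e₁ := by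
        change _ = (bcR A₁ f).comp ((bcR A₁ mkQ).comp (π PUnit.unit))
        rw [← AlgHom.comp_assoc, ← bcR_comp]
      rwa [h2] at h1
    -- lift the cochain
    obtain ⟨e, he⟩ : ∃ e : E →ₐ[A] B ⊗[A] A₁, (bcR A₁ φ).comp e = e₁ :=
      ⟨Algebra.FormallySmooth.liftOfSurjective e₁ (bcR A₁ φ) (hsurj A₁) ⟨2, hker2 A₁⟩,
        Algebra.FormallySmooth.comp_liftOfSurjective e₁ (bcR A₁ φ) (hsurj A₁) ⟨2, hker2 A₁⟩⟩
    -- the error term
    obtain ⟨w, hw⟩ : ∃ w : Pt 𝒢 (B ⊗[A] A₂), w = cst B z - cob s δ B (pt B e) := ⟨_, rfl⟩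
    have hw0 : res (bcR A₂ φ) w = 0 := by
      rw [hw, map_sub, res_cst, ← cob_res, hptc, he, he₁, sub_self]
    have hcc : ∀ x : Pt 𝒢 (B ⊗[A] A₁), cob s' δ' B (cob s δ B x) = 0 := by
      intro x
      rw [cob_apply]
      have h1 := hdd (Pt 𝒢 (B ⊗[A] A₃)) (fun g => res (bcL B g) x)
      rw [← h1]
      refine Finset.sum_congr rfl fun i' _ => ?_
      congr 1
      rw [cob_apply, map_sum]
      refine Finset.sum_congr rfl fun i _ => ?_
      rw [map_zsmul, res_comp]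
      congr 3
      exact (Algebra.TensorProduct.map_comp _ _ _ _).symm
    have hdw : ∑ i, s' i • res (bcL B (δ' i)) w = 0 := by
      rw [← cob_apply, hw, map_sub, hcc, sub_zero, cob_cst, hz, map_zero]
    obtain ⟨c, hc0, hc⟩ := exists_primitive j₀ (J₁ := RingHom.ker (bcR A₁ φ)) (J₂ := RingHom.ker (bcR A₂ φ))
      (J₃ := RingHom.ker (bcR A₃ φ)) s (fun i => bcL B (δ i))
      (fun i x hx => by
        rw [RingHom.mem_ker] at hx ⊢
        have h1 := DFunLike.congr_fun (bcL_comp_bcR φ (δ i)) x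
        rw [AlgHom.comp_apply, AlgHom.comp_apply, hx, map_zero] at h1
        exact h1.symm)
      s' (fun i => bcL B (δ' i))
      (fun i x hx => by
        rw [RingHom.mem_ker] at hx ⊢
        have h1 := DFunLike.congr_fun (bcL_comp_bcR φ (δ' i)) x
        rw [AlgHom.comp_apply, AlgHom.comp_apply, hx, map_zero] at h1
        exact h1.symm)
      (fun x hx hdx => by
        rw [lin_bcL] at hdx
        obtain ⟨y, hy, hyx⟩ := exact_ker (lin s δ) (lin s' δ') hex φ hφ x hx hdx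
        exact ⟨y, hy, by rw [lin_bcL]; exact hyx⟩)
      hε (hkz A₁) (hkz A₂) (hkz A₃) (bcR A₁ φ) (fun x hx => hx) (bcR A₂ φ) (hsurj A₂) (fun x => Iff.rfl) w hw0 hdw
    obtain ⟨e', he', hee'⟩ := PtScheme.exists_lift j (bcR A₁ φ)
      (surjective_specMap _ (hsurj A₁) fun x hx => ⟨2, by rw [pow_two]; exact hkz A₁ x hx x hx⟩)
      (pt B e + c).toMul e₁ (by
        have h1 : res (bcR A₁ φ) (pt B e + c) = pt _ e₁ := by
          rw [map_add, hc0, add_zero, hptc, he]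
        exact h1)
    have hpe' : pt B e' = pt B e + c := congrArg Additive.ofMul he'
    obtain ⟨q, hq⟩ := huniv B e' (by
      rw [hpe', map_add]
      have h1 : cob s δ B c = w := by rw [cob_apply]; exact hc
      rw [h1, hw]
      abel)
    refine ⟨q, huniq _ _ _ ?_⟩
    have h1 : (bcR A₁ (φ.comp q)).comp ev = (bcR A₁ φ).comp ((bcR A₁ q).comp ev) := by
      rw [bcR_comp, AlgHom.comp_assoc]
    exact h1.trans ((congrArg _ hq).trans hee')
  exact ⟨P ⧸ b, inferInstance, inferInstance, ⟨hfs, hfp⟩, ev, hev, huniv⟩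

end

end K809.SmoothFun
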