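import Groth.Agent.Sga3B.BcPts
import Groth.Prelude.Def_CGrpSh
import Groth.Agent.TateLoc.K809.CechGeo
import Groth.Agent.TateLoc.K809.SmoothFun

/-!
# Dictionary between cochains on the big site and points over tensor powers
-/

set_option autoImplicit false

universe w v u

open CategoryTheory CategoryTheory.Limits AlgebraicGeometry Opposite TensorProduct MonObj
open Groth.Agent.Etrest.FppfCoch Groth.Agent.Books.AffBridge K809.CechAlg K809.CechGeo K809.KerGrp K809.SmoothFun

namespace K809.CechDict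

noncomputable section

variable (A A' : Type u) [CommRing A] [CommRing A'] [Algebra A A']

/-- signs -/
abbrev sg (n : ℕ) : Fin n → ℤ := fun i => (-1) ^ (i : ℕ)

lemma d_eq_lin (n : ℕ) : d A A' n = lin (sg (n + 1)) (δ A A' n) := rfl

lemma sum_sum_zero (n : ℕ) {G : Type*} [AddCommGroup G]
    (H : (P A A' (n + 1) →ₐ[A] P A A' (n + 1 + 1 + 1)) → G) :
    ∑ i', sg (n + 3) i' • ∑ i, sg (n + 2) i • H ((δ A A' (n + 2) i').comp (δ A A' (n + 1) i)) = 0 := by
  let φ : (Fin (n + 1) → (A' →ₐ[A] P A A' (n + 3))) → G := fun x => H (exists_lift x).choose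
  have h := dS_dS φ (y A A' (n + 3))
  rw [← h]
  refine Finset.sum_congr rfl fun i' _ => ?_
  congr 1
  refine Finset.sum_congr rfl fun i _ => ?_
  congr 1
  refine congrArg H (CechAlg.hom_ext _ _ fun k => ?_)
  rw [(exists_lift (fun k => y A A' (n + 3) (i'.succAbove (i.succAbove k)))).choose_spec k,
    AlgHom.comp_assoc, δ_y, δ_y]

lemma d_d (n : ℕ) (x : P A A' (n + 1)) : d A A' (n + 2) (d A A' (n + 1) x) = 0 := by
  have h := sum_sum_zero A A' n (G := P A A' (n + 3)) (fun g => g x)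
  rw [← h, d_apply, d_apply]
  refine Finset.sum_congr rfl fun i' _ => ?_
  rw [map_sum]
  congr 1
  refine Finset.sum_congr rfl fun i _ => ?_
  rw [map_zsmul]
  rfl

variable {A A'}

lemma hex [Module.FaithfullyFlat A A'] (n : ℕ) (M : Type u) [AddCommGroup M] [Module A M]
    (z : M ⊗[A] P A A' (n + 2)) (hz : LinearMap.lTensor M (lin (sg (n + 3)) (δ A A' (n + 2))) z = 0) :
    ∃ y, LinearMap.lTensor M (lin (sg (n + 2)) (δ A A' (n + 1))) y = z :=
  (CechAlg.exact M (n + 1) (d_d A A' n) z).1 hz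

variable {X : Scheme.{u}} (f : Spec (CommRingCat.of A) ⟶ X) (G : Over X) [GrpObj G] [IsCommMonObj G]

/-- Points of the base change. -/
def θ (S : Type u) [CommRing S] [Algebra A S] : Pt (Red.bc f G) S ≃+ (CGrpSh.ptsPre G).obj (op (sp f S)) where
  toFun x := ULift.up (Additive.ofMul ((Groth.Agent.Sga3B.BcPts.bcMulEquiv f (SpecOver A S) G).symm x.toMul))
  invFun x := Additive.ofMul (Groth.Agent.Sga3B.BcPts.bcMulEquiv f (SpecOver A S) G x.down.toMul)
  left_inv x := congrArg Additive.ofMul (MulEquiv.apply_symm_apply _ _)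
  right_inv x := congrArg (fun t => ULift.up (Additive.ofMul t)) (MulEquiv.symm_apply_apply _ _)
  map_add' x y := congrArg (fun t => ULift.up (Additive.ofMul t)) (map_mul _ _ _)

variable {S S' : Type u} [CommRing S] [Algebra A S] [CommRing S'] [Algebra A S']

lemma θ_res (g : S →ₐ[A] S') (x : Pt (Red.bc f G) S) :
    (CGrpSh.ptsPre G).map (spm f g).op (θ f G S x) = θ f G S' (res g x) := by
  refine congrArg (fun t => ULift.up (Additive.ofMul t)) ?_
  exact (Groth.Agent.Sga3B.BcPts.comp_bcEquiv_symm f (specMap A g) x.toMul).symm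

variable {T' T : Over X} {p : T' ⟶ T} {e : sp f A ⟶ T} {t : sp f A' ⟶ T'}
  (hT : IsPullback t (spm f (Algebra.ofId A A')) p e)

/-- structure morphism of the universal tuple over `B` -/
abbrev πB (B : Type u) [CommRing B] [Algebra A B] (n : ℕ) : sp f (B ⊗[A] P A A' n) ⟶ sp f B :=
  spm f (Algebra.TensorProduct.includeLeft : B →ₐ[A] B ⊗[A] P A A' n)

/-- universal tuple over `B` -/
abbrev yB (t : sp f A' ⟶ T') (B : Type u) [CommRing B] [Algebra A B] (n : ℕ) (i : Fin n) :
    sp f (B ⊗[A] P A A' n) ⟶ T' :=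
  spm f (Algebra.TensorProduct.includeRight : P A A' n →ₐ[A] B ⊗[A] P A A' n) ≫ spm f (y A A' n i) ≫ t

lemma bcL_π (B : Type u) [CommRing B] [Algebra A B] (n : ℕ) (i : Fin (n + 1)) :
    spm f (bcL B (δ A A' n i)) ≫ πB f B n = πB f B (n + 1) := by
  rw [← spm_comp]
  congr 1
  exact AlgHom.ext fun b => by
    rw [AlgHom.comp_apply]
    exact (Algebra.TensorProduct.map_tmul _ _ _ _).trans (congrArg _ (map_one _))

lemma bcL_y (t : sp f A' ⟶ T') (B : Type u) [CommRing B] [Algebra A B] (n : ℕ) (i : Fin (n + 1)) (k : Fin n) :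
    spm f (bcL B (δ A A' n i)) ≫ yB f t B n k = yB f t B (n + 1) (i.succAbove k) := by
  have h : ((bcL B (δ A A' n i)).comp Algebra.TensorProduct.includeRight).comp (y A A' n k) =
      (Algebra.TensorProduct.includeRight : P A A' (n + 1) →ₐ[A] B ⊗[A] P A A' (n + 1)).comp
        (y A A' (n + 1) (i.succAbove k)) := by
    rw [← δ_y]
    exact AlgHom.ext fun b => by
      simp only [AlgHom.comp_apply]
      exact (Algebra.TensorProduct.map_tmul _ _ _ _).trans (congrArg (fun x => x ⊗ₜ _) (map_one _))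
  rw [yB, yB, ← Category.assoc, ← Category.assoc, ← Category.assoc, ← spm_comp, ← spm_comp, ← spm_comp, h]

lemma θ_cob (n : ℕ) (B : Type u) [CommRing B] [Algebra A B] (β : Pt (Red.bc f G) (B ⊗[A] P A A' n)) :
    θ f G _ (cob (sg (n + 1)) (δ A A' n) B β) =
      ∑ i : Fin (n + 1), (-1 : ℤ) ^ (i : ℕ) • (CGrpSh.ptsPre G).map (spm f (bcL B (δ A A' n i))).op (θ f G _ β) := by
  rw [cob_apply, map_sum]
  refine Finset.sum_congr rfl fun i _ => ?_
  rw [map_zsmul, θ_res]

lemma θ_cst (n : ℕ) (B : Type u) [CommRing B] [Algebra A B] (z : Pt (Red.bc f G) (P A A' n)) :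
    θ f G _ (cst B z) = (CGrpSh.ptsPre G).map
      (spm f (Algebra.TensorProduct.includeRight : P A A' n →ₐ[A] B ⊗[A] P A A' n)).op (θ f G _ z) := by
  rw [θ_res]
  rfl

include hT in
lemma res_univ (n : ℕ) (B : Type u) [CommRing B] [Algebra A B]
    {c : Fam (CGrpSh.ptsPre G) (sp f A) T' n} (hc : IsCoch p e c) :
    resF (spm f (Algebra.ofId A B)) c _ (πB f B (n + 1)) (yB f t B (n + 1)) =
      (CGrpSh.ptsPre G).map
        (spm f (Algebra.TensorProduct.includeRight : P A A' (n + 1) →ₐ[A] B ⊗[A] P A A' (n + 1))).op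
        (c _ (spm f (Algebra.ofId A (P A A' (n + 1)))) (fun i => spm f (y A A' (n + 1) i) ≫ t)) := by
  have h := hc (spm f (Algebra.TensorProduct.includeRight : P A A' (n + 1) →ₐ[A] B ⊗[A] P A A' (n + 1)))
    _ _ (isRep_P f hT (n + 1)).compat
  rw [h, resF]
  congr 1
  exact (isPullback_sp f B (P A A' (n + 1))).w.symm

include hT in
/-- From cochains to points. -/
lemma cob_of_isCob (n : ℕ) (B : Type u) [CommRing B] [Algebra A B] {b : Fam (CGrpSh.ptsPre G) (sp f B) T' n}
    {c : Fam (CGrpSh.ptsPre G) (sp f A) T' (n + 1)}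
    (hb : IsCoch p (spm f (Algebra.ofId A B) ≫ e) b) (hc : IsCoch p e c)
    (hbc : IsCob p (spm f (Algebra.ofId A B) ≫ e) b (resF (spm f (Algebra.ofId A B)) c)) :
    cob (sg (n + 2)) (δ A A' (n + 1)) B ((θ f G _).symm (b _ (πB f B (n + 1)) (yB f t B (n + 1)))) =
      cst B ((θ f G _).symm (c _ (spm f (Algebra.ofId A (P A A' (n + 2)))) (fun i => spm f (y A A' (n + 2) i) ≫ t))) := by
  apply (θ f G _).injective
  rw [θ_cob, θ_cst, AddEquiv.apply_symm_apply, AddEquiv.apply_symm_apply, ← res_univ f G hT (n + 1) B hc,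
    ← hbc _ _ (isRep_PB f hT (n + 2) B).compat]
  exact (dS_univ (isRep_PB f hT (n + 1) B).compat (fun i => spm f (bcL B (δ A A' (n + 1) i)))
    (fun i => bcL_π f B (n + 1) i) (fun i k => bcL_y f t B (n + 1) i k) hb).symm

include hT in
/-- From points to cochains. -/
lemma exists_isCob (n : ℕ) (B : Type u) [CommRing B] [Algebra A B]
    {c : Fam (CGrpSh.ptsPre G) (sp f A) T' (n + 1)} (hc : IsCoch p e c) (β : Pt (Red.bc f G) (B ⊗[A] P A A' (n + 1)))
    (hβ : cob (sg (n + 2)) (δ A A' (n + 1)) B β =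
      cst B ((θ f G _).symm (c _ (spm f (Algebra.ofId A (P A A' (n + 2)))) (fun i => spm f (y A A' (n + 2) i) ≫ t)))) :
    ∃ b : Fam (CGrpSh.ptsPre G) (sp f B) T' n, IsCoch p (spm f (Algebra.ofId A B) ≫ e) b ∧
      IsCob p (spm f (Algebra.ofId A B) ≫ e) b (resF (spm f (Algebra.ofId A B)) c) := by
  let R := (isRep_PB f hT (n + 1) B).rep
  refine ⟨ofSec R (θ f G _ β), isCoch_ofSec R _, ?_⟩
  refine isCob_of_univ (isRep_PB f hT (n + 2) B) (isCoch_ofSec R _) (hc.res _) ?_
  have h1 : ofSec R (θ f G _ β) _ (πB f B (n + 1)) (yB f t B (n + 1)) = θ f G _ β := by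
    rw [ofSec_apply _ _ _ _ (isRep_PB f hT (n + 1) B).compat]
    have : R.lift (πB f B (n + 1)) (yB f t B (n + 1)) (isRep_PB f hT (n + 1) B).compat = 𝟙 R.Y := by
      apply R.hom_ext
      · exact (R.lift_π _ _ _).trans (Category.id_comp R.π).symm
      · intro i
        exact (R.lift_y _ _ _ i).trans (Category.id_comp (R.y i)).symm
    rw [this]
    exact ConcreteCategory.congr_hom ((CGrpSh.ptsPre G).map_id (op R.Y)) (θ f G _ β)
  rw [dS_univ (isRep_PB f hT (n + 1) B).compat (fun i => spm f (bcL B (δ A A' (n + 1) i)))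
    (fun i => bcL_π f B (n + 1) i) (fun i k => bcL_y f t B (n + 1) i k) (isCoch_ofSec R _)]
  have h2 := congrArg (θ f G _) hβ
  rw [θ_cob, θ_cst, AddEquiv.apply_symm_apply, ← res_univ f G hT (n + 1) B hc] at h2
  rw [← h2]
  refine Finset.sum_congr rfl fun i _ => ?_
  congr 2

include hT in
/-- The cocycle condition. -/
lemma sum_res_eq_zero (n : ℕ) {c : Fam (CGrpSh.ptsPre G) (sp f A) T' n} (hc : IsCoch p e c) (hz : IsCocycle p e c) :
    ∑ i, sg (n + 2) i • res (δ A A' (n + 1) i)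
      ((θ f G _).symm (c _ (spm f (Algebra.ofId A (P A A' (n + 1)))) (fun i => spm f (y A A' (n + 1) i) ≫ t))) = 0 := by
  apply (θ f G _).injective
  rw [map_sum, map_zero, ← hz _ _ (isRep_P f hT (n + 2)).compat,
    dS_univ (isRep_P f hT (n + 1)).compat (fun i => spm f (δ A A' (n + 1) i)) (fun i => ?_) (fun i k => ?_) hc]
  · refine Finset.sum_congr rfl fun i _ => ?_
    rw [map_zsmul, ← θ_res, AddEquiv.apply_symm_apply]
  · rw [← spm_comp]
    congr 1
    exact AlgHom.ext fun a => (δ A A' (n + 1) i).commutes a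
  · rw [← Category.assoc, ← spm_comp, δ_y]

end

end K809.CechDict
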