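import Groth.Agent.TateLoc.K114.FrobSeq
import Groth.Agent.WeilRes.K933.WRArtin
import Groth.Agent.AlgGrp.K396.Basic
import Groth.Agent.TateLoc.K809.SeqExact
import Groth.Agent.TateLoc.K809.AffNhd
import Groth.Agent.AlgGrp.K404.Desc
import Groth.Agent.GrpSch.K267.DeligneSch

/-!
# Commutative group schemes of finite type over a field: extensions of smooth ones by finite connected ones
-/

set_option autoImplicit false
universe u
open CategoryTheory MonoidalCategory CartesianMonoidalCategory MonObj GrpObj AlgebraicGeometry Limits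

namespace K809.FieldSeq

variable {K : Type u} [Field K]

/-- finite type group schemes over a field satisfy `AF` -/
theorem af (G : Over (Spec (CommRingCat.of K))) [GrpObj G] [LocallyOfFiniteType G.hom] [QuasiCompact G.hom] :
    AffNhd.AF G := by
  intro x F hF _
  obtain ⟨U, hU, hFU⟩ := K933.WRArtin.exists_affine_of_finite_field K G F hF
  exact ⟨U, hU, hFU, ⊤, isAffineOpen_top _, fun _ _ => trivial⟩

theorem exists_smooth (G : Over (Spec (CommRingCat.of K))) [GrpObj G] [LocallyOfFiniteType G.hom] :
    ∃ (Q : Over (Spec (CommRingCat.of K))) (_ : GrpObj Q) (q : G ⟶ Q), IsMonHom q ∧ Smooth Q.hom ∧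
      Surjective q.left ∧ Flat q.left ∧ LocallyOfFinitePresentation q.left ∧ IsFinite q.left ∧
      UniversallyInjective q.left := by
  obtain ⟨p, hp⟩ := CharP.exists K
  rcases CharP.char_is_prime_or_zero K p with h | h
  · have : Fact p.Prime := ⟨h⟩
    exact K114.FrobSmooth.exists_smooth p G
  · subst h
    have : CharZero K := CharP.charP_to_charZero K
    have hG : Smooth G.hom := Groth.Agent.S0353.result K G
    exact ⟨G, inferInstance, 𝟙 G, inferInstance, hG, (inferInstanceAs (Surjective (𝟙 G.left))),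
      (inferInstanceAs (Flat (𝟙 G.left))), (inferInstanceAs (LocallyOfFinitePresentation (𝟙 G.left))),
      (inferInstanceAs (IsFinite (𝟙 G.left))), (inferInstanceAs (UniversallyInjective (𝟙 G.left)))⟩

theorem isCommMonObj_of_epi {C : Type*} [Category C] [CartesianMonoidalCategory C] [BraidedCategory C] {G Q : C}
    [MonObj G] [MonObj Q] [IsCommMonObj G] (q : G ⟶ Q) [IsMonHom q] [Epi (q ⊗ₘ q)] : IsCommMonObj Q := by
  refine ⟨?_⟩
  rw [← cancel_epi (q ⊗ₘ q), BraidedCategory.braiding_naturality_assoc, ← IsMonHom.mul_hom,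
    IsCommMonObj.mul_comm_assoc]

/-- The sequence `0 → I → G → Q → 0`. -/
theorem exists_seq (G : Over (Spec (CommRingCat.of K))) [GrpObj G] [IsCommMonObj G] [LocallyOfFiniteType G.hom] :
    ∃ (I Q : Over (Spec (CommRingCat.of K))) (_ : GrpObj I) (_ : IsCommMonObj I) (_ : GrpObj Q) (_ : IsCommMonObj Q)
      (u : I ⟶ G) (q : G ⟶ Q) (_ : IsMonHom u) (_ : IsMonHom q) (w : u ≫ q = 1), AlgGrp.IsKernel u q ∧
      IsFinite I.hom ∧ Flat I.hom ∧ LocallyOfFinitePresentation I.hom ∧ UniversallyInjective I.hom ∧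
      Smooth Q.hom ∧ (QuasiCompact G.hom → QuasiCompact Q.hom) ∧ IsFinite q.left ∧ Surjective q.left ∧ Flat q.left ∧
      UniversallyInjective q.left ∧ (CGrpSh.seq Scheme.fppfPrecoverage u q w).ShortExact := by
  obtain ⟨Q, gQ, q, hq, hsm, hsurj, hflat, hlfp, hfin, hinj⟩ := exists_smooth G
  obtain ⟨I, gI, u, hu, hpb⟩ := Groth.Agent.Grpsch.KerMul.exists_kernel q
  have hcQ : IsCommMonObj Q := by
    have h2f : Flat (q ⊗ₘ q).left := K404.Desc.tensorHom_left_of (@Flat) q q ‹_› ‹_›
    have h2s : Surjective (q ⊗ₘ q).left := K404.Desc.tensorHom_left_of (@Surjective) q q ‹_› ‹_›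
    have h2c : QuasiCompact (q ⊗ₘ q).left :=
      K404.Desc.tensorHom_left_of (@QuasiCompact) q q inferInstance inferInstance
    have := K404.Desc.epi_of (q ⊗ₘ q)
    exact isCommMonObj_of_epi q
  have hm : Mono u := SeqExact.mono_of_isKernel u q hpb
  have hcI : IsCommMonObj I := K267.DeligneSch.isCommMonObj_of_iso u
  have w : u ≫ q = 1 := hpb.w.trans Hom.one_def.symm
  have hpb' : IsPullback u.left (toUnit I).left q.left η[Q].left := hpb.map (Over.forget _)
  have hIf : IsFinite (toUnit I).left := MorphismProperty.of_isPullback hpb' hfin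
  have hIp : LocallyOfFinitePresentation (toUnit I).left := MorphismProperty.of_isPullback hpb' hlfp
  have hIi : UniversallyInjective (toUnit I).left := MorphismProperty.of_isPullback hpb' hinj
  have hIe : (toUnit I).left = I.hom := by simp
  rw [hIe] at hIf hIp hIi
  refine ⟨I, Q, gI, hcI, gQ, hcQ, u, q, hu, hq, w, hpb, hIf, inferInstance, hIp,
    hIi, hsm, fun h => ?_, hfin, hsurj, hflat, hinj,
    SeqExact.shortExact u q w hpb⟩
  have h1 : CompactSpace G.left := HasAffineProperty.iff_of_isAffine (P := @QuasiCompact).1 h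
  have h2 : CompactSpace Q.left := by
    refine ⟨?_⟩
    have := isCompact_range q.left.continuous
    rwa [Set.range_eq_univ.2 hsurj.surj] at this
  exact HasAffineProperty.iff_of_isAffine (P := @QuasiCompact).2 h2

end K809.FieldSeq
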