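import Groth.Agent.TateLoc.K809.Comp
import Groth.Agent.TateLoc.K809.FieldSeq
import Groth.Agent.S7743

/-!
# `H^i(k, G)` is torsion for `i > 0` and `G` a commutative group scheme of finite type over a field
-/

set_option autoImplicit false
universe u

open CategoryTheory CategoryTheory.Limits AlgebraicGeometry Opposite MonoidalCategory CartesianMonoidalCategory MonObj

namespace K809.TorsTwo

variable (k : Type u) [Field k]

/-- Finite commutative group schemes over a field are killed by a positive integer. -/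
theorem exists_pow_eq_one (I : Over (Spec (CommRingCat.of k))) [GrpObj I] [IsCommMonObj I] [IsFinite I.hom]
    [Flat I.hom] [LocallyOfFinitePresentation I.hom] : ∃ n : ℕ, 0 < n ∧ (𝟙 I) ^ n = 1 := by
  let x : Spec (CommRingCat.of k) := IsLocalRing.closedPoint k
  refine ⟨Scheme.Hom.finrank I.hom x, ?_, K267.DeligneSch.id_pow_eq_one I _ fun s => ?_⟩
  · have hx : x = I.hom (η[I].left x) := Subsingleton.elim _ _
    rw [hx]
    exact Scheme.Hom.one_le_finrank_map I.hom _
  · rw [Subsingleton.elim s x]

theorem isOfFinAddOrder (G : Over (Spec (CommRingCat.of k))) [GrpObj G] [IsCommMonObj G]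
    [LocallyOfFiniteType G.hom] [QuasiCompact G.hom] (i : ℕ) (hi : 0 < i)
    (x : BigSite.H Scheme.fppfPrecoverage (Spec (CommRingCat.of k)) (CGrpSh.pts Scheme.fppfPrecoverage G) i) :
    IsOfFinAddOrder x := by
  obtain ⟨I, Q, gI, cI, gQ, cQ, u, q, hu, hq, w, hk, f1, f2, f3, -, hsm, hqc, -, -, -, -, hex⟩ := FieldSeq.exists_seq G
  have hQc : QuasiCompact Q.hom := hqc inferInstance
  have hQs : IsSeparated Q.hom := K396.Basic.isSeparated_hom Q
  have hQt : LocallyOfFiniteType Q.hom := inferInstance
  refine Les.isAddTorsion_mid _ hex (fun y => ?_) (fun y => ?_) x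
  · obtain ⟨n, hn, h⟩ := exists_pow_eq_one k I
    exact isOfFinAddOrder_iff_nsmul_eq_zero.2 ⟨n, hn, Les.nsmul_eq_zero _ (Comp.nsmul_id_pts _ I n h) i y⟩
  · obtain ⟨e⟩ := Comp.nonempty_H_pts Q (FieldSeq.af Q) i
    have h1 := Groth.Agent.S7743.result k _ i hi (e.symm y)
    have h2 := e.toAddMonoidHom.isOfFinAddOrder h1
    have h3 : e.toAddMonoidHom (e.symm y) = y := e.apply_symm_apply y
    rwa [h3] at h2

end K809.TorsTwo
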