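import Groth.Agent.TateLoc.K809.CaSmooth
import Groth.Agent.Etrest.FppfMain3

/-!
# Vanishing of the higher direct images (fppf to étale) of smooth commutative group schemes
-/

set_option autoImplicit false

universe u

open CategoryTheory CategoryTheory.Limits AlgebraicGeometry Opposite
open Groth.Agent.Etrest.FppfMain K809.AffNhd

namespace K809.SmoothVan

variable {X : Scheme.{u}}

/-- Étale-locally Čech acyclic sheaves have no higher direct images on the small étale site. -/
theorem isZero_RresEt_of_CA {F : BigSite.Ab Scheme.fppfPrecoverage X} (hF : CA F.obj) (q : ℕ) (hq : 0 < q) :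
    IsZero ((BigSite.RresEt Scheme.fppfPrecoverage X q).obj F) :=
  isZero_rightDerived_of_CA (EtFppf.aPush X) (fun α h => epi_aPush α h) (G := F) hF q hq

/-- Schemes affine over the base. -/
theorem af_of_isAffineHom (G : Over X) [IsAffineHom G.hom] : AF G := by
  intro x F _ hF
  obtain ⟨X₀, hX₀, hx₀, -⟩ := exists_isAffineOpen_mem_and_subset (X := X) (x := x) (U := ⊤) trivial
  refine ⟨G.hom ⁻¹ᵁ X₀, hX₀.preimage G.hom, fun y hy => ?_, X₀, hX₀, le_rfl⟩
  change G.hom y ∈ X₀
  rw [hF y hy]
  exact hx₀

/-- `R^q π_* G = 0` for `q > 0` and `G` smooth and affine over the base. -/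
theorem isZero_RresEt_pts (G : Over X) [GrpObj G] [IsCommMonObj G] [Smooth G.hom] [IsSeparated G.hom] (hG : AF G)
    (q : ℕ) (hq : 0 < q) :
    IsZero ((BigSite.RresEt Scheme.fppfPrecoverage X q).obj (CGrpSh.pts Scheme.fppfPrecoverage G)) :=
  isZero_RresEt_of_CA (F := CGrpSh.pts Scheme.fppfPrecoverage G) (CaSmooth.ca_ptsPre G hG) q hq

end K809.SmoothVan
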