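import Groth.Agent.BigSite.K299.EtRes
import Groth.Agent.TateLoc.K809.SmoothVan
import Groth.Agent.TateLoc.K809.Les
import Groth.Agent.GrpSch.K267.DeligneSch

/-!
# Comparison of big cohomology with étale cohomology of the restriction when the higher direct images vanish
-/

set_option autoImplicit false
universe u

open CategoryTheory CategoryTheory.Limits AlgebraicGeometry Opposite MonoidalCategory CartesianMonoidalCategory MonObj

namespace K809.Comp

open Groth.Agent.Etrest

variable {S : Scheme.{u}}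

/-- `H^p(S_et, F|) ≃ H^p(big, F)` when `R^q π_* F = 0` for `q > 0`. -/
theorem nonempty_H (K : Precoverage Scheme.{u}) [BigSite.AEtCont K S] (F : BigSite.Ab K S)
    (hF : ∀ q : ℕ, 0 < q → IsZero ((BigSite.RresEt K S q).obj F)) (p : ℕ) :
    Nonempty (EtCoh.H S ((BigSite.resEt K S).obj F) p ≃+ BigSite.H K S F p) := by
  obtain ⟨e1⟩ := RAcyc.nonempty_extAddEquiv (BigSite.piEtAdj K S) (fun I _ => K299.EtRes.injective_resEt S K I)
    (G := F) hF ((constantSheaf S.smallEtaleTopology AddCommGrpCat.{u + 1}).obj (AddCommGrpCat.of (ULift ℤ))) p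
  exact ⟨e1.trans (K299.EtRes.extEquivOfIso (K299.EtRes.constIso S K (AddCommGrpCat.of (ULift ℤ))) F p)⟩

/-- Cohomology of smooth separated commutative `AF` groups. -/
theorem nonempty_H_pts (G : Over S) [GrpObj G] [IsCommMonObj G] [Smooth G.hom] [IsSeparated G.hom] (hG : AffNhd.AF G)
    (p : ℕ) :
    Nonempty (EtCoh.H S ((BigSite.resEt Scheme.fppfPrecoverage S).obj (CGrpSh.pts Scheme.fppfPrecoverage G)) p ≃+
      BigSite.H Scheme.fppfPrecoverage S (CGrpSh.pts Scheme.fppfPrecoverage G) p) :=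
  nonempty_H Scheme.fppfPrecoverage _ (SmoothVan.isZero_RresEt_pts G hG) p

/-- A group killed by `n` has cohomology killed by `n`. -/
theorem nsmul_id_pts (K : Precoverage Scheme.{u}) [(QuotSh.J K S).Subcanonical] (G : Over S) [GrpObj G]
    [IsCommMonObj G] (n : ℕ) (h : (𝟙 G) ^ n = 1) : n • 𝟙 (CGrpSh.pts K G) = 0 := by
  have key : ∀ m : ℕ, ∀ (T : (Over S)ᵒᵖ) (x : (CGrpSh.pts K G).obj.obj T),
      (m • 𝟙 (CGrpSh.pts K G) : CGrpSh.pts K G ⟶ CGrpSh.pts K G).hom.app T x =
        ULift.up (Additive.ofMul ((x.down.toMul : unop T ⟶ G) ≫ (𝟙 G) ^ m)) := by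
    intro m T x
    induction m with
    | zero =>
      rw [zero_smul, pow_zero, MonObj.comp_one]
      rfl
    | succ m ih =>
      rw [succ_nsmul, pow_succ, MonObj.comp_mul, Category.comp_id]
      have h1 : (m • 𝟙 (CGrpSh.pts K G) + 𝟙 (CGrpSh.pts K G) : CGrpSh.pts K G ⟶ CGrpSh.pts K G).hom.app T x =
          (m • 𝟙 (CGrpSh.pts K G) : CGrpSh.pts K G ⟶ CGrpSh.pts K G).hom.app T x + x := rfl
      rw [h1, ih]
      rfl
  apply Sheaf.hom_ext
  apply NatTrans.ext
  funext T
  ext x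
  rw [key n T x, h, MonObj.comp_one]
  rfl

end K809.Comp
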