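import Groth.Agent.Etbase.EtSite
import Groth.Prelude.Def_CGrpSh
import Groth.Agent.TateLoc.K809.Comp

/-!
# Epimorphisms of étale restrictions of sheaves of points
-/

set_option autoImplicit false
universe u

open CategoryTheory CategoryTheory.Limits AlgebraicGeometry Opposite MonoidalCategory CartesianMonoidalCategory MonObj

namespace K809.EpiRes

open Groth.Agent

theorem epi_of_loc {X : Scheme.{u}} {F G : EtCoh.Ab X} (f : F ⟶ G) (h : ∀ (V : X.Etale) (s : EtCoh.sect G V) (x : V.left),
    ∃ (V' : X.Etale) (a : V' ⟶ V) (v : V'.left) (t : EtCoh.sect F V'), a.left v = x ∧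
      f.hom.app (op V') t = G.obj.map a.op s) : Epi f := by
  have h1 : Presheaf.IsLocallySurjective X.smallEtaleTopology f.hom := by
    refine ⟨fun {U} t => ?_⟩
    rw [Etbase.EtSite.mem_iff]
    intro x
    obtain ⟨V, a, v, s, hv, ha⟩ := h U t x
    exact ⟨V, a, v, ⟨s, ha⟩, hv⟩
  have : Sheaf.IsLocallySurjective f := h1
  infer_instance

variable {S : Scheme.{u}} (K : Precoverage Scheme.{u}) [BigSite.AEtCont K S] [(QuotSh.J K S).Subcanonical]

/-- An étale surjective homomorphism induces an epimorphism of étale sheaves. -/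
theorem epi_resEt_ptsMap {G H : Over S} [GrpObj G] [IsCommMonObj G] [GrpObj H] [IsCommMonObj H] (f : G ⟶ H) [IsMonHom f]
    [Etale f.left] [Surjective f.left] :
    Epi ((BigSite.resEt K S).map (CGrpSh.ptsMap K f)) := by
  apply epi_of_loc
  intro V s x
  let s' : (EtFppf.a S).obj V ⟶ H := s.down.toMul
  let s'' : V.left ⟶ H.left := s'.left
  obtain ⟨y, hy⟩ := ‹Surjective f.left›.surj (s'' x)
  obtain ⟨v, hv1, hv2⟩ := Scheme.Pullback.exists_preimage_pullback (f := s'') (g := f.left) x y hy.symm
  have e1 : Etale (pullback.fst s'' f.left ≫ V.hom) := inferInstance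
  let V' : S.Etale := Scheme.Etale.mk (pullback.fst s'' f.left ≫ V.hom)
  let a : V' ⟶ V := MorphismProperty.Over.homMk (A := V') (B := V) (pullback.fst s'' f.left) rfl trivial
  let t' : (EtFppf.a S).obj V' ⟶ G := Over.homMk (pullback.snd s'' f.left) (by
    change pullback.snd s'' f.left ≫ G.hom = pullback.fst s'' f.left ≫ V.hom
    have e2 : s'' ≫ H.hom = V.hom := Over.w s'
    rw [← e2, ← Over.w f, pullback.condition_assoc])
  refine ⟨V', a, v, ULift.up (Additive.ofMul t'), hv1, ?_⟩
  apply ULift.ext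
  change Additive.ofMul (t' ≫ f) = Additive.ofMul ((EtFppf.a S).map a ≫ s')
  congr 1
  apply Over.OverMorphism.ext
  exact pullback.condition.symm

end K809.EpiRes
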