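import Groth.Agent.TateLoc.K809.InfVan
import Groth.Agent.TateLoc.K809.EpiRes
import Groth.Agent.TateLoc.K809.NeutralN
import Groth.Agent.S7734
import Groth.Agent.CGrpSh.K731.Basic

/-!
# Vanishing of `H^i(k, G)` for `i > 2` over a field of cohomological dimension at most two
-/

set_option autoImplicit false
universe u

open CategoryTheory CategoryTheory.Limits AlgebraicGeometry Opposite MonoidalCategory CartesianMonoidalCategory MonObj

namespace K809.CoreTwo

theorem subsingleton_of_torsion {A : Type*} [AddCommGroup A] (h1 : ∀ x : A, IsOfFinAddOrder x)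
    (h2 : ∀ ℓ : ℕ, ℓ.Prime → ∀ x : A, ℓ • x = 0 → x = 0) : Subsingleton A := by
  refine subsingleton_of_forall_eq 0 fun x => ?_
  obtain ⟨n, hn, h⟩ := isOfFinAddOrder_iff_nsmul_eq_zero.1 (h1 x)
  induction n using Nat.strong_induction_on generalizing x with
  | _ n ih =>
    rcases eq_or_ne n 1 with rfl | hne
    · simpa using h
    · obtain ⟨ℓ, hℓ, m, rfl⟩ := Nat.exists_prime_and_dvd hne
      have hm : 0 < m := Nat.pos_of_mul_pos_left hn
      refine ih m ?_ x hm ?_
      · exact lt_mul_of_one_lt_left hm hℓ.one_lt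
      · apply h2 ℓ hℓ
        rw [← mul_nsmul', mul_comm]
        rwa [mul_comm]

section

variable {S : Scheme.{u}} (K : Precoverage Scheme.{u}) [(QuotSh.J K S).Subcanonical]

/-- The power map induces multiplication. -/
theorem ptsMap_pow (G : Over S) [GrpObj G] [IsCommMonObj G] (m : ℕ) [IsMonHom ((𝟙 G) ^ m)] :
    CGrpSh.ptsMap K ((𝟙 G) ^ m) = m • 𝟙 (CGrpSh.pts K G) := by
  have key : ∀ m : ℕ, ∀ (T : (Over S)ᵒᵖ) (x : (CGrpSh.pts K G).obj.obj T),
      (m • 𝟙 (CGrpSh.pts K G) : CGrpSh.pts K G ⟶ CGrpSh.pts K G).hom.app T x =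
        ULift.up (Additive.ofMul ((x.down.toMul : unop T ⟶ G) ≫ (𝟙 G) ^ m)) := by
    intro m T x
    induction m with
    | zero =>
      rw [zero_smul, pow_zero, MonObj.comp_one]
      rfl
    | succ m ih =>
      rw [succ_nsmul, pow_succ, MonObj.comp_mul, Category.comp_id]
      have h1 : (m • 𝟙 (CGrpSh.pts K G) + 𝟙 (CGrpSh.pts K G) : CGrpSh.pts K G ⟶ CGrpSh.pts K G).hom.app T x =
          (m • 𝟙 (CGrpSh.pts K G) : CGrpSh.pts K G ⟶ CGrpSh.pts K G).hom.app T x + x := rfl
      rw [h1, ih]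
      rfl
  apply Sheaf.hom_ext
  apply NatTrans.ext
  funext T
  ext x
  rw [key m T x]
  rfl

theorem ptsMap_comp' {G H L : Over S} [GrpObj G] [IsCommMonObj G] [GrpObj H] [IsCommMonObj H] [GrpObj L]
    [IsCommMonObj L] (f : G ⟶ H) (g : H ⟶ L) [IsMonHom f] [IsMonHom g] (h : G ⟶ L) [IsMonHom h] (e : f ≫ g = h) :
    CGrpSh.ptsMap K f ≫ CGrpSh.ptsMap K g = CGrpSh.ptsMap K h := by
  subst e
  apply Sheaf.hom_ext
  apply NatTrans.ext
  funext T
  ext x
  apply ULift.ext
  change Additive.ofMul (((x.down.toMul : unop T ⟶ G) ≫ f) ≫ g) = Additive.ofMul ((x.down.toMul : unop T ⟶ G) ≫ f ≫ g)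
  rw [Category.assoc]

theorem mono_ptsMap {G H : Over S} [GrpObj G] [IsCommMonObj G] [GrpObj H] [IsCommMonObj H] (f : G ⟶ H) [IsMonHom f]
    [Mono f] : Mono (CGrpSh.ptsMap K f) := by
  apply K731.Basic.mono_of_injective
  intro T x y hxy
  apply ULift.ext
  have := congrArg ULift.down hxy
  exact (cancel_mono f).1 this

end

variable (k : Type u) [Field k]

/-- restriction to the small étale site -/
noncomputable abbrev E (G : Over (Spec (CommRingCat.of k))) [GrpObj G] [IsCommMonObj G] :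
    EtCoh.Ab (Spec (CommRingCat.of k)) :=
  (BigSite.resEt Scheme.fppfPrecoverage (Spec (CommRingCat.of k))).obj (CGrpSh.pts Scheme.fppfPrecoverage G)

/-- `ℓ` invertible: the connected smooth case. -/
theorem epi_nsmul (G : Over (Spec (CommRingCat.of k))) [GrpObj G] [IsCommMonObj G] [LocallyOfFiniteType G.hom]
    [ConnectedSpace G.left] (m : ℕ) (hm : (m : k) ≠ 0) : Epi (m • 𝟙 (E k G)) := by
  have h1 := NeutralN.etale_pow G m hm
  have h2 := NeutralN.surjective_pow G m hm
  have h3 := NeutralN.isMonHom_pow G m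
  have h4 := EpiRes.epi_resEt_ptsMap Scheme.fppfPrecoverage ((𝟙 G) ^ m)
  rw [ptsMap_pow, Functor.map_nsmul, CategoryTheory.Functor.map_id] at h4
  exact h4

/-- No `m`-torsion when `m` is an epimorphism and torsion sheaves have no cohomology. -/
theorem eq_zero_of_epi {X : Scheme.{u}} (F : EtCoh.Ab X) (m : ℕ) (hm : 0 < m) [Epi (m • 𝟙 F)] (i : ℕ)
    (h : ∀ T : EtCoh.Ab X, EtCoh.IsTorsion T → Subsingleton (EtCoh.H X T i)) (x : EtCoh.H X F i) (hx : m • x = 0) :
    x = 0 := by
  let S : ShortComplex (EtCoh.Ab X) := ShortComplex.mk (kernel.ι (m • 𝟙 F)) (m • 𝟙 F) (kernel.condition _)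
  have hS : S.ShortExact := ShortComplex.ShortExact.mk' (ShortComplex.exact_kernel _) inferInstance ‹_›
  have hK : m • 𝟙 (kernel (m • 𝟙 F)) = 0 := by
    rw [← cancel_mono (kernel.ι (m • 𝟙 F)), zero_comp, Preadditive.nsmul_comp, Category.id_comp]
    have := kernel.condition (m • 𝟙 F)
    rwa [Preadditive.comp_nsmul, Category.comp_id] at this
  have h1 : Subsingleton (EtCoh.H X S.X₁ i) := h _ (InfVan.isTorsion_of_nsmul hm hK)
  obtain ⟨y, rfl⟩ := (Les.exact₂ _ hS i x).1 (by
    change Les.mp _ (m • 𝟙 F) i x = 0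
    rw [Les.mp_nsmul_id, hx])
  rw [Subsingleton.elim y 0, map_zero]

theorem conn_case (hcd : EtCoh.CohDimLE (Spec (CommRingCat.of k)) 2) (G : Over (Spec (CommRingCat.of k))) [GrpObj G]
    [IsCommMonObj G] [LocallyOfFiniteType G.hom] [ConnectedSpace G.left] (i : ℕ) (hi : 2 < i) :
    Subsingleton (EtCoh.H (Spec (CommRingCat.of k)) (E k G) i) := by
  refine subsingleton_of_torsion (fun x => Groth.Agent.S7743.result k _ i (by omega) x) fun ℓ hℓ x hx => ?_
  by_cases h : (ℓ : k) = 0
  · have : Fact ℓ.Prime := ⟨hℓ⟩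
    have : CharP k ℓ := (CharP.charP_iff_prime_eq_zero hℓ).2 h
    exact Groth.Agent.S7734.result k ℓ 1 (fun F hF q hq x hx => Groth.Agent.S7733.result k ℓ F hF q (by omega) x hx)
      _ i (by omega) x ⟨1, by rwa [pow_one]⟩
  · have := epi_nsmul k G ℓ h
    exact eq_zero_of_epi _ ℓ hℓ.pos i (fun T hT => hcd T hT i hi) x hx

theorem smooth_case (hcd : EtCoh.CohDimLE (Spec (CommRingCat.of k)) 2) (G : Over (Spec (CommRingCat.of k))) [GrpObj G]
    [IsCommMonObj G] [Smooth G.hom] [QuasiCompact G.hom] (i : ℕ) (hi : 2 < i) :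
    Subsingleton (BigSite.H Scheme.fppfPrecoverage (Spec (CommRingCat.of k)) (CGrpSh.pts Scheme.fppfPrecoverage G) i) := by
  have hft : LocallyOfFiniteType G.hom := inferInstance
  have hsep : IsSeparated G.hom := K396.Basic.isSeparated_hom G
  obtain ⟨e⟩ := Comp.nonempty_H_pts G (FieldSeq.af G) i
  suffices h : Subsingleton (EtCoh.H (Spec (CommRingCat.of k)) (E k G) i) from e.symm.toEquiv.subsingleton
  obtain ⟨G0, g0, c0, j, hj, N, ψ, hN, h1, h2, h3, h4, h5⟩ := NeutralN.exists_data G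
  have hft0 : LocallyOfFiniteType G0.hom := by
    have : LocallyOfFiniteType (j.left ≫ G.hom) := inferInstance
    rwa [Over.w] at this
  have hmj : Mono j := Over.mono_of_mono_left _
  let f : E k G0 ⟶ E k G := (BigSite.resEt Scheme.fppfPrecoverage (Spec (CommRingCat.of k))).map
    (CGrpSh.ptsMap Scheme.fppfPrecoverage j)
  have hf : Mono f := by
    have := mono_ptsMap Scheme.fppfPrecoverage j
    infer_instance
  have hψ : IsMonHom ψ := by
    have hm := NeutralN.isMonHom_pow G N
    constructor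
    · rw [← cancel_mono j, Category.assoc, h5, IsMonHom.one_hom, IsMonHom.one_hom]
    · rw [← cancel_mono j, Category.assoc, Category.assoc, h5, IsMonHom.mul_hom, IsMonHom.mul_hom,
        tensorHom_comp_tensorHom_assoc, h5]
  let g : E k G ⟶ E k G0 := (BigSite.resEt Scheme.fppfPrecoverage (Spec (CommRingCat.of k))).map
    (CGrpSh.ptsMap Scheme.fppfPrecoverage ψ)
  have hgf : g ≫ f = N • 𝟙 (E k G) := by
    have hm := NeutralN.isMonHom_pow G N
    rw [← Functor.map_comp, ptsMap_comp' Scheme.fppfPrecoverage ψ j _ h5, ptsMap_pow, Functor.map_nsmul,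
      CategoryTheory.Functor.map_id]
  let S : ShortComplex (EtCoh.Ab (Spec (CommRingCat.of k))) := ShortComplex.mk f (cokernel.π f) (cokernel.condition f)
  have hS : S.ShortExact := ShortComplex.ShortExact.mk' (ShortComplex.exact_cokernel _) ‹_› inferInstance
  have hC : N • 𝟙 (cokernel f) = 0 := by
    rw [← cancel_epi (cokernel.π f), comp_zero, Preadditive.comp_nsmul, Category.comp_id]
    have : (N • 𝟙 (E k G)) ≫ cokernel.π f = 0 := by rw [← hgf, Category.assoc, cokernel.condition, comp_zero]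
    rwa [Preadditive.nsmul_comp, Category.id_comp] at this
  exact Les.subsingleton_mid _ hS (conn_case k hcd G0 i hi) (hcd _ (InfVan.isTorsion_of_nsmul hN hC) i hi)

/-- Vanishing above degree two over a field of cohomological dimension at most two. -/
theorem main (hcd : EtCoh.CohDimLE (Spec (CommRingCat.of k)) 2) (G : Over (Spec (CommRingCat.of k))) [GrpObj G]
    [IsCommMonObj G] [LocallyOfFiniteType G.hom] [QuasiCompact G.hom] (i : ℕ) (hi : 2 < i) :
    Subsingleton (BigSite.H Scheme.fppfPrecoverage (Spec (CommRingCat.of k)) (CGrpSh.pts Scheme.fppfPrecoverage G) i) := by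
  obtain ⟨p, hp⟩ := CharP.exists k
  rcases CharP.char_is_prime_or_zero k p with h | h
  · have : Fact p.Prime := ⟨h⟩
    obtain ⟨I, Q, gI, cI, gQ, cQ, u, q, hu, hq, w, hk, f1, f2, f3, f4, hsm, hqc, -, -, -, -, hex⟩ :=
      FieldSeq.exists_seq G
    have hQc : QuasiCompact Q.hom := hqc inferInstance
    exact Les.subsingleton_mid _ hex (InfVan.subsingleton_H k p I i hi) (smooth_case k hcd Q i hi)
  · subst h
    have : CharZero k := CharP.charP_to_charZero k
    have hG : Smooth G.hom := Groth.Agent.S0353.result k G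
    exact smooth_case k hcd G i hi

end K809.CoreTwo
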