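import Groth.Agent.BigSite.K299.BC
import Groth.Agent.Sga4h.LocCohLocal

/-!
# The higher direct images from the big fppf site to the small étale site are étale-local
-/

set_option autoImplicit false

universe u

open CategoryTheory CategoryTheory.Limits AlgebraicGeometry Opposite

noncomputable section

namespace K809.Local

variable {S V : Scheme.{u}} (h : V ⟶ S)

/-- The two functors `V_et ⥤ Over S` agree. -/
def siteIso [Etale h] : EtShriek.compEtale h ⋙ EtFppf.a S ≅ EtFppf.a V ⋙ Over.map h :=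
  NatIso.ofComponents (fun W => Iso.refl _) (fun f => by
    simp only [Iso.refl_hom, Category.comp_id, Category.id_comp]
    rfl)

variable (K : Precoverage Scheme.{u}) [BigSite.AEtCont K S] [BigSite.AEtCont K V]

/-- `(π_{S*} F)|_V = π_{V*} (F|_V)`. -/
def resIso [Etale h] [EtShriek.JCont h] :
    BigSite.resEt K S ⋙ EtShriek.restrAlong h ≅ BigSite.pullBig K h AddCommGrpCat.{u + 1} ⋙ BigSite.resEt K V :=
  letI : (EtFppf.a V ⋙ Over.map h).IsContinuous V.smallEtaleTopology (QuotSh.J K S) :=
    Functor.isContinuous_comp _ _ _ (QuotSh.J K V) _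
  letI : (EtShriek.compEtale h ⋙ EtFppf.a S).IsContinuous V.smallEtaleTopology (QuotSh.J K S) :=
    Functor.isContinuous_comp _ _ _ S.smallEtaleTopology _
  Functor.sheafPushforwardContinuousComp' (F := EtShriek.compEtale h) (G := EtFppf.a S)
      (FG := EtFppf.a V ⋙ Over.map h) (siteIso h) AddCommGrpCat.{u + 1} V.smallEtaleTopology S.smallEtaleTopology
      (QuotSh.J K S) ≪≫
    (Functor.sheafPushforwardContinuousComp' (F := EtFppf.a V) (G := Over.map h)
      (FG := EtFppf.a V ⋙ Over.map h) (Iso.refl _) AddCommGrpCat.{u + 1} V.smallEtaleTopology (QuotSh.J K V)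
      (QuotSh.J K S)).symm

/-- `(R^q π_{S*} F)|_V = R^q π_{V*} (F|_V)`. -/
def RresIso [Etale h] [EtShriek.JCont h] (F : BigSite.Ab K S) (q : ℕ) :
    (EtShriek.restrAlong h).obj ((BigSite.RresEt K S q).obj F) ≅
      (BigSite.RresEt K V q).obj ((BigSite.pullBig K h AddCommGrpCat.{u + 1}).obj F) :=
  K299.DerComm.derIso (BigSite.resEt K S) (EtShriek.restrAlong h) (BigSite.pullBig K h AddCommGrpCat.{u + 1})
    (BigSite.resEt K V) (resIso h K) (fun I _ => K299.PullInj.injective_pullBig K h I) F q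

/-- Vanishing of `R^q π_*` is étale-local. -/
theorem isZero_RresEt_of_local (K : Precoverage Scheme.{u}) [∀ S, BigSite.AEtCont K S] (F : BigSite.Ab K S) (q : ℕ)
    (H : ∀ x : S, ∃ (V : Scheme.{u}) (h : V ⟶ S) (_ : Etale h) (v : V), h v = x ∧
      IsZero ((BigSite.RresEt K V q).obj ((BigSite.pullBig K h AddCommGrpCat.{u + 1}).obj F))) :
    IsZero ((BigSite.RresEt K S q).obj F) := by
  refine Groth.Agent.Sga4h.LocCohLocal.isZero_of_local _ fun x => ?_
  obtain ⟨V, h, hh, v, hv, hz⟩ := H x
  have := Groth.Agent.Sga4h.EtaleRes.jCont h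
  exact ⟨V, h, hh, this, v, hv, hz.of_iso (RresIso h K F q)⟩

end K809.Local
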