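import Groth.Agent.TateLoc.K809.UnitSch
import Groth.Agent.TateLoc.K809.QuotFin
import Groth.Agent.TateLoc.K809.SeqExact
import Groth.Agent.TateLoc.K809.SmoothVan
import Groth.Agent.TateLoc.K809.PtsPull
import Groth.Agent.TateLoc.K809.Local
import Groth.Agent.Cohder.RDAcyc
import Groth.Agent.S0115

/-!
# Vanishing of the higher direct images (fppf to étale) of finite locally free commutative group schemes in degrees `> 1`
-/

set_option autoImplicit false
universe u

open CategoryTheory CategoryTheory.Limits MonoidalCategory CartesianMonoidalCategory MonObj AlgebraicGeometry Opposite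

namespace K809.FinVan

/-- The affine case. -/
theorem isZero_spec (R : CommRingCat.{u}) (I : Over (Spec R)) [GrpObj I] [IsCommMonObj I] [IsFinite I.hom]
    [Flat I.hom] [LocallyOfFinitePresentation I.hom] (i : ℕ) (hi : 1 < i) :
    IsZero ((BigSite.RresEt Scheme.fppfPrecoverage (Spec R) i).obj (CGrpSh.pts Scheme.fppfPrecoverage I)) := by
  obtain ⟨A, gA, cA, v, hv, hm, hs, ha⟩ := UnitSch.exists_emb R I
  have hA : IsAffineHom A.hom := inferInstance
  obtain ⟨M, gM, cM, q, hq, hfin, hsur, haM, hk, -⟩ :=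
    QuotFin.exists_quot (I := I) (G := A) v ⟨‹_›, ‹_›, ‹_›⟩ hA
  have hM : IsAffine M.left := haM ha
  obtain ⟨q1, q2, q3⟩ := hfin
  have hM' : IsAffineHom M.hom := inferInstance
  have hsm : Smooth M.hom := by
    have : Smooth (q.left ≫ M.hom) := by rw [Over.w]; exact hs
    exact Groth.Agent.S0115.result q.left M.hom
  have w : v ≫ q = 1 := by
    have := hk.w
    rw [this]
    rfl
  have hex := SeqExact.shortExact v q w hk
  obtain ⟨j, rfl⟩ : ∃ j, i = j + 1 := ⟨i - 1, by omega⟩
  refine Groth.Agent.Cohder.RDAcyc.isZero_X₁ (BigSite.resEt Scheme.fppfPrecoverage (Spec R)) hex j ?_ ?_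
  · exact SmoothVan.isZero_RresEt_pts M (SmoothVan.af_of_isAffineHom M) j (by omega)
  · exact SmoothVan.isZero_RresEt_pts A (SmoothVan.af_of_isAffineHom A) (j + 1) (by omega)

/-- The general case. -/
theorem isZero (S : Scheme.{u}) (I : Over S) [GrpObj I] [IsCommMonObj I] [IsFinite I.hom] [Flat I.hom]
    [LocallyOfFinitePresentation I.hom] (i : ℕ) (hi : 1 < i) :
    IsZero ((BigSite.RresEt Scheme.fppfPrecoverage S i).obj (CGrpSh.pts Scheme.fppfPrecoverage I)) := by
  apply Local.isZero_RresEt_of_local
  intro x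
  let f := S.affineOpenCover.f (S.affineOpenCover.idx x)
  obtain ⟨v, hv⟩ := S.affineOpenCover.covers x
  refine ⟨_, f, inferInstance, v, hv, ?_⟩
  have h1 : IsFinite (Red.bc f I).hom := inferInstanceAs (IsFinite (pullback.snd I.hom f))
  have h2 : Flat (Red.bc f I).hom := inferInstanceAs (Flat (pullback.snd I.hom f))
  have h3 : LocallyOfFinitePresentation (Red.bc f I).hom :=
    inferInstanceAs (LocallyOfFinitePresentation (pullback.snd I.hom f))
  exact (isZero_spec _ (Red.bc f I) i hi).of_iso
    ((BigSite.RresEt Scheme.fppfPrecoverage _ i).mapIso (PtsPull.ptsPull Scheme.fppfPrecoverage f I))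

end K809.FinVan
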