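import Groth.Agent.TateLoc.K809.ModelP
import Groth.Agent.TateGlob.K829.FunBase

/-!
# `H^n(A_K, 𝒢) → ∏_v H^n(K_v, 𝒢)` from one good model at one stage (helper809)

`main`: if some model over some `O_{S₁}` of the generic fibre of `𝒢` has `H^n(∏ O_v) ≅ ∏ H^n(O_v)` and
`H^n(O_v, 𝒢) → H^n(K_v, 𝒢)` is injective for almost all `v`, then `H^n(A_K, 𝒢)` is the restricted product.
-/

set_option autoImplicit false
set_option backward.isDefEq.respectTransparency.types false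

universe u

open CategoryTheory CategoryTheory.Limits AlgebraicGeometry Opposite
open K828 K828.BigCoh K963.AdLev K963.Asm K963.Trans K963.BcCoh K620.GMod K620.Sys
open FunFld AdFn

namespace K809.LocOne

theorem main (Fq : Type u) [Field Fq] [Finite Fq] (K : Type u) [Field K] [Algebra (RatFunc Fq) K]
    [FunctionField Fq K] [Algebra Fq K] [IsScalarTower Fq (RatFunc Fq) K] [AdFn.HasFinitePoles Fq K]
    (S : Set (FunFld.Place Fq K)) (hS : S.Finite) (hne : S.Nonempty)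
    (𝒢 : Over (Spec (CommRingCat.of (AdFn.SInt S)))) [GrpObj 𝒢] [IsCommMonObj 𝒢]
    [Flat 𝒢.hom] [IsSeparated 𝒢.hom] [LocallyOfFiniteType 𝒢.hom] [QuasiCompact 𝒢.hom]
    (S₁ : Set (FunFld.Place Fq K)) (hS₁ : S₁.Finite) (hne₁ : S₁.Nonempty)
    (𝒢₁ : Over (Spec (CommRingCat.of (AdFn.SInt S₁)))) [GrpObj 𝒢₁] [IsCommMonObj 𝒢₁]
    [Flat 𝒢₁.hom] [IsSeparated 𝒢₁.hom] [LocallyOfFiniteType 𝒢₁.hom] [QuasiCompact 𝒢₁.hom]
    (m : AdFn.ModelIso Scheme.fppfPrecoverage S₁ 𝒢₁ (ModelP.gen S 𝒢)) (n : ℕ)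
    (hb : Function.Bijective (fun (x : AdFn.HOHat Scheme.fppfPrecoverage S₁
        (CGrpSh.pts Scheme.fppfPrecoverage 𝒢₁) n) (v : {v : FunFld.Place Fq K // v ∉ S₁}) =>
      AdFn.ohatRes Scheme.fppfPrecoverage S₁ (CGrpSh.pts Scheme.fppfPrecoverage 𝒢₁) n v.2 x))
    (hi : ∀ᶠ v in Filter.cofinite, ∀ hv : v ∉ S, Function.Injective
      (AdFn.intRes Scheme.fppfPrecoverage S (CGrpSh.pts Scheme.fppfPrecoverage 𝒢) n hv)) :
    Function.Injective (AdFn.locProdS Scheme.fppfPrecoverage S (CGrpSh.pts Scheme.fppfPrecoverage 𝒢) n) ∧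
      Set.range (AdFn.locProdS Scheme.fppfPrecoverage S (CGrpSh.pts Scheme.fppfPrecoverage 𝒢) n) =
        Set.range (fun y : AdFn.LocRP Scheme.fppfPrecoverage S (CGrpSh.pts Scheme.fppfPrecoverage 𝒢) n =>
          (⇑y : (v : FunFld.Place Fq K) →
            AdFn.HLocS Scheme.fppfPrecoverage S (CGrpSh.pts Scheme.fppfPrecoverage 𝒢) n v)) := by
  have ht := K829.FunBase.isGen Fq K
  have hD := (K829.SIntBase.isDedekind ht hS hne).1
  have hN : IsNoetherianRing (AdFn.SInt S) := inferInstance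
  have hfp : LocallyOfFinitePresentation 𝒢.hom :=
    LocallyOfFinitePresentation.iff_locallyOfFiniteType.2 inferInstance
  have hD₁ := (K829.SIntBase.isDedekind ht hS₁ hne₁).1
  have hN₁ : IsNoetherianRing (AdFn.SInt S₁) := inferInstance
  have hfp₁ : LocallyOfFinitePresentation 𝒢₁.hom :=
    LocallyOfFinitePresentation.iff_locallyOfFiniteType.2 inferInstance
  have hP : FinPoles Fq K := K620.Sys.finPoles Fq K
  obtain ⟨T, hT, h, h₁, ⟨α⟩⟩ := ModelP.exists_stage hS hne hS₁ hne₁ (ModelP.selfMdl 𝒢) (ModelP.mdlOfIso 𝒢₁ m)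
  obtain ⟨b1, b2⟩ := ModelP.pInj_of_bijective hb
  have c1 : OInj (bigCoh Scheme.fppfPrecoverage _) (CGrpSh.pts Scheme.fppfPrecoverage 𝒢) n T :=
    ModelP.oInj h h₁ α b1
  have c2 : OSurj (bigCoh Scheme.fppfPrecoverage _) (CGrpSh.pts Scheme.fppfPrecoverage 𝒢) n T :=
    ModelP.oSurj h h₁ α b2
  let E : Set (FunFld.Place Fq K) := {v | ¬ ∀ hv : v ∉ S, Function.Injective
      (AdFn.intRes Scheme.fppfPrecoverage S (CGrpSh.pts Scheme.fppfPrecoverage 𝒢) n hv)}
  have hE : E.Finite := hi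
  refine K963.AsmBig.injective_and_range hS (hT.union hE) (K828.LpPts.lp_pts 𝒢 Scheme.fppfPrecoverage)
    ?_ ?_ ?_
  · intro U hU hSU hTU x hx
    exact c1 U hU hSU (Set.subset_union_left.trans hTU) x hx
  · intro v hv hvT x hx
    have hv' : v ∉ E := fun h' => hvT (Or.inr h')
    have hi' : ∀ hv : v ∉ S, Function.Injective
      (AdFn.intRes Scheme.fppfPrecoverage S (CGrpSh.pts Scheme.fppfPrecoverage 𝒢) n hv) := by
      by_contra hcon
      exact hv' hcon
    refine hi' hv ?_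
    exact Eq.trans hx (map_zero (AdFn.intRes Scheme.fppfPrecoverage S (CGrpSh.pts Scheme.fppfPrecoverage 𝒢) n hv)).symm
  · intro U hU hSU hTU y
    exact c2 U hU hSU (Set.subset_union_left.trans hTU) y

end K809.LocOne
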