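import Groth.Agent.TateLoc.K809.TwoRow
import Groth.Agent.BigSite.K299.EtRes

/-!
# Vanishing of big cohomology when `R^q π_* F = 0` for `q ≥ 2`
-/

set_option autoImplicit false
universe u

open CategoryTheory CategoryTheory.Limits AlgebraicGeometry Opposite

namespace K809.TwoRowH

variable {S : Scheme.{u}}

/-- `H^(n+1)(F) = 0` as soon as `H^(n+1)_et(π_* F) = 0` and `H^n_et(R^1 π_* F) = 0` (`n ≥ 1`, `R^q π_* F = 0` for `q ≥ 2`). -/
theorem subsingleton (K : Precoverage Scheme.{u}) [BigSite.AEtCont K S] (F : BigSite.Ab K S)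
    (hF : ∀ q : ℕ, 1 < q → IsZero ((BigSite.RresEt K S q).obj F)) (n : ℕ) (hn : 0 < n)
    (h0 : Subsingleton (EtCoh.H S ((BigSite.resEt K S).obj F) (n + 1)))
    (h1 : Subsingleton (EtCoh.H S ((BigSite.RresEt K S 1).obj F) n)) :
    Subsingleton (BigSite.H K S F (n + 1)) := by
  have := TwoRow.subsingleton (BigSite.piEtAdj K S) (fun I _ => K299.EtRes.injective_resEt S K I) hF
    ((constantSheaf S.smallEtaleTopology AddCommGrpCat.{u + 1}).obj (AddCommGrpCat.of (ULift ℤ))) n hn h0 h1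
  exact (K299.EtRes.extEquivOfIso (K299.EtRes.constIso S K (AddCommGrpCat.of (ULift ℤ))) F (n + 1)).symm.toEquiv.subsingleton

end K809.TwoRowH
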