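import Groth.Agent.TateLoc.K809.PKill
import Groth.Agent.TateLoc.K809.TwoRowH
import Groth.Agent.TateLoc.K809.FinVan
import Groth.Agent.S7733
import Groth.Agent.Etrest.RDer1

/-!
# `H^i(k, I) = 0` for `i ≥ 3` and `I` infinitesimal over a field of characteristic `p`
-/

set_option autoImplicit false
universe u

open CategoryTheory CategoryTheory.Limits AlgebraicGeometry Opposite MonoidalCategory CartesianMonoidalCategory MonObj

namespace K809.InfVan

/-- étale sheaves killed by an integer are torsion. -/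
theorem isTorsion_of_nsmul {X : Scheme.{u}} {n : ℕ} (hn : 0 < n) {F : EtCoh.Ab X} (h : n • 𝟙 F = 0) :
    EtCoh.IsTorsion F := by
  intro U s x
  refine ⟨U, 𝟙 U, ⟨x, rfl⟩, ?_⟩
  rw [isOfFinAddOrder_iff_nsmul_eq_zero]
  refine ⟨n, hn, ?_⟩
  have h1 : ∀ (m : ℕ) (t : F.obj.obj (op U)), (m • 𝟙 F : F ⟶ F).hom.app (op U) t = m • t := by
    intro m t
    induction m with
    | zero => rw [zero_smul, zero_smul]; rfl
    | succ m ih =>
      rw [succ_nsmul, succ_nsmul, ← ih]
      rfl
  rw [← h1, h]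
  rfl

theorem subsingleton_of_pow (k : Type u) [Field k] (p : ℕ) [Fact p.Prime] [CharP k p]
    (F : EtCoh.Ab (Spec (CommRingCat.of k))) (a : ℕ) (h : (p ^ a) • 𝟙 F = 0) (q : ℕ) (hq : 2 ≤ q) :
    Subsingleton (EtCoh.H (Spec (CommRingCat.of k)) F q) := by
  refine subsingleton_of_forall_eq 0 fun x => ?_
  exact Groth.Agent.S7733.result k p F (isTorsion_of_nsmul (pow_pos (Fact.out : p.Prime).pos a) h) q hq x
    ⟨a, Les.nsmul_eq_zero _ h q x⟩

theorem map_nsmul_id {C D : Type*} [Category C] [Category D] [Preadditive C] [Preadditive D] (R : C ⥤ D) [R.Additive]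
    (F : C) (n : ℕ) (h : n • 𝟙 F = 0) : n • 𝟙 (R.obj F) = 0 := by
  rw [← R.map_id, ← Functor.map_nsmul, h, Functor.map_zero]

theorem subsingleton_H (k : Type u) [Field k] (p : ℕ) [Fact p.Prime] [CharP k p]
    (I : Over (Spec (CommRingCat.of k))) [GrpObj I] [IsCommMonObj I]
    [IsFinite I.hom] [Flat I.hom] [LocallyOfFinitePresentation I.hom] [UniversallyInjective I.hom]
    (i : ℕ) (hi : 2 < i) :
    Subsingleton (BigSite.H Scheme.fppfPrecoverage (Spec (CommRingCat.of k)) (CGrpSh.pts Scheme.fppfPrecoverage I) i) := by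
  obtain ⟨a, ha⟩ := PKill.exists_pow k p I
  have h0 := Comp.nsmul_id_pts Scheme.fppfPrecoverage I _ ha
  obtain ⟨n, rfl⟩ : ∃ n, i = n + 1 := ⟨i - 1, by omega⟩
  refine TwoRowH.subsingleton Scheme.fppfPrecoverage _ (fun q hq => FinVan.isZero _ I q hq) n (by omega) ?_ ?_
  · exact subsingleton_of_pow k p _ a (map_nsmul_id _ _ _ h0) (n + 1) (by omega)
  · have : (BigSite.RresEt Scheme.fppfPrecoverage (Spec (CommRingCat.of k)) 1).Additive :=
      Groth.Agent.Etrest.RDer1.rightDerived_additive _ 1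
    exact subsingleton_of_pow k p _ a (map_nsmul_id _ _ _ h0) n (by omega)

end K809.InfVan
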