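import Groth.Agent.TateGlob.K963.Trans
import Groth.Agent.TateGlob.K963.AsmBig
import Groth.Agent.TateGlob.K828.LpPts
import Groth.Agent.TateGlob.K620.ModS
import Groth.Agent.TateGlob.K829.SIntBase
import Groth.Agent.CGrpSh.K731.Full

/-!
# From one model at one stage to every group over `O_S` at every late stage (helper809)

`𝒢` over `O_S` and a model `𝒢₁` over `O_{S₁}` of the generic fibre of `𝒢`: injectivity, surjectivity, vanishing for
`H^n(∏_{v ∉ S₁} O_v, 𝒢₁)` imply the same for `H^n(∏_{v ∉ T} O_v, 𝒢)` for all finite `T ⊇ T₀`.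
-/

set_option autoImplicit false
set_option backward.isDefEq.respectTransparency.types false

universe u

open CategoryTheory CategoryTheory.Limits AlgebraicGeometry Opposite
open K828 K828.BigCoh K963.AdLev K963.Asm K963.Trans K963.BcCoh K620.GMod K620.Sys
open FunFld AdFn

namespace K809.ModelP

variable {k K : Type u} [Field k] [Field K] [Algebra k K] {S S₁ : Set (Place k K)}

/-- The generic fibre. -/
noncomputable abbrev gen (S : Set (Place k K)) (𝒢 : Over (Spec (CommRingCat.of (SInt S)))) :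
    Over (Spec (CommRingCat.of K)) := Red.bc (Spec.map (CommRingCat.ofHom (SInt.toK S))) 𝒢

/-- `𝒢` as a model of its generic fibre. -/
noncomputable def selfMdl (𝒢 : Over (Spec (CommRingCat.of (SInt S)))) [GrpObj 𝒢] [IsCommMonObj 𝒢]
    [Flat 𝒢.hom] [IsSeparated 𝒢.hom] [LocallyOfFinitePresentation 𝒢.hom] [QuasiCompact 𝒢.hom] :
    MdlS S (gen S 𝒢) where
  X := 𝒢
  e := Iso.refl _
  mon := inferInstanceAs (IsMonHom (𝟙 _))

/-- `𝒢` as a model of `G`. -/
noncomputable def mdlOfIso {G : Over (Spec (CommRingCat.of K))} [GrpObj G] [IsCommMonObj G]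
    (𝒢 : Over (Spec (CommRingCat.of (SInt S)))) [GrpObj 𝒢] [IsCommMonObj 𝒢]
    [Flat 𝒢.hom] [IsSeparated 𝒢.hom] [LocallyOfFinitePresentation 𝒢.hom] [QuasiCompact 𝒢.hom]
    (m : ModelIso Scheme.fppfPrecoverage S 𝒢 G) : MdlS S G where
  X := 𝒢
  e := K731.Full.iso ((K809.PtsPull.ptsPull Scheme.fppfPrecoverage
    (Spec.map (CommRingCat.ofHom (SInt.toK S))) 𝒢).symm ≪≫ m)
  mon := K731.Full.isMonHom_hom _

/-- Two models of the same group have isomorphic sheaves of points at a later stage. -/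
theorem exists_stage [FinPoles k K] (hS : S.Finite) (hne : S.Nonempty) (hS₁ : S₁.Finite) (hne₁ : S₁.Nonempty)
    {G : Over (Spec (CommRingCat.of K))} [GrpObj G] (M : MdlS S G) (M₁ : MdlS S₁ G) :
    ∃ (T : Set (Place k K)) (_ : T.Finite) (h : S ⊆ T) (h₁ : S₁ ⊆ T),
      Nonempty ((BigSite.pullBig Scheme.fppfPrecoverage (inclS h) AddCommGrpCat.{u + 1}).obj
        (CGrpSh.pts Scheme.fppfPrecoverage M.X) ≅
      (BigSite.pullBig Scheme.fppfPrecoverage (inclS h₁) AddCommGrpCat.{u + 1}).obj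
        (CGrpSh.pts Scheme.fppfPrecoverage M₁.X)) := by
  obtain ⟨T, hT, h, h₁, θ, hθ⟩ := exists_eqvS hS hne hS₁ hne₁ M M₁
  have h2 : IsMonHom θ.hom := hθ.isMonHom
  have h3 : CGrpSh.pts Scheme.fppfPrecoverage (M.enl h).X ≅
      CGrpSh.pts Scheme.fppfPrecoverage (M₁.enl h₁).X :=
    K620.GMod.ptsIso Scheme.fppfPrecoverage (G := (M.enl h).X) (H := (M₁.enl h₁).X) θ
  refine ⟨T, hT, h, h₁, ⟨K809.PtsPull.ptsPull Scheme.fppfPrecoverage (inclS h) M.X ≪≫
    ?_ ≪≫ (K809.PtsPull.ptsPull Scheme.fppfPrecoverage (inclS h₁) M₁.X).symm⟩⟩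
  exact h3

section

variable {F : BigSite.Ab Scheme.fppfPrecoverage (Spec (CommRingCat.of (SInt S)))}
  {F₁ : BigSite.Ab Scheme.fppfPrecoverage (Spec (CommRingCat.of (SInt S₁)))} {n : ℕ}
  {T : Set (Place k K)} (h : S ⊆ T) (h₁ : S₁ ⊆ T)
  (α : (BigSite.pullBig Scheme.fppfPrecoverage (inclS h) AddCommGrpCat.{u + 1}).obj F ≅
    (BigSite.pullBig Scheme.fppfPrecoverage (inclS h₁) AddCommGrpCat.{u + 1}).obj F₁)

include α

theorem oInj (H : PInj (bigCoh Scheme.fppfPrecoverage _) F₁ n (Set.Subset.refl S₁)) :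
    OInj (bigCoh Scheme.fppfPrecoverage _) F n T := by
  intro U hU hSU hTU x hx
  have a1 : PInj (bigCoh Scheme.fppfPrecoverage _) F₁ n (h₁.trans hTU) := H.mono (h₁.trans hTU) hU
  have a2 := (pInj_iff h₁ (cmp _) (Iso.refl _) hTU).1 a1
  exact (pInj_iff h (cmp _) α hTU).2 a2 x hx

theorem oSurj (H : PSurj (bigCoh Scheme.fppfPrecoverage _) F₁ n (Set.Subset.refl S₁)) :
    OSurj (bigCoh Scheme.fppfPrecoverage _) F n T := by
  intro U hU hSU hTU y
  have a1 : PSurj (bigCoh Scheme.fppfPrecoverage _) F₁ n (h₁.trans hTU) := H.mono (h₁.trans hTU)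
  have a2 := (pSurj_iff h₁ (cmp _) (Iso.refl _) hTU).1 a1
  exact (pSurj_iff h (cmp _) α hTU).2 a2 y

theorem oZero (H : PZero (bigCoh Scheme.fppfPrecoverage _) F₁ n (Set.Subset.refl S₁)) :
    OZero (bigCoh Scheme.fppfPrecoverage _) F n T := by
  intro U hU hSU hTU x
  have a1 : PZero (bigCoh Scheme.fppfPrecoverage _) F₁ n (h₁.trans hTU) := H.mono (h₁.trans hTU) hU
  have a2 := (pZero_iff h₁ (cmp _) (Iso.refl _) hTU).1 a1
  exact (pZero_iff h (cmp _) α hTU).2 a2 x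

end

/-- Unfolding `PInj`, `PSurj` for `BigSite.HU`. -/
theorem pInj_of_bijective {F₁ : BigSite.Ab Scheme.fppfPrecoverage (Spec (CommRingCat.of (SInt S₁)))} {n : ℕ}
    (hb : Function.Bijective (fun (x : AdFn.HOHat Scheme.fppfPrecoverage S₁ F₁ n)
      (v : {v : FunFld.Place k K // v ∉ S₁}) => AdFn.ohatRes Scheme.fppfPrecoverage S₁ F₁ n v.2 x)) :
    PInj (bigCoh Scheme.fppfPrecoverage _) F₁ n (Set.Subset.refl S₁) ∧
      PSurj (bigCoh Scheme.fppfPrecoverage _) F₁ n (Set.Subset.refl S₁) := by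
  constructor
  · intro x hx
    refine hb.1 (funext fun v => ?_)
    exact (hx v.1 v.2).trans (map_zero (AdFn.ohatRes Scheme.fppfPrecoverage S₁ F₁ n v.2)).symm
  · intro y
    obtain ⟨x, hx⟩ := hb.2 fun v => y v.1 v.2
    exact ⟨x, fun v hv => congrFun hx ⟨v, hv⟩⟩

end K809.ModelP
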