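import Groth.Agent.TateLoc.K809.TorsTwo
import Groth.Agent.Sga3.H792.PowFlat
import Groth.Agent.S3694

/-!
# Infinitesimal commutative group schemes over a field of characteristic `p` are killed by a power of `p`
-/

set_option autoImplicit false
universe u

open CategoryTheory CategoryTheory.Limits AlgebraicGeometry Opposite MonoidalCategory CartesianMonoidalCategory MonObj

namespace K809.PKill

variable (k : Type u) [Field k]

/-- Powers prime to the characteristic are monomorphisms on infinitesimal groups. -/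
theorem mono_pow (I : Over (Spec (CommRingCat.of k))) [GrpObj I] [IsCommMonObj I] [LocallyOfFiniteType I.hom]
    [UniversallyInjective I.hom] (m : ℕ) (hm : (m : k) ≠ 0) : Mono ((𝟙 I) ^ m) := by
  have h1 : Etale (𝟙 I ^ (m : ℤ)).left := Groth.Agent.Sga3.H792.PowFlat.etale_zpow_comm I (by exact_mod_cast hm)
  rw [zpow_natCast] at h1
  have h2 : UniversallyInjective ((𝟙 I ^ m).left ≫ I.hom) := by rw [Over.w]; infer_instance
  have h3 : UniversallyInjective (𝟙 I ^ m).left := K114.FrobStep.universallyInjective_of_comp _ I.hom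
  have h4 : IsOpenImmersion (𝟙 I ^ m).left := Groth.Agent.S3694.result _
  exact Over.mono_of_mono_left _

theorem exists_pow (p : ℕ) [Fact p.Prime] [CharP k p] (I : Over (Spec (CommRingCat.of k))) [GrpObj I] [IsCommMonObj I]
    [IsFinite I.hom] [Flat I.hom] [LocallyOfFinitePresentation I.hom] [UniversallyInjective I.hom] :
    ∃ a : ℕ, (𝟙 I) ^ (p ^ a) = 1 := by
  obtain ⟨n, hn, h⟩ := TorsTwo.exists_pow_eq_one k I
  obtain ⟨a, m, hm, rfl⟩ := Nat.exists_eq_pow_mul_and_not_dvd hn.ne' p (Fact.out : p.Prime).ne_one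
  refine ⟨a, ?_⟩
  have hmono := mono_pow k I m (fun h0 => hm ((CharP.cast_eq_zero_iff k p m).1 h0))
  rw [← cancel_mono ((𝟙 I) ^ m), MonObj.comp_pow, MonObj.comp_pow, Category.comp_id, Category.comp_id, ← pow_mul, h,
    one_pow]

end K809.PKill
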