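import Groth.Agent.AlgGrp.K404.Desc

/-!
# Group structures on quotients

If `q : G ⟶ M` is a (universal) effective epimorphism and the group law of `G` is compatible with the equivalence relation
defined by `q`, then `M` is a group object and `q` a homomorphism.
-/

set_option autoImplicit false
universe u

open CategoryTheory CategoryTheory.Limits MonoidalCategory CartesianMonoidalCategory MonObj AlgebraicGeometry

namespace K809.QuotGrp

section cat

variable {C : Type*} [Category C] [CartesianMonoidalCategory C] {G M : C} [GrpObj G] (q : G ⟶ M)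
  (m : M ⊗ M ⟶ M) (hm : (q ⊗ₘ q) ≫ m = μ[G] ≫ q) (i : M ⟶ M) (hi : q ≫ i = ι[G] ≫ q)

include hm in
lemma lift_m {T : C} (x y : T ⟶ G) : lift (x ≫ q) (y ≫ q) ≫ m = (x * y) ≫ q := by
  rw [← lift_map_assoc, hm, Hom.mul_def, Category.assoc]

include hm in
lemma ax_one_mul [Epi q] : (η[G] ≫ q) ▷ M ≫ m = (λ_ M).hom := by
  have h1 : Epi ((λ_ G).inv ≫ (𝟙_ C) ◁ q) := by
    rw [← leftUnitor_inv_naturality]
    infer_instance
  have h2 : Epi ((𝟙_ C) ◁ q) := epi_of_epi (λ_ G).inv _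
  rw [← cancel_epi ((𝟙_ C) ◁ q)]
  rw [leftUnitor_naturality, ← MonObj.one_mul, Category.assoc, ← hm]
  rw [← tensorHom_id, ← id_tensorHom, ← tensorHom_id, tensorHom_comp_tensorHom_assoc, tensorHom_comp_tensorHom_assoc]
  simp

include hm in
lemma ax_mul_one [Epi q] : M ◁ (η[G] ≫ q) ≫ m = (ρ_ M).hom := by
  have h1 : Epi ((ρ_ G).inv ≫ q ▷ (𝟙_ C)) := by
    rw [← rightUnitor_inv_naturality]
    infer_instance
  have h2 : Epi (q ▷ (𝟙_ C)) := epi_of_epi (ρ_ G).inv _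
  rw [← cancel_epi (q ▷ (𝟙_ C))]
  rw [rightUnitor_naturality, ← MonObj.mul_one, Category.assoc, ← hm]
  rw [← id_tensorHom, ← id_tensorHom, ← tensorHom_id, tensorHom_comp_tensorHom_assoc, tensorHom_comp_tensorHom_assoc]
  simp

include hm in
lemma ax_assoc [Epi ((q ⊗ₘ q) ⊗ₘ q)] : (m ▷ M) ≫ m = (α_ M M M).hom ≫ (M ◁ m) ≫ m := by
  rw [← cancel_epi ((q ⊗ₘ q) ⊗ₘ q)]
  have h1 : ((q ⊗ₘ q) ⊗ₘ q) ≫ (m ▷ M) ≫ m = (μ[G] ▷ G) ≫ μ[G] ≫ q := by
    rw [← hm, ← tensorHom_id, ← tensorHom_id, tensorHom_comp_tensorHom_assoc, tensorHom_comp_tensorHom_assoc, hm]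
    simp
  have h2 : ((q ⊗ₘ q) ⊗ₘ q) ≫ (α_ M M M).hom ≫ (M ◁ m) ≫ m = (α_ G G G).hom ≫ (G ◁ μ[G]) ≫ μ[G] ≫ q := by
    rw [associator_naturality_assoc, ← hm, ← id_tensorHom, ← id_tensorHom, tensorHom_comp_tensorHom_assoc,
      tensorHom_comp_tensorHom_assoc, hm]
    simp
  rw [h1, h2, MonObj.mul_assoc_assoc]

include hm hi in
lemma ax_left_inv [Epi q] : lift i (𝟙 M) ≫ m = toUnit M ≫ η[G] ≫ q := by
  rw [← cancel_epi q, comp_lift_assoc, hi, Category.comp_id]
  have h := lift_m q m hm (ι[G]) (𝟙 G)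
  rw [Category.id_comp] at h
  rw [h, ← Category.assoc q, toUnit_unique (q ≫ toUnit M) (toUnit G), ← Category.assoc]
  congr 1
  rw [Hom.mul_def]
  exact GrpObj.left_inv G

include hm hi in
lemma ax_right_inv [Epi q] : lift (𝟙 M) i ≫ m = toUnit M ≫ η[G] ≫ q := by
  rw [← cancel_epi q, comp_lift_assoc, hi, Category.comp_id]
  have h := lift_m q m hm (𝟙 G) (ι[G])
  rw [Category.id_comp] at h
  rw [h, ← Category.assoc q, toUnit_unique (q ≫ toUnit M) (toUnit G), ← Category.assoc]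
  congr 1
  rw [Hom.mul_def]
  exact GrpObj.right_inv G

/-- the group structure -/
@[reducible]
def grpObj [Epi q] [Epi ((q ⊗ₘ q) ⊗ₘ q)] : GrpObj M where
  one := η[G] ≫ q
  mul := m
  one_mul := ax_one_mul q m hm
  mul_one := ax_mul_one q m hm
  mul_assoc := ax_assoc q m hm
  inv := i
  left_inv := ax_left_inv q m hm i hi
  right_inv := ax_right_inv q m hm i hi

end cat

end K809.QuotGrp
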