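import Groth.Agent.Cohder.RDAcyc
import Groth.Agent.Etrest.RAcyc
import Groth.Agent.Etrest.RDer1
import Groth.Agent.TateLoc.K809.Les

/-!
# Vanishing in a two-row Grothendieck spectral sequence
-/

set_option autoImplicit false

universe w w' v v' u u'

open CategoryTheory CategoryTheory.Limits CategoryTheory.Abelian

namespace K809.TwoRow

open Groth.Agent

variable {C : Type u} [Category.{v} C] [Abelian C] [HasExt.{w} C] [EnoughInjectives C]
  {D : Type u'} [Category.{v'} D] [Abelian D] [HasExt.{w'} D] {L : D ⥤ C} {R : C ⥤ D}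

/-- If `R^q F = 0` for `q ≥ 2`, then `Ext^(n+1)(L A, F)` vanishes when `Ext^(n+1)(A, R F)` and `Ext^n(A, R^1 F)` do
(`n ≥ 1`). -/
theorem subsingleton (adj : L ⊣ R) [R.Additive] [PreservesFiniteLimits R]
    (hinj : ∀ J : C, Injective J → Injective (R.obj J)) {F : C}
    (hF : ∀ q : ℕ, 1 < q → IsZero ((R.rightDerived q).obj F)) (A : D) (n : ℕ) (hn : 0 < n)
    (h0 : Subsingleton (Ext.{w'} A (R.obj F) (n + 1)))
    (h1 : Subsingleton (Ext.{w'} A ((R.rightDerived 1).obj F) n)) :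
    Subsingleton (Ext.{w} (L.obj A) F (n + 1)) := by
  obtain ⟨n, rfl⟩ : ∃ m, n = m + 1 := ⟨n - 1, by omega⟩
  let S : ShortComplex C := ShortComplex.mk (Injective.ι F) (cokernel.π (Injective.ι F)) (cokernel.condition _)
  have hS : S.ShortExact := ShortComplex.ShortExact.mk' (ShortComplex.exact_cokernel _) inferInstance inferInstance
  have hJ : Injective S.X₂ := inferInstanceAs (Injective (Injective.under F))
  -- acyclicity of the quotient
  have hC : ∀ q : ℕ, 0 < q → IsZero ((R.rightDerived q).obj S.X₃) := fun q hq =>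
    Cohder.RDAcyc.isZero_X₃ R hS q (Cohder.RDAcyc.isAcyc_injective R S.X₂ q hq) (hF (q + 1) (by omega))
  -- the four term exact sequence
  obtain ⟨hm, he, δ, hδ⟩ := Cohder.RDLES.exists_les R hS
  obtain ⟨w₁, w₂, e₁, e₂⟩ := hδ 0
  have hz : IsZero ((R.rightDerived 1).obj S.X₂) := Cohder.RDAcyc.isAcyc_injective R S.X₂ 1 (by omega)
  have hδe : Epi (δ 0) := e₂.epi_f (hz.eq_of_tgt _ _)
  let T₂ : ShortComplex D := ShortComplex.mk (kernel.ι (δ 0)) (δ 0) (kernel.condition _)
  have hT₂ : T₂.ShortExact := ShortComplex.ShortExact.mk' (ShortComplex.exact_kernel _) inferInstance hδe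
  have hadd : (R.rightDerived 0).Additive := Etrest.RDer1.rightDerived_additive R 0
  let p : (R.rightDerived 0).obj S.X₂ ⟶ kernel (δ 0) := kernel.lift _ _ w₁
  have hp : Epi p := e₁.epi_kernelLift
  have w0 : (R.rightDerived 0).map S.f ≫ (R.rightDerived 0).map S.g = 0 := by
    rw [← Functor.map_comp, S.zero, Functor.map_zero]
  have w3 : (R.rightDerived 0).map S.f ≫ p = 0 := by
    rw [← cancel_mono (kernel.ι (δ 0)), Category.assoc, kernel.lift_ι, zero_comp, w0]
  let T₁ : ShortComplex D := ShortComplex.mk ((R.rightDerived 0).map S.f) p w3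
  have hT₁e : T₁.Exact := by
    have h2 := he 0 w0
    let φ : T₁ ⟶ ShortComplex.mk _ _ w0 := ShortComplex.homMk (𝟙 _) (𝟙 _) (kernel.ι (δ 0)) (by simp [T₁])
      (by simp [T₁, p])
    have i1 : Epi φ.τ₁ := inferInstanceAs (Epi (𝟙 _))
    have i2 : IsIso φ.τ₂ := inferInstanceAs (IsIso (𝟙 _))
    have i3 : Mono φ.τ₃ := inferInstanceAs (Mono (kernel.ι (δ 0)))
    rw [ShortComplex.exact_iff_of_epi_of_isIso_of_mono φ]
    exact h2
  have hT₁ : T₁.ShortExact := { exact := hT₁e, mono_f := hm, epi_g := hp }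
  let e0 : R.rightDerived 0 ≅ R := R.rightDerivedZeroIsoSelf
  -- `Ext^(n+1)(A, ker δ) = 0`
  have hJ' : Injective ((R.rightDerived 0).obj S.X₂) := Injective.of_iso (e0.app S.X₂).symm (hinj _ hJ)
  have k1 : Subsingleton (Ext.{w'} A T₁.X₃ (n + 1)) := by
    refine Les.subsingleton_right A hT₁ ?_ ?_
    · exact subsingleton_of_forall_eq 0 fun x => Ext.eq_zero_of_injective x
    · exact (Les.mpEquiv A (e0.app F).symm (n + 1 + 1)).symm.toEquiv.subsingleton
  have k2 : Subsingleton (Ext.{w'} A T₂.X₂ (n + 1)) := Les.subsingleton_mid A hT₂ k1 h1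
  have k3 : Subsingleton (Ext.{w'} A (R.obj S.X₃) (n + 1)) :=
    (Les.mpEquiv A (e0.app S.X₃) (n + 1)).symm.toEquiv.subsingleton
  obtain ⟨e⟩ := Etrest.RAcyc.nonempty_extAddEquiv adj hinj (G := S.X₃) hC A (n + 1)
  have k4 : Subsingleton (Ext.{w} (L.obj A) S.X₃ (n + 1)) := e.symm.toEquiv.subsingleton
  exact Les.subsingleton_left (L.obj A) hS k4 (subsingleton_of_forall_eq 0 fun x => Ext.eq_zero_of_injective x)

end K809.TwoRow
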