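import Mathlib.RingTheory.HopfAlgebra.Convolution
import Mathlib.LinearAlgebra.SymmetricAlgebra.Basis
import Mathlib.RingTheory.Smooth.Basic
import Mathlib.RingTheory.Smooth.StandardSmooth
import Mathlib.RingTheory.FinitePresentation
import Mathlib.LinearAlgebra.FreeModule.Finite.Basic
import Mathlib.RingTheory.Finiteness.Prod

/-!
# The algebra representing the units of the convolution algebra

Let `H` be a cocommutative coalgebra over `R`, finite and free as a module.  The functor sending an `R`-algebra `C` to the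
units of the commutative ring `Hom_R(H, C)` (convolution product) is represented by a smooth `R`-algebra `B R H`.
-/

set_option autoImplicit false
universe u

open WithConv TensorProduct Coalgebra LinearMap

noncomputable section

namespace K809.UnitAlg

variable (R : Type u) [CommRing R] (H : Type u) [AddCommGroup H] [Module R H] [Coalgebra R H] [IsCocomm R H]

/-- the convolution algebra -/
abbrev V (C : Type u) [CommRing C] [Algebra R C] : Type u := WithConv (H →ₗ[R] C)

variable {R H} {C D E : Type u} [CommRing C] [Algebra R C] [CommRing D] [Algebra R D] [CommRing E] [Algebra R E]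

variable (H) in
/-- functoriality -/
def vmap (φ : C →ₐ[R] D) : V R H C →+* V R H D where
  toFun f := toConv (φ.toLinearMap ∘ₗ f.ofConv)
  map_one' := by
    ext x
    simp [convOne_def]
  map_mul' f g := by
    have := algHom_comp_convMul_distrib φ f g
    apply ofConv_injective
    exact this
  map_zero' := by
    ext x
    simp
  map_add' f g := by
    ext x
    simp

omit [IsCocomm R H] in
@[simp] lemma vmap_apply (φ : C →ₐ[R] D) (f : V R H C) (x : H) : (vmap H φ f) x = φ (f x) := rfl

omit [IsCocomm R H] in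
lemma vmap_comp (φ : C →ₐ[R] D) (ψ : D →ₐ[R] E) (f : V R H C) : vmap H (ψ.comp φ) f = vmap H ψ (vmap H φ f) := rfl

variable (R H) in
/-- the symmetric algebra -/
abbrev Sy : Type u := SymmetricAlgebra R (H × H)

variable (R H) in
/-- first universal linear map -/
def x₀ : V R H (Sy R H) := toConv (SymmetricAlgebra.ι R (H × H) ∘ₗ LinearMap.inl R H H)
variable (R H) in
/-- second universal linear map -/
def y₀ : V R H (Sy R H) := toConv (SymmetricAlgebra.ι R (H × H) ∘ₗ LinearMap.inr R H H)

variable (R H) in
/-- the ideal of relations -/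
def J : Ideal (Sy R H) := Ideal.span (Set.range (x₀ R H * y₀ R H - 1).ofConv)

variable (R H) in
/-- the representing algebra -/
abbrev B : Type u := Sy R H ⧸ J R H

variable (R H) in
/-- the projection -/
abbrev pr : Sy R H →ₐ[R] B R H := Ideal.Quotient.mkₐ R (J R H)

omit [IsCocomm R H] in
lemma mul_eq_one : vmap H (pr R H) (x₀ R H) * vmap H (pr R H) (y₀ R H) = 1 := by
  rw [← map_mul, ← sub_eq_zero, ← map_one (vmap H (pr R H)), ← map_sub]
  apply ofConv_injective
  apply LinearMap.ext
  intro h
  change pr R H ((x₀ R H * y₀ R H - 1).ofConv h) = 0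
  exact Ideal.Quotient.eq_zero_iff_mem.2 (Ideal.subset_span ⟨h, rfl⟩)

variable (R H) in
/-- the universal unit -/
def un : (V R H (B R H))ˣ :=
  ⟨vmap H (pr R H) (x₀ R H), vmap H (pr R H) (y₀ R H), mul_eq_one, by rw [mul_comm, mul_eq_one]⟩

/-- functoriality of units -/
def umap (φ : C →ₐ[R] D) : (V R H C)ˣ →* (V R H D)ˣ := Units.map (vmap H φ : V R H C →* V R H D)

omit [IsCocomm R H] in
lemma umap_comp (φ : C →ₐ[R] D) (ψ : D →ₐ[R] E) (f : (V R H C)ˣ) : umap (ψ.comp φ) f = umap ψ (umap φ f) := rfl

omit [IsCocomm R H] in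
lemma umap_id (f : (V R H C)ˣ) : umap (AlgHom.id R C) f = f := rfl

/-- the map to `C` attached to a pair of linear maps -/
def toS (x y : V R H C) : Sy R H →ₐ[R] C := SymmetricAlgebra.lift (LinearMap.coprod x.ofConv y.ofConv)

omit [IsCocomm R H] in
lemma vmap_toS_x (x y : V R H C) : vmap H (toS x y) (x₀ R H) = x := by
  ext h
  change toS x y (SymmetricAlgebra.ι R (H × H) (h, 0)) = _
  rw [toS, SymmetricAlgebra.lift_ι_apply]
  simp

omit [IsCocomm R H] in
lemma vmap_toS_y (x y : V R H C) : vmap H (toS x y) (y₀ R H) = y := by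
  ext h
  change toS x y (SymmetricAlgebra.ι R (H × H) (0, h)) = _
  rw [toS, SymmetricAlgebra.lift_ι_apply]
  simp

omit [IsCocomm R H] in
lemma toS_J (x y : V R H C) (hxy : x * y = 1) (a : Sy R H) (ha : a ∈ J R H) : toS x y a = 0 := by
  have : J R H ≤ RingHom.ker (toS x y) := by
    rw [J, Ideal.span_le]
    rintro _ ⟨h, rfl⟩
    change toS x y ((x₀ R H * y₀ R H - 1).ofConv h) = 0
    have h1 : vmap H (toS x y) (x₀ R H * y₀ R H - 1) = 0 := by
      rw [map_sub, map_mul, vmap_toS_x, vmap_toS_y, map_one, hxy, sub_self]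
    exact congrArg (fun v : V R H C => v h) h1
  exact this ha

/-- the classifying map of a unit -/
def ofUnit (v : (V R H C)ˣ) : B R H →ₐ[R] C :=
  Ideal.Quotient.liftₐ (J R H) (toS v.val v.inv) (toS_J _ _ v.val_inv)

lemma umap_ofUnit (v : (V R H C)ˣ) : umap (ofUnit v) (un R H) = v := by
  apply Units.ext
  change vmap H (ofUnit v) (vmap H (pr R H) (x₀ R H)) = _
  rw [← vmap_comp]
  have : (ofUnit v).comp (pr R H) = toS v.val v.inv := Ideal.Quotient.liftₐ_comp _ _ _
  rw [this, vmap_toS_x]

lemma hom_ext {φ ψ : B R H →ₐ[R] C} (h : umap φ (un R H) = umap ψ (un R H)) : φ = ψ := by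
  have h1 : vmap H (φ.comp (pr R H)) (x₀ R H) = vmap H (ψ.comp (pr R H)) (x₀ R H) := congrArg Units.val h
  have h2 : vmap H (φ.comp (pr R H)) (y₀ R H) = vmap H (ψ.comp (pr R H)) (y₀ R H) := congrArg Units.inv h
  have h3 : φ.comp (pr R H) = ψ.comp (pr R H) := by
    apply SymmetricAlgebra.algHom_ext
    apply LinearMap.prod_ext
    · exact congrArg WithConv.ofConv h1
    · exact congrArg WithConv.ofConv h2
  exact Ideal.Quotient.algHom_ext _ h3

variable (H C) in
/-- the universal property -/
def eqv : (B R H →ₐ[R] C) ≃ (V R H C)ˣ where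
  toFun φ := umap φ (un R H)
  invFun := ofUnit
  left_inv _ := hom_ext (umap_ofUnit _)
  right_inv := umap_ofUnit

/-! ### Finite presentation and smoothness -/

omit [IsCocomm R H] in
lemma fg_J [Module.Finite R H] : (J R H).FG := by
  classical
  obtain ⟨s, hs⟩ := (Module.Finite.fg_top : (⊤ : Submodule R H).FG)
  refine ⟨s.image (x₀ R H * y₀ R H - 1).ofConv, ?_⟩
  rw [J]
  apply le_antisymm
  · rw [Ideal.span_le]
    intro a ha
    rw [Finset.coe_image] at ha
    obtain ⟨h, -, rfl⟩ := ha
    exact Ideal.subset_span ⟨h, rfl⟩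
  · rw [Ideal.span_le]
    rintro _ ⟨h, rfl⟩
    have h1 : h ∈ Submodule.span R (s : Set H) := by rw [hs]; trivial
    induction h1 using Submodule.span_induction with
    | mem h hh => exact Ideal.subset_span (by rw [Finset.coe_image]; exact ⟨h, hh, rfl⟩)
    | zero => rw [_root_.map_zero]; exact Ideal.zero_mem _
    | add a b _ _ ha hb => rw [_root_.map_add]; exact Ideal.add_mem _ ha hb
    | smul r a _ ha =>
      rw [_root_.map_smul, Algebra.smul_def]
      exact Ideal.mul_mem_left _ _ ha

/-- The symmetric algebra of a finitely generated projective module is finitely presented. -/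
theorem finitePresentation_symmetricAlgebra (R : Type u) [CommRing R] (P : Type u) [AddCommGroup P] [Module R P]
    [Module.Finite R P] [Module.Projective R P] : Algebra.FinitePresentation R (SymmetricAlgebra R P) := by
  classical
  obtain ⟨n, e, he⟩ := Module.Finite.exists_fin' R P
  obtain ⟨s, hs⟩ := Module.projective_lifting_property e LinearMap.id he
  let b := Pi.basisFun R (Fin n)
  have h1 : Algebra.FinitePresentation R (SymmetricAlgebra R (Fin n → R)) := by
    have h : Algebra.FinitePresentation R (MvPolynomial (Fin n) R) := Algebra.FinitePresentation.mvPolynomial R R _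
    exact Algebra.FinitePresentation.equiv (SymmetricAlgebra.equivMvPolynomial b).symm
  let K : Ideal (SymmetricAlgebra R (Fin n → R)) :=
    Ideal.span (Set.range fun i => SymmetricAlgebra.ι R (Fin n → R) (b i - s (e (b i))))
  have hK : K.FG := by
    refine ⟨Finset.univ.image fun i => SymmetricAlgebra.ι R (Fin n → R) (b i - s (e (b i))), ?_⟩
    rw [Finset.coe_image, Finset.coe_univ, Set.image_univ]
  have h2 : Algebra.FinitePresentation R (SymmetricAlgebra R (Fin n → R) ⧸ K) := Algebra.FinitePresentation.quotient hK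
  have h3 : ∀ v, Ideal.Quotient.mkₐ R K (SymmetricAlgebra.ι R (Fin n → R) v) =
      Ideal.Quotient.mkₐ R K (SymmetricAlgebra.ι R (Fin n → R) (s (e v))) := by
    intro v
    have : (Ideal.Quotient.mkₐ R K).toLinearMap ∘ₗ SymmetricAlgebra.ι R (Fin n → R) =
        (Ideal.Quotient.mkₐ R K).toLinearMap ∘ₗ SymmetricAlgebra.ι R (Fin n → R) ∘ₗ s ∘ₗ e := by
      apply b.ext
      intro i
      rw [← sub_eq_zero]
      change Ideal.Quotient.mkₐ R K _ - Ideal.Quotient.mkₐ R K _ = 0
      rw [← map_sub]
      change Ideal.Quotient.mkₐ R K (SymmetricAlgebra.ι R (Fin n → R) (b i) -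
        SymmetricAlgebra.ι R (Fin n → R) (s (e (b i)))) = 0
      rw [← map_sub]
      exact Ideal.Quotient.eq_zero_iff_mem.2 (Ideal.subset_span ⟨i, rfl⟩)
    exact congrArg (fun l => l v) this
  let f : SymmetricAlgebra R (Fin n → R) ⧸ K →ₐ[R] SymmetricAlgebra R P :=
    Ideal.Quotient.liftₐ K (SymmetricAlgebra.lift (SymmetricAlgebra.ι R P ∘ₗ e)) (by
      intro a ha
      have : K ≤ RingHom.ker (SymmetricAlgebra.lift (SymmetricAlgebra.ι R P ∘ₗ e)) := by
        rw [Ideal.span_le]
        rintro _ ⟨i, rfl⟩
        change SymmetricAlgebra.lift _ (SymmetricAlgebra.ι _ _ _) = 0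
        rw [SymmetricAlgebra.lift_ι_apply]
        have h4 : e (s (e (b i))) = e (b i) := congrArg (fun l => l (e (b i))) hs
        simp [h4]
      exact this ha)
  let g : SymmetricAlgebra R P →ₐ[R] SymmetricAlgebra R (Fin n → R) ⧸ K :=
    SymmetricAlgebra.lift ((Ideal.Quotient.mkₐ R K).toLinearMap ∘ₗ SymmetricAlgebra.ι R (Fin n → R) ∘ₗ s)
  refine Algebra.FinitePresentation.equiv (AlgEquiv.ofAlgHom f g ?_ ?_)
  · apply SymmetricAlgebra.algHom_ext
    apply LinearMap.ext
    intro p
    change f (g (SymmetricAlgebra.ι R P p)) = _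
    rw [SymmetricAlgebra.lift_ι_apply]
    change SymmetricAlgebra.lift _ (SymmetricAlgebra.ι _ _ _) = _
    rw [SymmetricAlgebra.lift_ι_apply]
    have h4 : e (s p) = p := congrArg (fun l => l p) hs
    simp [h4]
  · apply Ideal.Quotient.algHom_ext
    apply SymmetricAlgebra.algHom_ext
    apply LinearMap.ext
    intro v
    change g (SymmetricAlgebra.lift _ (SymmetricAlgebra.ι _ _ _)) = Ideal.Quotient.mkₐ R K (SymmetricAlgebra.ι R (Fin n → R) v)
    rw [SymmetricAlgebra.lift_ι_apply]
    change g (SymmetricAlgebra.ι R P (e v)) = _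
    rw [SymmetricAlgebra.lift_ι_apply]
    exact (h3 v).symm

instance finitePresentation_Sy [Module.Finite R H] [Module.Projective R H] : Algebra.FinitePresentation R (Sy R H) :=
  finitePresentation_symmetricAlgebra R (H × H)

instance finitePresentation_B [Module.Finite R H] [Module.Projective R H] : Algebra.FinitePresentation R (B R H) :=
  Algebra.FinitePresentation.quotient fg_J

omit [IsCocomm R H] in
/-- Linear maps lift along quotients. -/
lemma vmap_surjective [Module.Projective R H] (I : Ideal C) : Function.Surjective (vmap H (Ideal.Quotient.mkₐ R I)) := by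
  intro f
  obtain ⟨g, hg⟩ := Module.projective_lifting_property (Ideal.Quotient.mkₐ R I).toLinearMap f.ofConv
    (Ideal.Quotient.mkₐ_surjective R I)
  exact ⟨toConv g, ofConv_injective hg⟩

omit [IsCocomm R H] in
/-- The kernel has square zero. -/
lemma mul_eq_zero_of (I : Ideal C) (hI : I ^ 2 = ⊥) (f g : V R H C) (hf : vmap H (Ideal.Quotient.mkₐ R I) f = 0)
    (hg : vmap H (Ideal.Quotient.mkₐ R I) g = 0) : f * g = 0 := by
  have h1 : ∀ h : H, f h ∈ I := fun h => Ideal.Quotient.eq_zero_iff_mem.1 (congrArg (fun v : V R H (C ⧸ I) => v h) hf)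
  have h2 : ∀ h : H, g h ∈ I := fun h => Ideal.Quotient.eq_zero_iff_mem.1 (congrArg (fun v : V R H (C ⧸ I) => v h) hg)
  ext h
  rw [(Coalgebra.Repr.arbitrary R h).convMul_apply]
  refine Finset.sum_eq_zero fun i _ => ?_
  have : f ((Coalgebra.Repr.arbitrary R h).left i) * g ((Coalgebra.Repr.arbitrary R h).right i) ∈ I ^ 2 := by
    rw [pow_two]
    exact Ideal.mul_mem_mul (h1 _) (h2 _)
  rw [hI] at this
  exact this

/-- Units lift along square zero extensions. -/
lemma umap_surjective [Module.Projective R H] (I : Ideal C) (hI : I ^ 2 = ⊥) :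
    Function.Surjective (umap (H := H) (Ideal.Quotient.mkₐ R I)) := by
  intro v
  obtain ⟨x, hx⟩ := vmap_surjective (H := H) I v.val
  obtain ⟨y, hy⟩ := vmap_surjective (H := H) I v.inv
  have hn : vmap H (Ideal.Quotient.mkₐ R I) (x * y - 1) = 0 := by
    rw [map_sub, map_mul, hx, hy, map_one, v.val_inv, sub_self]
  have hn2 := mul_eq_zero_of I hI _ _ hn hn
  have h1 : x * (y * (2 - x * y)) = 1 := by
    have : (x * y - 1) * (x * y - 1) = 0 := hn2
    have h3 : x * (y * (2 - x * y)) = 1 - (x * y - 1) * (x * y - 1) := by ring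
    rw [h3, this, sub_zero]
  refine ⟨⟨x, y * (2 - x * y), h1, by rw [mul_comm, h1]⟩, Units.ext ?_⟩
  exact hx

instance formallySmooth_B [Module.Projective R H] : Algebra.FormallySmooth R (B R H) := by
  apply Algebra.FormallySmooth.of_comp_surjective
  intro C _ _ I hI φ
  obtain ⟨v, hv⟩ := umap_surjective (H := H) I hI (umap φ (un R H))
  refine ⟨ofUnit v, hom_ext ?_⟩
  rw [umap_comp, umap_ofUnit, hv]

instance smooth_B [Module.Finite R H] [Module.Projective R H] : Algebra.Smooth R (B R H) where

end K809.UnitAlg
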