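import Groth.Agent.TateLoc.K809.UnitAlg
import Mathlib.AlgebraicGeometry.Group.Affine
import Mathlib.Algebra.Category.Grp.Basic

/-!
# Finite free commutative group schemes embed in smooth affine commutative group schemes
-/

set_option autoImplicit false
universe u

open WithConv TensorProduct Coalgebra
open CategoryTheory CategoryTheory.Limits MonoidalCategory CartesianMonoidalCategory MonObj GrpObj AlgebraicGeometry Opposite

noncomputable section

namespace K809.UnitGrp

open K809.UnitAlg

variable (R : Type u) [CommRing R] (H : Type u) [CommRing H] [HopfAlgebra R H] [IsCocomm R H]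

/-- the functor of units -/
def Ufun : CommAlgCat.{u} R ⥤ CommGrpCat.{u} where
  obj C := CommGrpCat.of (V R H C)ˣ
  map φ := CommGrpCat.ofHom (umap φ.hom)

/-- the functor of units as a presheaf -/
def F : ((CommAlgCat.{u} R)ᵒᵖ)ᵒᵖ ⥤ CommGrpCat.{u} := unopUnop _ ⋙ Ufun R H

/-- the representing object -/
abbrev Ao : (CommAlgCat.{u} R)ᵒᵖ := op (CommAlgCat.of R (B R H))

/-- the representation -/
def rep : (F R H ⋙ forget _).RepresentableBy (Ao R H) where
  homEquiv {X} :=
    { toFun := fun f => umap f.unop.hom (un R H)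
      invFun := fun v => (CommAlgCat.ofHom (ofUnit v)).op
      left_inv := fun f => by
        apply Quiver.Hom.unop_inj
        apply CommAlgCat.hom_ext
        exact hom_ext (umap_ofUnit _)
      right_inv := fun v => umap_ofUnit v }
  homEquiv_comp {X X'} f g := rfl

instance : CommGrpObj (Ao R H) := CommGrpObj.ofRepresentableBy (Ao R H) (F R H) (rep R H)

/-- `Hom(T, X) ≃* F(T)`. -/
theorem homEquiv_mul {D : Type*} [Category D] [CartesianMonoidalCategory D] {X : D}
    (F : Dᵒᵖ ⥤ GrpCat) (α : (F ⋙ forget _).RepresentableBy X) {T : D} (a b : T ⟶ X) :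
    letI := GrpObj.ofRepresentableBy X F α
    α.homEquiv' (a * b) = α.homEquiv' a * α.homEquiv' b := by
  change α.homEquiv' (lift a b ≫ α.homEquiv'.symm (α.homEquiv' (fst X X) *
    α.homEquiv' (snd X X))) = α.homEquiv' a * α.homEquiv' b
  simp only [α.homEquiv'_comp, Equiv.apply_symm_apply, map_mul]
  simp only [← α.homEquiv'_comp]
  simp

variable {R H} in
lemma val_mul {X : (CommAlgCat.{u} R)ᵒᵖ} (a b : X ⟶ Ao R H) :
    umap (a * b).unop.hom (un R H) = umap a.unop.hom (un R H) * umap b.unop.hom (un R H) :=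
  homEquiv_mul (F R H ⋙ forget₂ CommGrpCat GrpCat) (rep R H) a b

/-- the identity of `H` as a unit -/
def u₀ : (V R H H)ˣ := ⟨toConv LinearMap.id, toConv (HopfAlgebra.antipode R), LinearMap.id_mul_antipode,
  LinearMap.antipode_mul_id⟩

/-- the embedding -/
def emb : op (CommAlgCat.of R H) ⟶ Ao R H := (CommAlgCat.ofHom (ofUnit (u₀ R H))).op

variable {R H} in
lemma val_emb {X : (CommAlgCat.{u} R)ᵒᵖ} (f : X ⟶ op (CommAlgCat.of R H)) :
    umap (f ≫ emb R H).unop.hom (un R H) = umap f.unop.hom (u₀ R H) := by
  have h1 : (f ≫ emb R H).unop.hom = f.unop.hom.comp (ofUnit (u₀ R H)) := rfl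
  rw [h1, umap_comp, umap_ofUnit]

variable {R H} in
lemma emb_injective {X : (CommAlgCat.{u} R)ᵒᵖ} (f g : X ⟶ op (CommAlgCat.of R H)) (h : f ≫ emb R H = g ≫ emb R H) :
    f = g := by
  have h1 : umap f.unop.hom (u₀ R H) = umap g.unop.hom (u₀ R H) := by
    rw [← val_emb, ← val_emb, h]
  have h2 : toConv f.unop.hom.toLinearMap = toConv g.unop.hom.toLinearMap := congrArg Units.val h1
  apply Quiver.Hom.unop_inj
  apply CommAlgCat.hom_ext
  exact AlgHom.toLinearMap_injective (toConv_injective h2)

instance : Mono (emb R H) := ⟨fun f g h => emb_injective f g h⟩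

omit [IsCocomm R H] in
lemma comul_eq : umap (Bialgebra.comulAlgHom R H) (u₀ R H) =
    umap Algebra.TensorProduct.includeLeft (u₀ R H) * umap Algebra.TensorProduct.includeRight (u₀ R H) := by
  apply Units.ext
  change toConv ((Bialgebra.comulAlgHom R H).toLinearMap ∘ₗ LinearMap.id) =
    toConv ((Algebra.TensorProduct.includeLeft (R := R) (S := R) (A := H) (B := H)).toLinearMap ∘ₗ LinearMap.id) *
    toConv ((Algebra.TensorProduct.includeRight (R := R) (A := H) (B := H)).toLinearMap ∘ₗ LinearMap.id)
  rw [LinearMap.convMul_def]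
  congr 1
  apply LinearMap.ext
  intro h
  rw [LinearMap.comp_id, LinearMap.comp_id, LinearMap.comp_id]
  change comul h = LinearMap.mul' R (H ⊗[R] H) (TensorProduct.map _ _ (comul h))
  induction comul (R := R) h using TensorProduct.induction_on with
  | zero => simp
  | tmul a b => simp
  | add a b ha hb => rw [map_add, map_add, ← ha, ← hb]

instance : IsMonHom (emb R H) where
  one_hom := by
    apply (rep R H).homEquiv.injective
    change umap (η[op (CommAlgCat.of R H)] ≫ emb R H).unop.hom (un R H) = umap (η[Ao R H]).unop.hom (un R H)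
    have h1 : η[Ao R H] = 1 := by
      rw [Hom.one_def, toUnit_unique (toUnit (𝟙_ _)) (𝟙 _), Category.id_comp]
    have h2 : umap (1 : 𝟙_ _ ⟶ Ao R H).unop.hom (un R H) = 1 := by
      have := val_mul (1 : 𝟙_ _ ⟶ Ao R H) 1
      rw [_root_.mul_one] at this
      exact mul_eq_left.1 this.symm
    rw [h1, h2, val_emb]
    apply Units.ext
    apply ofConv_injective
    apply LinearMap.ext
    intro h
    change counit h = algebraMap R R (counit h)
    rfl
  mul_hom := by
    apply (rep R H).homEquiv.injective
    change umap (μ[op (CommAlgCat.of R H)] ≫ emb R H).unop.hom (un R H) =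
      umap ((emb R H ⊗ₘ emb R H) ≫ μ[Ao R H]).unop.hom (un R H)
    have h1 : (emb R H ⊗ₘ emb R H) ≫ μ[Ao R H] = (fst _ _ ≫ emb R H) * (snd _ _ ≫ emb R H) := by
      rw [Hom.mul_def]
      congr 1
      ext <;> simp
    rw [h1, val_mul, val_emb, val_emb, val_emb]
    exact comul_eq R H

end K809.UnitGrp
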